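/-
The Suzuki–Tits ovoid and the two models of the Suzuki groups.
-/
import Mathlib
import Cfsg.Prelude.Def_LieExceptional
import Cfsg.Agent.Lib.SuzukiLaws.Structure

set_option autoImplicit false

namespace CfsgLib.Suzuki

open Matrix Cfsg.Lie CfsgLib.Spectrum CfsgLib.SuzukiLaws
open scoped Pointwise

variable {F : Type*} [Field F]

/-- The coordinates of a finite point of the ovoid. -/
def ovVec (m : ℕ) (x y : F) : Fin 4 → F :=
  ![x * y + x ^ (2 ^ (m + 1) + 2) + y ^ (2 ^ (m + 1)), y, x, 1]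

theorem ovVec_ne (m : ℕ) (x y : F) : ovVec m x y ≠ 0 := fun h => by
  simpa [ovVec] using congrFun h 3

theorem e0_ne : (![1, 0, 0, 0] : Fin 4 → F) ≠ 0 := fun h => by simpa using congrFun h 0

/-- The parametrisation of the ovoid. -/
noncomputable def param (m : ℕ) : Option (F × F) → Cfsg.suzukiOvoid F m
  | none => ⟨Projectivization.mk F ![1, 0, 0, 0] e0_ne, _, e0_ne, rfl, Or.inl rfl⟩
  | some p => ⟨Projectivization.mk F (ovVec m p.1 p.2) (ovVec_ne m p.1 p.2), _, ovVec_ne m p.1 p.2,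
      rfl, Or.inr ⟨p.1, p.2, rfl⟩⟩

theorem param_bijective (m : ℕ) : Function.Bijective (param (F := F) m) := by
  constructor
  · rintro (_ | ⟨x, y⟩) (_ | ⟨x', y'⟩) h <;>
      have h' := (Projectivization.mk_eq_mk_iff' F _ _ _ _).1 (congrArg Subtype.val h) <;>
      obtain ⟨a, ha⟩ := h'
    · rfl
    · have h3 := congrFun ha 3
      simp [ovVec] at h3
      subst h3
      simpa using congrFun ha 0
    · simpa [ovVec] using congrFun ha 3
    · have h3 := congrFun ha 3
      simp [ovVec] at h3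
      subst h3
      have h1 := congrFun ha 1
      have h2 := congrFun ha 2
      simp [ovVec] at h1 h2
      rw [h1, h2]
  · rintro ⟨p, v, hv, rfl, rfl | ⟨x, y, rfl⟩⟩
    · exact ⟨none, rfl⟩
    · exact ⟨some (x, y), rfl⟩

theorem card_ovoid [Fintype F] (m : ℕ) :
    Nat.card (Cfsg.suzukiOvoid F m) = Fintype.card F ^ 2 + 1 := by
  rw [← Nat.card_eq_of_bijective _ (param_bijective m), Nat.card_eq_fintype_card,
    Fintype.card_option, Fintype.card_prod, sq]

section

variable [Fintype F] [CharP F 2] {m : ℕ}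

theorem sigma_sq (hF : Fintype.card F = 2 ^ (2 * m + 1)) (x : F) :
    (x ^ 2 ^ (m + 1)) ^ 2 ^ (m + 1) = x ^ 2 :=
  pow_q₀_sq hF x

/-- A vector satisfying the equation of the first columns spans a point of the ovoid. -/
theorem mk_mem_ovoid {v : Fin 4 → F} (hv : v ≠ 0)
    (h3 : v 3 = 0 → v 2 = 0 ∧ v 1 = 0)
    (heq : v 0 * v 3 * v 3 ^ 2 ^ (m + 1) + v 1 * v 2 * v 3 ^ 2 ^ (m + 1)
      + v 2 * v 2 * v 2 ^ 2 ^ (m + 1) + v 3 * v 3 * v 1 ^ 2 ^ (m + 1) = 0) :
    Projectivization.mk F v hv ∈ Cfsg.suzukiOvoid F m := by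
  have h2 : (2 : F) = 0 := CharTwo.two_eq_zero
  by_cases h : v 3 = 0
  · obtain ⟨e2, e1⟩ := h3 h
    refine ⟨![1, 0, 0, 0], e0_ne, (Projectivization.mk_eq_mk_iff' F _ _ _ _).2 ⟨v 0, ?_⟩, Or.inl rfl⟩
    funext i
    fin_cases i <;> simp [h, e1, e2]
  · refine ⟨ovVec m (v 2 / v 3) (v 1 / v 3), ovVec_ne _ _ _,
      (Projectivization.mk_eq_mk_iff' F _ _ _ _).2 ⟨v 3, ?_⟩, Or.inr ⟨_, _, rfl⟩⟩
    funext i
    fin_cases i
    · have hp : v 3 ^ 2 ^ (m + 1) ≠ 0 := pow_ne_zero _ h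
      simp [ovVec, pow_add, div_pow]
      field_simp
      linear_combination heq - (v 0 * v 3 * v 3 ^ 2 ^ (m + 1)) * h2
    all_goals simp [ovVec, mul_div_cancel₀, h]

theorem col_ne (g : GL (Fin 4) F) : (fun i => g.1 i 0) ≠ 0 := fun h => by
  have e : ((g⁻¹ * g : GL (Fin 4) F) : Matrix (Fin 4) (Fin 4) F) 0 0 = 1 := by simp
  rw [Units.val_mul, Matrix.mul_apply] at e
  simp [show ∀ i, g.1 i 0 = 0 from congrFun h] at e

theorem col_mem_ovoid (hF : Fintype.card F = 2 ^ (2 * m + 1)) {g : GL (Fin 4) F}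
    (hg : g ∈ Sz F (2 ^ (m + 1))) :
    Projectivization.mk F (fun i => g.1 i 0) (col_ne g) ∈ Cfsg.suzukiOvoid F m :=
  mk_mem_ovoid _ (col_zero hF hg).1 (col_zero hF hg).2

variable (hF : Fintype.card F = 2 ^ (2 * m + 1))

/-- The underlying special linear element. -/
def sl (g : Sz F (2 ^ (m + 1))) : Matrix.SpecialLinearGroup (Fin 4) F :=
  ⟨g.1.1, sp4_det (sz_mem g.2).1⟩

theorem sl_mul (g h : Sz F (2 ^ (m + 1))) : sl (g * h) = sl g * sl h := Subtype.ext rfl

theorem sl_smul_mk (g : Matrix.SpecialLinearGroup (Fin 4) F) {v : Fin 4 → F} (hv : v ≠ 0)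
    (hv' : (g : Matrix (Fin 4) (Fin 4) F) *ᵥ v ≠ 0) :
    g • Projectivization.mk F v hv = Projectivization.mk F ((g : Matrix (Fin 4) (Fin 4) F) *ᵥ v) hv' := by
  rw [Projectivization.smul_mk]
  rfl

omit [Fintype F] [CharP F 2] in
theorem mulVec_e0 (A : Matrix (Fin 4) (Fin 4) F) : A *ᵥ ![1, 0, 0, 0] = fun i => A i 0 := by
  funext i
  simp [Matrix.mulVec, dotProduct, Fin.sum_univ_four]

theorem sl_smul_inf (g : Sz F (2 ^ (m + 1))) :
    sl g • Cfsg.suzukiPointInfinity F = Projectivization.mk F (fun i => g.1.1 i 0) (col_ne g.1) := by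
  have hv' : g.1.1 *ᵥ ![1, 0, 0, 0] ≠ 0 := by rw [mulVec_e0]; exact col_ne g.1
  rw [Cfsg.suzukiPointInfinity, sl_smul_mk (sl g) _ hv']
  congr 1
  exact mulVec_e0 _

include hF in
theorem orbit_inf (g : Sz F (2 ^ (m + 1))) :
    sl g • Cfsg.suzukiPointInfinity F ∈ Cfsg.suzukiOvoid F m := by
  rw [sl_smul_inf]
  exact col_mem_ovoid hF g.2

omit [Fintype F] [CharP F 2] in
theorem inf_mem : Cfsg.suzukiPointInfinity F ∈ Cfsg.suzukiOvoid F m :=
  ⟨_, e0_ne, rfl, Or.inl rfl⟩

theorem UW_smul_inf (a b : F) :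
    sl (U hF a b * W hF) • Cfsg.suzukiPointInfinity F =
      Projectivization.mk F (ovVec m a (b + a * a ^ 2 ^ (m + 1))) (ovVec_ne _ _ _) := by
  rw [sl_smul_inf]
  congr 1
  funext i
  have h2 : (2 : F) = 0 := CharTwo.two_eq_zero
  have ha := sigma_sq hF a
  simp only [U, W, Subgroup.coe_mul, Units.val_mul, uUnit_val, antiJUnit]
  have hp : ∀ x : F, x ^ (2 ^ (m + 1) + 2) = x ^ 2 ^ (m + 1) * (x * x) := fun x => by
    rw [pow_add, pow_two]
  fin_cases i <;>
    simp [uMat, antiJ, ovVec, Matrix.mul_apply, Fin.sum_univ_four, pow_q₀_add, mul_pow, hp, ha]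
  linear_combination -(a * a * a ^ 2 ^ (m + 1)) * h2

include hF in
theorem exists_orbit {p : Projectivization F (Fin 4 → F)} (hp : p ∈ Cfsg.suzukiOvoid F m) :
    ∃ h : Sz F (2 ^ (m + 1)), sl h • Cfsg.suzukiPointInfinity F = p := by
  obtain ⟨v, hv, rfl, rfl | ⟨x, y, rfl⟩⟩ := hp
  · refine ⟨1, ?_⟩
    rw [show sl (1 : Sz F (2 ^ (m + 1))) = 1 from Subtype.ext rfl, one_smul]
    rfl
  · refine ⟨U hF x (y + x * x ^ 2 ^ (m + 1)) * W hF, ?_⟩
    rw [UW_smul_inf hF]
    congr 1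
    rw [add_assoc, CharTwo.add_self_eq_zero, add_zero]
    rfl

/-- The map between the two models. -/
noncomputable def toSL : Sz F (2 ^ (m + 1)) →* Cfsg.Sz F m :=
  MonoidHom.mk' (fun g => ⟨sl g, by
    rw [MulAction.mem_stabilizer_set_iff_subset_smul_set (Set.toFinite _)]
    intro p hp
    obtain ⟨h, rfl⟩ := exists_orbit hF hp
    refine ⟨sl (g⁻¹ * h) • Cfsg.suzukiPointInfinity F, orbit_inf hF _, ?_⟩
    show sl g • _ = _
    rw [smul_smul, ← sl_mul, mul_inv_cancel_left]⟩) fun g h => Subtype.ext (sl_mul g h)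

theorem toSL_injective : Function.Injective (toSL hF) := fun g h e => by
  have e' : g.1.1 = h.1.1 := congrArg (fun s : Cfsg.Sz F m => (s : Matrix.SpecialLinearGroup (Fin 4) F).1) e
  exact Subtype.ext (Units.ext e')

omit [CharP F 2] in
/-- A sparse polynomial function vanishing identically has zero coefficients. -/
theorem coeff_of_vanish {s : Finset ℕ} (hs : ∀ i ∈ s, i < Fintype.card F) {c : ℕ → F}
    (h : ∀ x : F, ∑ i ∈ s, c i * x ^ i = 0) : ∀ i ∈ s, c i = 0 := by
  classical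
  intro i hi
  have hp : ∑ j ∈ s, Polynomial.monomial j (c j) = 0 := by
    refine Polynomial.eq_zero_of_natDegree_lt_card_of_eval_eq_zero _ (f := id)
      Function.injective_id (fun x => ?_) ?_
    · simpa [Polynomial.eval_finset_sum] using h x
    · refine Nat.lt_of_le_of_lt (Polynomial.natDegree_sum_le_of_forall_le s _ (fun j hj => ?_))
        (Nat.sub_lt Fintype.card_pos one_pos)
      exact (Polynomial.natDegree_monomial_le _).trans (Nat.le_sub_one_of_lt (hs j hj))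
  have := congrArg (fun q => Polynomial.coeff q i) hp
  simpa [Polynomial.finset_sum_coeff, Polynomial.coeff_monomial, hi] using this

include hF in
/-- An element of the stabiliser of the ovoid fixing both reference points is a torus element. -/
theorem fix_two (hm : 1 ≤ m) {g : Matrix.SpecialLinearGroup (Fin 4) F}
    (hg : g ∈ Cfsg.Sz F m) (hi : g • Cfsg.suzukiPointInfinity F = Cfsg.suzukiPointInfinity F)
    (hz : g • Cfsg.suzukiPointZero F = Cfsg.suzukiPointZero F) :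
    ∃ s : Fˣ, g = sl (T hF s) := by
  classical
  have h2 : (2 : F) = 0 := CharTwo.two_eq_zero
  set M : Matrix (Fin 4) (Fin 4) F := (g : Matrix (Fin 4) (Fin 4) F) with hM
  obtain ⟨σ, hσ⟩ : ∃ σ, σ = 2 ^ (m + 1) := ⟨_, rfl⟩
  have hσ4 : 4 ≤ σ := by
    calc 4 = 2 ^ 2 := rfl
      _ ≤ σ := by rw [hσ]; exact Nat.pow_le_pow_right two_pos (by omega)
  have hσ0 : σ ≠ 0 := by omega
  have hσq : σ + 2 < Fintype.card F := by
    have : σ * 2 ≤ Fintype.card F := by
      rw [hF, hσ, ← pow_succ]; exact Nat.pow_le_pow_right two_pos (by omega)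
    omega
  have hne : ∀ v : Fin 4 → F, v ≠ 0 → M *ᵥ v ≠ 0 := by
    intro v hv h
    refine hv ?_
    have : ((g⁻¹ * g : Matrix.SpecialLinearGroup (Fin 4) F) : Matrix (Fin 4) (Fin 4) F) *ᵥ v = v := by
      rw [inv_mul_cancel]; simp
    rw [Matrix.SpecialLinearGroup.coe_mul, ← Matrix.mulVec_mulVec, ← hM, h, Matrix.mulVec_zero] at this
    exact this.symm
  -- the two fixed columns
  rw [Cfsg.suzukiPointInfinity, sl_smul_mk g _ (hne _ e0_ne), Projectivization.mk_eq_mk_iff'] at hi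
  rw [Cfsg.suzukiPointZero, sl_smul_mk g _ (hne _ (fun h => by simpa using congrFun h 3)),
    Projectivization.mk_eq_mk_iff'] at hz
  obtain ⟨α, hα⟩ := hi
  obtain ⟨δ, hδ⟩ := hz
  have c0 : M 1 0 = 0 ∧ M 2 0 = 0 ∧ M 3 0 = 0 := by
    refine ⟨?_, ?_, ?_⟩
    · simpa [Matrix.mulVec, dotProduct, Fin.sum_univ_four] using (congrFun hα 1).symm
    · simpa [Matrix.mulVec, dotProduct, Fin.sum_univ_four] using (congrFun hα 2).symm
    · simpa [Matrix.mulVec, dotProduct, Fin.sum_univ_four] using (congrFun hα 3).symm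
  have c3 : M 0 3 = 0 ∧ M 1 3 = 0 ∧ M 2 3 = 0 := by
    refine ⟨?_, ?_, ?_⟩
    · simpa [Matrix.mulVec, dotProduct, Fin.sum_univ_four] using (congrFun hδ 0).symm
    · simpa [Matrix.mulVec, dotProduct, Fin.sum_univ_four] using (congrFun hδ 1).symm
    · simpa [Matrix.mulVec, dotProduct, Fin.sum_univ_four] using (congrFun hδ 2).symm
  obtain ⟨h10, h20, h30⟩ := c0
  obtain ⟨h03, h13, h23⟩ := c3
  have hdet := g.2
  change M.det = 1 at hdet
  rw [det4_eq] at hdet
  -- every finite point goes to a finite point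
  have key : ∀ x y : F, M 3 3 + M 3 1 * y + M 3 2 * x ≠ 0 ∧
      (M 0 0 * (x * y + x ^ σ * x ^ 2 + y ^ σ) + M 0 1 * y + M 0 2 * x) *
        (M 3 3 + M 3 1 * y + M 3 2 * x) * (M 3 3 + M 3 1 * y + M 3 2 * x) ^ σ =
      (M 1 1 * y + M 1 2 * x) * (M 2 1 * y + M 2 2 * x) * (M 3 3 + M 3 1 * y + M 3 2 * x) ^ σ
        + (M 2 1 * y + M 2 2 * x) * (M 2 1 * y + M 2 2 * x) * (M 2 1 * y + M 2 2 * x) ^ σ
        + (M 3 3 + M 3 1 * y + M 3 2 * x) * (M 3 3 + M 3 1 * y + M 3 2 * x) *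
          (M 1 1 * y + M 1 2 * x) ^ σ := by
    intro x y
    have hmem : g • Projectivization.mk F (ovVec m x y) (ovVec_ne m x y) ∈ Cfsg.suzukiOvoid F m :=
      (MulAction.mem_stabilizer_set.1 hg _).2 ⟨_, ovVec_ne m x y, rfl, Or.inr ⟨x, y, rfl⟩⟩
    rw [sl_smul_mk g _ (hne _ (ovVec_ne m x y))] at hmem
    change Projectivization.mk F (M *ᵥ ovVec m x y) _ ∈ _ at hmem
    set w := M *ᵥ ovVec m x y with hw
    have w1 : w 1 = M 1 1 * y + M 1 2 * x := by
      simp [hw, ovVec, Matrix.mulVec, dotProduct, Fin.sum_univ_four, h10, h13]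
    have w2 : w 2 = M 2 1 * y + M 2 2 * x := by
      simp [hw, ovVec, Matrix.mulVec, dotProduct, Fin.sum_univ_four, h20, h23]
    have w3 : w 3 = M 3 3 + M 3 1 * y + M 3 2 * x := by
      simp [hw, ovVec, Matrix.mulVec, dotProduct, Fin.sum_univ_four, h30]
      ring
    have w0 : w 0 = M 0 0 * (x * y + x ^ σ * x ^ 2 + y ^ σ) + M 0 1 * y + M 0 2 * x := by
      simp [hw, ovVec, Matrix.mulVec, dotProduct, Fin.sum_univ_four, h03, pow_add, ← hσ]
    rw [← w0, ← w1, ← w2, ← w3]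
    obtain ⟨v, hv, he, rfl | ⟨X, Y, rfl⟩⟩ := hmem
    · exfalso
      -- the point at infinity is fixed, hence not the image of a finite point
      have hinf : g • Cfsg.suzukiPointInfinity F = Cfsg.suzukiPointInfinity F := by
        rw [Cfsg.suzukiPointInfinity, sl_smul_mk g _ (hne _ e0_ne),
          Projectivization.mk_eq_mk_iff']
        exact ⟨α, hα⟩
      have hback : g • Projectivization.mk F (ovVec m x y) (ovVec_ne m x y) =
          g • Cfsg.suzukiPointInfinity F := by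
        rw [hinf, sl_smul_mk g _ (hne _ (ovVec_ne m x y))]
        exact he
      have := (Projectivization.mk_eq_mk_iff' F _ _ _ _).1 (MulAction.injective g hback)
      obtain ⟨a, ha⟩ := this
      simpa [ovVec] using congrFun ha 3
    · obtain ⟨a, ha⟩ := (Projectivization.mk_eq_mk_iff' F _ _ _ _).1 he
      have a3 : a = w 3 := by simpa using congrFun ha 3
      have e2 : a * X = w 2 := by simpa using congrFun ha 2
      have e1 : a * Y = w 1 := by simpa using congrFun ha 1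
      have e0 : a * (X * Y + X ^ (σ + 2) + Y ^ σ) = w 0 := by simpa [hσ] using congrFun ha 0
      subst a3
      refine ⟨fun h0 => hne _ (ovVec_ne m x y) ?_, ?_⟩
      · rw [← hw]
        funext i
        fin_cases i <;> simp [← e0, ← e1, ← e2, h0]
      · rw [← e0, ← e1, ← e2, mul_pow, mul_pow]
        ring
  -- the last coordinate is constant
  have h33 : M 3 3 ≠ 0 := by simpa using (key 0 0).1
  have h31 : M 3 1 = 0 := by
    by_contra h
    exact (key 0 (-M 3 3 / M 3 1)).1 (by field_simp; ring)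
  have h32 : M 3 2 = 0 := by
    by_contra h
    exact (key (-M 3 3 / M 3 2) 0).1 (by field_simp; ring)
  have hp : M 3 3 ^ σ ≠ 0 := pow_ne_zero _ h33
  have hd : ({1, 2, σ, σ + 2} : Finset ℕ).card = 4 := by
    rw [Finset.card_insert_of_notMem (by simp; omega), Finset.card_insert_of_notMem (by simp; omega),
      Finset.card_insert_of_notMem (by simp), Finset.card_singleton]
  have hlt : ∀ i ∈ ({1, 2, σ, σ + 2} : Finset ℕ), i < Fintype.card F := by
    intro i hi
    simp only [Finset.mem_insert, Finset.mem_singleton] at hi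
    omega
  -- the restriction to `x = 0`
  have hy := coeff_of_vanish (s := {1, 2, σ, σ + 2}) hlt
    (c := fun i => if i = 1 then M 0 1 * M 3 3 * M 3 3 ^ σ
      else if i = 2 then -(M 1 1 * M 2 1 * M 3 3 ^ σ)
      else if i = σ then M 0 0 * M 3 3 * M 3 3 ^ σ - M 3 3 * M 3 3 * M 1 1 ^ σ
      else -(M 2 1 * M 2 1 * M 2 1 ^ σ)) (by
    intro y
    have h := (key 0 y).2
    simp [h31, h32, zero_pow hσ0] at h
    rw [Finset.sum_insert (by simp; omega), Finset.sum_insert (by simp; omega),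
      Finset.sum_insert (by simp), Finset.sum_singleton]
    simp [show σ ≠ 1 by omega, show σ ≠ 2 by omega, show σ + 2 ≠ 1 by omega,
      show σ + 2 ≠ 2 by omega, show σ + 2 ≠ σ by omega, hσ0, mul_pow] at h ⊢
    rw [pow_add]
    linear_combination h)
  have hx := coeff_of_vanish (s := {1, 2, σ, σ + 2}) hlt
    (c := fun i => if i = 1 then M 0 2 * M 3 3 * M 3 3 ^ σ
      else if i = 2 then -(M 1 2 * M 2 2 * M 3 3 ^ σ)
      else if i = σ then -(M 3 3 * M 3 3 * M 1 2 ^ σ)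
      else M 0 0 * M 3 3 * M 3 3 ^ σ - M 2 2 * M 2 2 * M 2 2 ^ σ) (by
    intro x
    have h := (key x 0).2
    simp [h31, h32, zero_pow hσ0] at h
    rw [Finset.sum_insert (by simp; omega), Finset.sum_insert (by simp; omega),
      Finset.sum_insert (by simp), Finset.sum_singleton]
    simp [show σ ≠ 1 by omega, show σ ≠ 2 by omega, show σ + 2 ≠ 1 by omega,
      show σ + 2 ≠ 2 by omega, show σ + 2 ≠ σ by omega, hσ0, mul_pow] at h ⊢
    rw [pow_add]
    linear_combination h)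
  have y1 := hy 1 (by simp)
  have ys := hy σ (by simp)
  have yt := hy (σ + 2) (by simp)
  have x1 := hx 1 (by simp)
  have xs := hx σ (by simp)
  have xt := hx (σ + 2) (by simp)
  simp [show σ ≠ 1 by omega, show σ ≠ 2 by omega, show σ + 2 ≠ 1 by omega,
    show σ + 2 ≠ 2 by omega, h33, hp, hσ0, sub_eq_zero] at y1 ys yt x1 xs xt
  -- the middle block is diagonal
  simp [y1, x1, yt, xs, h10, h20, h30, h03, h13, h23, h31, h32] at hdet
  have k11 := (key 1 1).2
  simp [y1, x1, yt, xs, h31, h32, mul_pow] at k11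
  set u : F := M 2 2 / M 3 3 with hu
  set w : F := M 1 1 / M 3 3 with hw'
  have h22' : M 2 2 = u * M 3 3 := by rw [hu, div_mul_cancel₀ _ h33]
  have h11' : M 1 1 = w * M 3 3 := by rw [hw', div_mul_cancel₀ _ h33]
  have hA : M 0 0 = u ^ σ * u * u * M 3 3 := by
    rw [h22', mul_pow] at xt
    have : M 0 0 * (M 3 3 * M 3 3 ^ σ) = u ^ σ * u * u * M 3 3 * (M 3 3 * M 3 3 ^ σ) := by
      linear_combination xt
    exact mul_right_cancel₀ (mul_ne_zero h33 hp) this
  have hu0 : u ≠ 0 := by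
    intro h
    rw [h, mul_zero, zero_mul] at hA
    simp [hA] at hdet
  have hw : w = u ^ σ * u := by
    rw [hA, h11', h22', mul_pow, mul_pow] at k11
    rw [hA, h11', mul_pow] at ys
    have e : w * u * (M 3 3 * M 3 3 * M 3 3 ^ σ) =
        u ^ σ * u * u * (M 3 3 * M 3 3 * M 3 3 ^ σ) := by
      linear_combination (ys - k11)
    have e' := mul_right_cancel₀ (mul_ne_zero (mul_ne_zero h33 h33) hp) e
    exact mul_right_cancel₀ hu0 e'
  obtain ⟨t, ht⟩ := (bijective_iterateFrobenius F 2 (m + 1)).2 u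
  rw [iterateFrobenius_def] at ht
  subst hσ
  have ht0 : t ≠ 0 := fun h => hu0 (by rw [← ht, h, zero_pow (by positivity)])
  refine ⟨Units.mk0 t ht0, ?_⟩
  have tσ : u ^ 2 ^ (m + 1) = t ^ 2 := by rw [← ht, sigma_sq hF]
  rw [hA, h11', h22', hw, tσ] at hdet
  set d := M 3 3 * (t * u) with hdd
  have hd1 : d = 1 := by
    have e4 : (d - 1) ^ 4 = 0 := by
      linear_combination hdet + (-2 * d ^ 3 + 3 * d ^ 2 - 2 * d + 1) * h2
    exact sub_eq_zero.1 (pow_eq_zero_iff (by norm_num) |>.1 e4)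
  have hD : M 3 3 = (t * u)⁻¹ := by
    exact eq_inv_of_mul_eq_one_left (hdd ▸ hd1)
  have hp1 : ∀ x : F, x ^ (2 ^ (m + 1) + 1) = x ^ 2 ^ (m + 1) * x := fun x => pow_succ _ _
  apply Subtype.ext
  show M = (torus (2 ^ (m + 1)) (Units.mk0 t ht0)).1
  ext i j
  fin_cases i <;> fin_cases j <;>
    simp [torus, y1, x1, yt, xs, h10, h20, h30, h03, h13, h23, h31, h32, hA, h11', h22', hw,
      tσ, hD, hp1, ht] <;>
    field_simp

end

end CfsgLib.Suzuki
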