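/-
The action of the Suzuki groups on the ovoid: isomorphism of the two models, stabilisers, order,
simplicity.
-/
import Mathlib
import Cfsg.Agent.Lib.Suzuki.Ovoid

set_option autoImplicit false

namespace CfsgLib.Suzuki

open Matrix Cfsg.Lie CfsgLib.Spectrum CfsgLib.SuzukiLaws
open scoped Pointwise

variable {F : Type*} [Field F] [Fintype F] [CharP F 2] {m : ℕ}
  (hF : Fintype.card F = 2 ^ (2 * m + 1))

omit [Fintype F] [CharP F 2] in
/-- The point at infinity. -/
noncomputable abbrev inf : Cfsg.suzukiOvoid F m := ⟨Cfsg.suzukiPointInfinity F, inf_mem⟩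

omit [Fintype F] [CharP F 2] in
theorem e3_eq : (![0, 0, 0, 1] : Fin 4 → F) = ovVec m 0 0 := by
  funext i
  fin_cases i <;> simp [ovVec, zero_pow]

omit [Fintype F] [CharP F 2] in
theorem zero_mem : Cfsg.suzukiPointZero F ∈ Cfsg.suzukiOvoid F m :=
  ⟨![0, 0, 0, 1], fun h => by simpa using congrFun h 3, rfl, Or.inr ⟨0, 0, e3_eq⟩⟩

omit [Fintype F] [CharP F 2] in
/-- The point zero. -/
noncomputable abbrev zero : Cfsg.suzukiOvoid F m := ⟨Cfsg.suzukiPointZero F, zero_mem⟩

omit [Fintype F] [CharP F 2] in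
theorem inf_ne_zero : (inf : Cfsg.suzukiOvoid F m) ≠ zero := fun h => by
  obtain ⟨a, ha⟩ := (Projectivization.mk_eq_mk_iff' F _ _ _ _).1 (congrArg Subtype.val h)
  simpa using congrFun ha 0

theorem toSL_smul_inf (g : Sz F (2 ^ (m + 1))) :
    ((toSL hF g • inf : Cfsg.suzukiOvoid F m) : Projectivization F (Fin 4 → F)) =
      Projectivization.mk F (fun i => g.1.1 i 0) (col_ne g.1) :=
  sl_smul_inf g

theorem W_smul_inf : toSL hF (W hF) • inf = (zero : Cfsg.suzukiOvoid F m) := by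
  refine Subtype.ext ((toSL_smul_inf hF _).trans ?_)
  show _ = Projectivization.mk F _ _
  congr 1
  funext i
  fin_cases i <;> simp [W, antiJUnit, antiJ]

theorem toSL_one' : toSL hF (1 : Sz F (2 ^ (m + 1))) = 1 := map_one _

theorem smul_W_W (p : Cfsg.suzukiOvoid F m) :
    toSL hF (W hF) • toSL hF (W hF) • p = p := by
  rw [smul_smul, ← map_mul, W_mul_W, map_one, one_smul]

theorem W_smul_zero : toSL hF (W hF) • (zero : Cfsg.suzukiOvoid F m) = inf := by
  rw [← W_smul_inf hF, smul_W_W]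

theorem U_smul_inf (a b : F) : toSL hF (U hF a b) • inf = (inf : Cfsg.suzukiOvoid F m) := by
  refine Subtype.ext ((toSL_smul_inf hF _).trans ?_)
  show _ = Projectivization.mk F _ _
  congr 1
  funext i
  fin_cases i <;> simp [U, uUnit_val, uMat]

theorem T_smul_inf (s : Fˣ) : toSL hF (T hF s) • inf = (inf : Cfsg.suzukiOvoid F m) := by
  refine Subtype.ext ((toSL_smul_inf hF _).trans ?_)
  show _ = Projectivization.mk F _ _
  rw [Projectivization.mk_eq_mk_iff']
  refine ⟨(torus (2 ^ (m + 1)) s).1 0 0, ?_⟩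
  funext i
  fin_cases i <;> simp [T, torus]

theorem T_smul_zero (s : Fˣ) : toSL hF (T hF s) • zero = (zero : Cfsg.suzukiOvoid F m) := by
  rw [← W_smul_inf hF, smul_smul, ← map_mul,
    show T hF s * W hF = W hF * T hF s⁻¹ by
      rw [← W_mul_T, ← mul_assoc, ← mul_assoc, W_mul_W, one_mul],
    map_mul, mul_smul, T_smul_inf]

theorem U_smul_zero (a b : F) : ((toSL hF (U hF a b) • zero : Cfsg.suzukiOvoid F m) :
    Projectivization F (Fin 4 → F)) =
      Projectivization.mk F (ovVec m a (b + a * a ^ 2 ^ (m + 1))) (ovVec_ne _ _ _) := by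
  rw [← W_smul_inf hF, smul_smul, ← map_mul]
  exact UW_smul_inf hF a b

/-- Every finite point is the image of the point zero under exactly one unipotent element. -/
theorem existsUnique_U {p : Cfsg.suzukiOvoid F m} (hp : p ≠ inf) :
    ∃! ab : F × F, toSL hF (U hF ab.1 ab.2) • zero = p := by
  obtain ⟨o, rfl⟩ := (param_bijective m).2 p
  rcases o with _ | ⟨x, y⟩
  · exact absurd rfl hp
  refine ⟨(x, y + x * x ^ 2 ^ (m + 1)), Subtype.ext ?_, fun ab h => ?_⟩
  · show ((toSL hF (U hF x (y + x * x ^ 2 ^ (m + 1))) • zero : Cfsg.suzukiOvoid F m) :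
      Projectivization F (Fin 4 → F)) = _
    rw [U_smul_zero]
    congr 1
    rw [add_assoc, CharTwo.add_self_eq_zero, add_zero]
  · have e : param m (some (ab.1, ab.2 + ab.1 * ab.1 ^ 2 ^ (m + 1))) = param m (some (x, y)) :=
      (Subtype.ext (U_smul_zero hF ab.1 ab.2).symm).trans h
    have e' := Option.some.inj ((param_bijective m).1 e)
    simp only [Prod.mk.injEq] at e'
    refine Prod.ext e'.1 ?_
    rw [← e'.2, ← e'.1, add_assoc, CharTwo.add_self_eq_zero, add_zero]

/-- The stabiliser of the point at infinity is the Borel subgroup. -/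
theorem stab_inf (g : Sz F (2 ^ (m + 1))) :
    toSL hF g • inf = (inf : Cfsg.suzukiOvoid F m) ↔
      ∃ (s : Fˣ) (a b : F), g = T hF s * U hF a b := by
  constructor
  · intro h
    have h' := congrArg Subtype.val h
    rw [toSL_smul_inf] at h'
    obtain ⟨c, hc⟩ := (Projectivization.mk_eq_mk_iff' F _ _ _ _).1 h'
    have h1 : g.1.1 1 0 = 0 := by simpa using (congrFun hc 1).symm
    have h2 : g.1.1 2 0 = 0 := by simpa using (congrFun hc 2).symm
    have h3 : g.1.1 3 0 = 0 := by simpa using (congrFun hc 3).symm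
    obtain ⟨s, a, b, e, -⟩ := exists_borel hF g h1 h2 h3
    exact ⟨s, a, b, e⟩
  · rintro ⟨s, a, b, rfl⟩
    rw [map_mul, mul_smul, U_smul_inf, T_smul_inf]

theorem T_one : T hF (1 : Fˣ) = 1 := by
  refine mul_left_cancel (a := T hF (1 : Fˣ)) ?_
  rw [T_mul, one_mul, mul_one]

theorem T_injective : Function.Injective (T hF) := by
  intro s t e
  have := congrArg (fun g : Sz F (2 ^ (m + 1)) => g.1.1 1 1) e
  simp [T, torus] at this
  exact Units.ext this

theorem TU_injective {s t : Fˣ} {a b c d : F} (e : T hF s * U hF a b = T hF t * U hF c d) :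
    s = t ∧ a = c ∧ b = d := by
  have hT : s = t := by
    have := congrArg (fun g : Sz F (2 ^ (m + 1)) => g.1.1 1 1) e
    simp [T, torus, U, uUnit_val, uMat, Matrix.mul_apply, Fin.sum_univ_four] at this
    exact Units.ext this
  subst hT
  have e' := mul_left_cancel e
  have e1 := congrArg (fun g : Sz F (2 ^ (m + 1)) => g.1.1 0 1) e'
  have e2 := congrArg (fun g : Sz F (2 ^ (m + 1)) => g.1.1 0 2) e'
  simp [U, uUnit_val, uMat] at e1 e2
  exact ⟨rfl, e1, e2⟩

/-- The stabiliser of the two reference points is the torus. -/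
theorem stab_two (g : Sz F (2 ^ (m + 1))) :
    (toSL hF g • inf = (inf : Cfsg.suzukiOvoid F m) ∧
      toSL hF g • zero = (zero : Cfsg.suzukiOvoid F m)) ↔ ∃ s : Fˣ, g = T hF s := by
  constructor
  · rintro ⟨h1, h2⟩
    obtain ⟨s, a, b, rfl⟩ := (stab_inf hF g).1 h1
    rw [map_mul, mul_smul] at h2
    have h3 : toSL hF (U hF a b) • zero = (zero : Cfsg.suzukiOvoid F m) := by
      have := congrArg (toSL hF (T hF s⁻¹) • ·) h2
      simpa only [smul_smul, ← map_mul, ← mul_assoc, T_mul, inv_mul_cancel, T_one, one_mul,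
        T_smul_zero] using this
    have h4 : (a, b) = ((0 : F), (0 : F)) :=
      (existsUnique_U hF (p := zero) inf_ne_zero.symm).unique (y₁ := (a, b)) h3
        (by show toSL hF (U hF 0 0) • zero = _; rw [U_zero, map_one, one_smul])
    simp only [Prod.mk.injEq] at h4
    exact ⟨s, by rw [h4.1, h4.2, U_zero, mul_one]⟩
  · rintro ⟨s, rfl⟩
    exact ⟨T_smul_inf hF s, T_smul_zero hF s⟩

theorem exists_smul_inf (p : Cfsg.suzukiOvoid F m) :
    ∃ h : Sz F (2 ^ (m + 1)), toSL hF h • inf = p := by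
  obtain ⟨h, e⟩ := exists_orbit hF p.2
  exact ⟨h, Subtype.ext e⟩

theorem exists_smul_pair {p r : Cfsg.suzukiOvoid F m} (h : p ≠ r) :
    ∃ g : Sz F (2 ^ (m + 1)), toSL hF g • inf = p ∧ toSL hF g • zero = r := by
  obtain ⟨g, rfl⟩ := exists_smul_inf hF p
  have hne : (toSL hF g)⁻¹ • r ≠ inf := fun e => h (by rw [← e, smul_inv_smul])
  obtain ⟨⟨a, b⟩, hab, -⟩ := existsUnique_U hF hne
  refine ⟨g * U hF a b, ?_, ?_⟩
  · rw [map_mul, mul_smul, U_smul_inf]
  · rw [map_mul, mul_smul, hab, smul_inv_smul]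

theorem toSL_surjective (hm : 1 ≤ m) : Function.Surjective (toSL hF) := by
  intro g
  by_cases h : g • (inf : Cfsg.suzukiOvoid F m) = g • zero
  · exact absurd (MulAction.injective g h) inf_ne_zero
  obtain ⟨k, hk1, hk2⟩ := exists_smul_pair hF h
  set g' := (toSL hF k)⁻¹ * g with hg'
  have e1 : g' • inf = (inf : Cfsg.suzukiOvoid F m) := by
    rw [hg', mul_smul, ← hk1, inv_smul_smul]
  have e2 : g' • zero = (zero : Cfsg.suzukiOvoid F m) := by
    rw [hg', mul_smul, ← hk2, inv_smul_smul]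
  obtain ⟨s, hs⟩ := fix_two hF hm g'.2 (congrArg Subtype.val e1) (congrArg Subtype.val e2)
  refine ⟨k * T hF s, ?_⟩
  rw [map_mul, show toSL hF (T hF s) = g' from Subtype.ext hs.symm, hg', mul_inv_cancel_left]

/-- The two models are isomorphic. -/
noncomputable def equiv (hm : 1 ≤ m) : Sz F (2 ^ (m + 1)) ≃* Cfsg.Sz F m :=
  MulEquiv.ofBijective (toSL hF) ⟨toSL_injective hF, toSL_surjective hF hm⟩

include hF in
theorem two_pretransitive : MulAction.IsMultiplyPretransitive (Cfsg.Sz F m) (Cfsg.suzukiOvoid F m) 2 := by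
  rw [MulAction.is_two_pretransitive_iff]
  intro p r p' r' h h'
  obtain ⟨g, g1, g2⟩ := exists_smul_pair hF h
  obtain ⟨k, k1, k2⟩ := exists_smul_pair hF h'
  refine ⟨toSL hF k * (toSL hF g)⁻¹, ?_, ?_⟩
  · rw [mul_smul, ← g1, inv_smul_smul, k1]
  · rw [mul_smul, ← g2, inv_smul_smul, k2]

include hF in
/-- The only solution of the equation of the torus fixing a third point. -/
theorem eq_one_of_sigma {x : F} (h : x ^ (2 ^ (m + 1) + 1) = 1) : x = 1 := by
  have hx : x ≠ 0 := by rintro rfl; simp at h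
  have h1 : x ^ 2 ^ (m + 1) = x⁻¹ := eq_inv_of_mul_eq_one_left (by rw [← pow_succ]; exact h)
  have h2 := sigma_sq hF x
  rw [h1, inv_pow, h1, inv_inv] at h2
  exact (mul_eq_left₀ hx).1 (by rw [← pow_two]; exact h2.symm)

include hF in
theorem eq_one_of_sigma_two {x : F} (h : x ^ (2 ^ (m + 1) + 2) = 1) : x = 1 := by
  have hx : x ≠ 0 := by rintro rfl; simp at h
  have h2 := sigma_sq hF x
  have h1 : x ^ 2 ^ (m + 1) = (x ^ 2)⁻¹ := eq_inv_of_mul_eq_one_left (by rw [← pow_add]; exact h)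
  rw [h1, inv_pow, ← pow_mul, pow_mul', h1, inv_pow, inv_inv] at h2
  have h3 : x ^ 2 = 1 :=
    (mul_eq_left₀ (pow_ne_zero 2 hx)).1 (by rw [← pow_two]; exact h2)
  exact (sq_eq_one_iff.1 h3).elim id fun e => by rw [e, CharTwo.neg_eq]

theorem T_conj_U (s : Fˣ) (a b : F) : T hF s * U hF a b * (T hF s)⁻¹ =
    U hF ((s : F) ^ 2 ^ (m + 1) * a) ((s : F) ^ (2 ^ (m + 1) + 2) * b) := by
  rw [T_mul_U, mul_inv_cancel_right]

theorem fix_three {g : Sz F (2 ^ (m + 1))} {p q r : Cfsg.suzukiOvoid F m} (h1 : p ≠ q) (h2 : q ≠ r)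
    (h3 : p ≠ r) (e1 : toSL hF g • p = p) (e2 : toSL hF g • q = q) (e3 : toSL hF g • r = r) :
    g = 1 := by
  obtain ⟨k, k1, k2⟩ := exists_smul_pair hF h1
  set r' := (toSL hF k)⁻¹ • r with hr'
  have hr : r = toSL hF k • r' := (smul_inv_smul _ _).symm
  have hg : ∀ x : Cfsg.suzukiOvoid F m, toSL hF g • toSL hF k • x = toSL hF k • x →
      toSL hF (k⁻¹ * g * k) • x = x := fun (x : Cfsg.suzukiOvoid F m) hx => by
    rw [map_mul, map_mul, map_inv, mul_smul, mul_smul, hx, inv_smul_smul]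
  rw [← k1] at e1
  rw [← k2] at e2
  rw [hr] at e3
  obtain ⟨s, hs⟩ := (stab_two hF _).1 ⟨hg _ e1, hg _ e2⟩
  have hne : r' ≠ inf := fun e => h3 (by rw [← k1, hr, e])
  obtain ⟨⟨a, b⟩, hab, hun⟩ := existsUnique_U hF hne
  have e := hun ((s : F) ^ 2 ^ (m + 1) * a, (s : F) ^ (2 ^ (m + 1) + 2) * b) (by
    show toSL hF (U hF _ _) • zero = r'
    rw [← T_conj_U, map_mul, map_mul, mul_smul, mul_smul, map_inv,
      inv_smul_eq_iff.2 (T_smul_zero hF s).symm, hab, ← hs]
    exact hg _ e3)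
  simp only [Prod.mk.injEq] at e
  have hs1 : s = 1 := by
    by_cases ha : a = 0
    · by_cases hb : b = 0
      · exfalso
        refine h2 ?_
        rw [← k2, hr, ← hab]
        simp only [ha, hb]
        rw [U_zero, map_one, one_smul]
      · exact Units.ext (eq_one_of_sigma_two hF ((mul_eq_right₀ hb).1 e.2))
    · have h' := (mul_eq_right₀ ha).1 e.1
      refine Units.ext ((bijective_iterateFrobenius F 2 (m + 1)).1 ?_)
      simp only [iterateFrobenius_def, h', Units.val_one, one_pow]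
  rw [hs1, T_one] at hs
  calc g = k * (k⁻¹ * g * k) * k⁻¹ := by group
    _ = 1 := by rw [hs]; group

include hF in
theorem faithful (hm : 1 ≤ m) : FaithfulSMul (Cfsg.Sz F m) (Cfsg.suzukiOvoid F m) := by
  refine ⟨fun {g₁ g₂} h => ?_⟩
  obtain ⟨g, hg⟩ := toSL_surjective hF hm (g₂⁻¹ * g₁)
  have hfix : ∀ p : Cfsg.suzukiOvoid F m, toSL hF g • p = p := fun p => by
    rw [hg, mul_smul, h p, inv_smul_smul]
  obtain ⟨x, hx⟩ : ∃ x : Cfsg.suzukiOvoid F m, x ≠ inf ∧ x ≠ zero := by
    refine ⟨param m (some (1, 0)), fun e => ?_, fun e => ?_⟩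
    · have h' : param m (some ((1 : F), (0 : F))) = param m none := e
      simpa using (param_bijective m).1 h'
    · obtain ⟨a, ha⟩ := (Projectivization.mk_eq_mk_iff' F _ _ _ _).1 (congrArg Subtype.val e)
      simpa [ovVec] using congrFun ha 2
  have := fix_three hF inf_ne_zero hx.2.symm hx.1.symm (hfix _) (hfix _) (hfix _)
  rw [this, map_one] at hg
  exact (inv_mul_eq_one.1 hg.symm).symm

include hF in
theorem card_group (hm : 1 ≤ m) : Nat.card (Sz F (2 ^ (m + 1))) =
    (2 ^ (2 * m + 1)) ^ 2 * (2 ^ (2 * m + 1) - 1) * ((2 ^ (2 * m + 1)) ^ 2 + 1) := by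
  classical
  have := two_pretransitive hF
  have : MulAction.IsPretransitive (Cfsg.Sz F m) (Cfsg.suzukiOvoid F m) :=
    MulAction.isPretransitive_of_is_two_pretransitive
  have h1 : Nat.card (MulAction.stabilizer (Cfsg.Sz F m) (inf : Cfsg.suzukiOvoid F m)) =
      Nat.card (Fˣ × F × F) := by
    refine (Nat.card_eq_of_bijective (fun p : Fˣ × F × F =>
      (⟨toSL hF (T hF p.1 * U hF p.2.1 p.2.2),
        (stab_inf hF _).2 ⟨_, _, _, rfl⟩⟩ : MulAction.stabilizer (Cfsg.Sz F m) (inf : Cfsg.suzukiOvoid F m)))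
      ⟨fun p p' e => ?_, fun g => ?_⟩).symm
    · obtain ⟨e1, e2, e3⟩ := TU_injective hF (toSL_injective hF (congrArg Subtype.val e))
      exact Prod.ext e1 (Prod.ext e2 e3)
    · obtain ⟨k, hk⟩ := toSL_surjective hF hm g.1
      obtain ⟨s, a, b, rfl⟩ := (stab_inf hF k).1 (by rw [hk]; exact g.2)
      exact ⟨(s, a, b), Subtype.ext hk⟩
  have h2 := Subgroup.card_mul_index (MulAction.stabilizer (Cfsg.Sz F m) (inf : Cfsg.suzukiOvoid F m))
  rw [MulAction.index_stabilizer_of_transitive, h1, card_ovoid] at h2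
  rw [Nat.card_congr (equiv hF hm).toEquiv, ← h2, hF, Nat.card_prod, Nat.card_prod, Nat.card_units,
    Nat.card_eq_fintype_card, hF]
  ring

include hF in
theorem exists_sigma_ne (hm : 1 ≤ m) : ∃ s : Fˣ, (s : F) ^ (2 ^ (m + 1) + 2) ≠ 1 := by
  by_contra h
  push Not at h
  classical
  have hsub : (Finset.univ : Finset F) ⊆ {0, 1} := fun x _ => by
    rcases eq_or_ne x 0 with rfl | hx
    · simp
    · have e : x = 1 := eq_one_of_sigma_two hF (by simpa using h (Units.mk0 x hx))
      simp [e]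
  have := (Finset.card_le_card hsub).trans Finset.card_le_two
  rw [Finset.card_univ, hF] at this
  have : 2 ^ 3 ≤ 2 ^ (2 * m + 1) := Nat.pow_le_pow_right two_pos (by omega)
  omega

include hF in
theorem center_root_mem (hm : 1 ≤ m) (b : F) :
    U hF 0 b ∈ commutator (Sz F (2 ^ (m + 1))) := by
  obtain ⟨s, hs⟩ := exists_sigma_ne hF hm
  set c := (s : F) ^ (2 ^ (m + 1) + 2) - 1 with hc
  have hc0 : c ≠ 0 := sub_ne_zero.2 hs
  open scoped commutatorElement in
  have e : ⁅T hF s, U hF 0 (b / c)⁆ = U hF 0 b := by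
    rw [commutatorElement_def, T_conj_U, mul_zero]
    refine mul_inv_eq_iff_eq_mul.2 ?_
    rw [U_mul, add_zero]
    congr 1
    rw [zero_pow (by positivity), mul_zero, add_zero]
    field_simp
    rw [hc, CharTwo.sub_eq_add]
    linear_combination -b * (CharTwo.two_eq_zero : (2 : F) = 0)
  rw [← e, commutator_def]
  exact Subgroup.commutator_mem_commutator (Subgroup.mem_top _) (Subgroup.mem_top _)

include hF in
theorem perfect (hm : 1 ≤ m) : commutator (Sz F (2 ^ (m + 1))) = ⊤ := by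
  rw [eq_top_iff]
  intro g _
  rw [← Abelianization.ker_of (Sz F (2 ^ (m + 1))), MonoidHom.mem_ker]
  refine hom_eq_one hm hF Abelianization.of (fun b => ?_) g
  rw [← MonoidHom.mem_ker, Abelianization.ker_of]
  exact center_root_mem hF hm b

include hF in
theorem isSimple (hm : 1 ≤ m) : IsSimpleGroup (Sz F (2 ^ (m + 1))) := by
  have h2t := two_pretransitive hF
  have hfa := faithful hF hm
  have hprim : MulAction.IsPreprimitive (Cfsg.Sz F m) (Cfsg.suzukiOvoid F m) :=
    MulAction.isPreprimitive_of_is_two_pretransitive h2t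
  obtain ⟨s₀, hs₀⟩ := exists_sigma_ne hF hm
  have : Nontrivial (Sz F (2 ^ (m + 1))) := ⟨⟨T hF s₀, 1, fun e => hs₀ (by
    rw [T_injective hF (e.trans (T_one hF).symm)]; simp)⟩⟩
  refine ⟨fun N hN => ?_⟩
  by_cases hN1 : N = ⊥
  · exact Or.inl hN1
  right
  set M : Subgroup (Cfsg.Sz F m) := N.map (equiv hF hm).toMonoidHom with hM
  have hMn : M.Normal := hN.map _ (equiv hF hm).surjective
  have hMne : M ≠ ⊥ := fun e =>
    hN1 ((Subgroup.map_eq_bot_iff_of_injective _ (equiv hF hm).injective).1 e)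
  obtain ⟨n₀, hn₀, hne₀⟩ := (Subgroup.bot_or_exists_ne_one M).resolve_left hMne
  have hfix : MulAction.fixedPoints M (Cfsg.suzukiOvoid F m) ≠ Set.univ := fun e =>
    hne₀ (FaithfulSMul.eq_of_smul_eq_smul (α := Cfsg.suzukiOvoid F m) fun p => by
      rw [one_smul]
      exact (Set.eq_univ_iff_forall.1 e p) ⟨n₀, hn₀⟩)
  have hMt : MulAction.IsPretransitive M (Cfsg.suzukiOvoid F m) :=
    MulAction.IsQuasiPreprimitive.isPretransitive_of_normal hfix
  set φ := QuotientGroup.mk' N with hφ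
  let H : Subgroup (Sz F (2 ^ (m + 1))) :=
    { carrier := {g | ∃ b : F, φ g = φ (U hF 0 b)}
      one_mem' := ⟨0, by rw [U_zero]⟩
      mul_mem' := by
        rintro x y ⟨b, hb⟩ ⟨c, hc⟩
        exact ⟨b + c, by rw [map_mul, hb, hc, ← map_mul, U_mul]; simp⟩
      inv_mem' := by
        rintro x ⟨b, hb⟩
        refine ⟨b, ?_⟩
        rw [map_inv, hb, inv_eq_iff_mul_eq_one, ← map_mul, U_mul]
        simp [CharTwo.add_self_eq_zero, U_zero] }
  have hnormal : ∀ g b, g * U hF 0 b * g⁻¹ ∈ H := by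
    intro g b
    obtain ⟨⟨n, hn⟩, hnp⟩ := MulAction.exists_smul_eq M (inf : Cfsg.suzukiOvoid F m) (toSL hF g • inf)
    obtain ⟨k, hk, rfl⟩ := hn
    have hkg : toSL hF (k⁻¹ * g) • inf = (inf : Cfsg.suzukiOvoid F m) := by
      rw [map_mul, mul_smul, ← hnp, map_inv]
      exact inv_smul_smul _ _
    obtain ⟨s, a, c, hB⟩ := (stab_inf hF _).1 hkg
    refine ⟨(s : F) ^ (2 ^ (m + 1) + 2) * b, ?_⟩
    have hk1 : φ k = 1 := by rwa [hφ, QuotientGroup.mk'_apply, QuotientGroup.eq_one_iff]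
    have hcm : U hF a c * U hF 0 b = U hF 0 b * U hF a c := by
      rw [U_mul, U_mul]
      congr 1
      · ring
      · simp [zero_pow]; ring
    have e : T hF s * U hF a c * U hF 0 b * (T hF s * U hF a c)⁻¹ =
        U hF 0 ((s : F) ^ (2 ^ (m + 1) + 2) * b) := by
      rw [mul_assoc (T hF s) (U hF a c), hcm]
      rw [← mul_assoc, _root_.mul_inv_rev, mul_assoc (T hF s * U hF 0 b), mul_inv_cancel_left, T_conj_U,
        mul_zero]
    rw [← e, ← hB]
    simp only [map_mul, map_inv, hk1]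
    group
  have hall : ∀ g, g ∈ H := fun g => by
    have hle : Subgroup.normalClosure (Set.range fun b => U hF 0 b) ≤ H :=
      (Subgroup.closure_le H).2 fun x hx => by
        obtain ⟨y, ⟨b, rfl⟩, hy⟩ := Group.mem_conjugatesOfSet_iff.1 hx
        obtain ⟨c, rfl⟩ := isConj_iff.1 hy
        exact hnormal c b
    refine hle ((QuotientGroup.eq_one_iff g).1 (hom_eq_one hm hF
      (QuotientGroup.mk' (Subgroup.normalClosure (Set.range fun b => U hF 0 b)))
      (fun b => ?_) g))
    exact (QuotientGroup.eq_one_iff _).2 (Subgroup.subset_normalClosure ⟨b, rfl⟩)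
  have hcomm : commutator (Sz F (2 ^ (m + 1))) ≤ N := by
    rw [commutator_def, Subgroup.commutator_le]
    intro x _ y _
    obtain ⟨b, hb⟩ := hall x
    obtain ⟨c, hc⟩ := hall y
    rw [← QuotientGroup.eq_one_iff, ← QuotientGroup.mk'_apply, ← hφ, map_commutatorElement, hb, hc,
      ← map_commutatorElement, commutatorElement_eq_one_iff_mul_comm.2 (by
        rw [U_mul, U_mul]; simp [add_comm]), map_one]
  rw [perfect hF hm] at hcomm
  exact eq_top_iff.2 hcomm

end CfsgLib.Suzuki
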