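/-
The Sylow 2-subgroup of the Suzuki groups and its normaliser.
-/
import Mathlib
import Cfsg.Agent.Lib.Suzuki.Model

set_option autoImplicit false

namespace CfsgLib.Suzuki

open Matrix Cfsg.Lie CfsgLib.Spectrum CfsgLib.SuzukiLaws
open scoped Pointwise

variable {F : Type*} [Field F] [Fintype F] [CharP F 2] {m : ℕ}
  (hF : Fintype.card F = 2 ^ (2 * m + 1))

theorem U_inv (a b : F) : (U hF a b)⁻¹ = U hF a (b + a * a ^ 2 ^ (m + 1)) := by
  refine inv_eq_of_mul_eq_one_right ?_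
  rw [U_mul, ← U_zero hF]
  congr 1
  · exact CharTwo.add_self_eq_zero a
  · linear_combination (b + a * a ^ 2 ^ (m + 1)) * (CharTwo.two_eq_zero : (2 : F) = 0)

/-- The unipotent radical. -/
noncomputable def unip : Subgroup (Sz F (2 ^ (m + 1))) where
  carrier := {g | ∃ a b, g = U hF a b}
  one_mem' := ⟨0, 0, (U_zero hF).symm⟩
  mul_mem' := by
    rintro _ _ ⟨a, b, rfl⟩ ⟨c, d, rfl⟩
    exact ⟨_, _, U_mul hF a b c d⟩
  inv_mem' := by
    rintro _ ⟨a, b, rfl⟩
    exact ⟨_, _, U_inv hF a b⟩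

theorem U_injective {a b c d : F} (e : U hF a b = U hF c d) : a = c ∧ b = d :=
  (TU_injective hF (s := 1) (t := 1) (by rw [e])).2

theorem card_unip : Nat.card (unip hF) = Fintype.card F ^ 2 := by
  rw [sq, ← Fintype.card_prod, ← Nat.card_eq_fintype_card]
  refine (Nat.card_eq_of_bijective (fun p : F × F =>
    (⟨U hF p.1 p.2, _, _, rfl⟩ : unip hF)) ⟨fun p r e => ?_, ?_⟩).symm
  · obtain ⟨h1, h2⟩ := U_injective hF (congrArg Subtype.val e)
    exact Prod.ext h1 h2
  · rintro ⟨_, a, b, rfl⟩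
    exact ⟨(a, b), rfl⟩

include hF in
theorem not_dvd_index (hm : 1 ≤ m) : ¬ 2 ∣ (unip hF).index := by
  have h := Subgroup.card_mul_index (unip hF)
  rw [card_unip, card_group hF hm, hF] at h
  have h' : (unip hF).index = (2 ^ (2 * m + 1) - 1) * ((2 ^ (2 * m + 1)) ^ 2 + 1) :=
    Nat.eq_of_mul_eq_mul_left (pow_pos (Nat.two_pow_pos _) 2) (h.trans (mul_assoc _ _ _))
  rw [h', Nat.prime_two.dvd_mul]
  have e : 2 ∣ 2 ^ (2 * m + 1) := dvd_pow_self 2 (by omega)
  have e2 : 2 ∣ (2 ^ (2 * m + 1)) ^ 2 := dvd_pow e (by omega)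
  have := Nat.two_pow_pos (2 * m + 1)
  omega

/-- The Sylow 2-subgroup of unipotent elements. -/
noncomputable def sylow (hm : 1 ≤ m) : Sylow 2 (Sz F (2 ^ (m + 1))) :=
  haveI : Fact (Nat.Prime 2) := ⟨Nat.prime_two⟩
  (IsPGroup.of_card (p := 2) (n := (2 * m + 1) * 2)
    (by rw [card_unip, hF, ← pow_mul]) : IsPGroup 2 (unip hF)).toSylow (not_dvd_index hF hm)

theorem coe_sylow (hm : 1 ≤ m) : (sylow hF hm : Subgroup (Sz F (2 ^ (m + 1)))) = unip hF := rfl

/-- The normaliser of the unipotent radical. -/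
theorem normalizer_unip (g : Sz F (2 ^ (m + 1))) :
    g ∈ Subgroup.normalizer (unip hF : Set (Sz F (2 ^ (m + 1)))) ↔
      toSL hF g • inf = (inf : Cfsg.suzukiOvoid F m) := by
  constructor
  · intro hg
    by_contra hne
    obtain ⟨ab, -, hun⟩ := existsUnique_U hF hne
    have key : ∀ a b : F, toSL hF (U hF a b) • toSL hF g • inf =
        toSL hF g • (inf : Cfsg.suzukiOvoid F m) := by
      intro a b
      obtain ⟨c, d, hcd⟩ := (Subgroup.mem_normalizer_iff''.1 hg _).1 ⟨a, b, rfl⟩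
      rw [smul_smul, ← map_mul, show U hF a b * g = g * (g⁻¹ * U hF a b * g) by group, hcd,
        map_mul, mul_smul, U_smul_inf]
    obtain ⟨⟨a, b⟩, hab, -⟩ := existsUnique_U hF hne
    have h1 := key 1 0
    rw [← hab, smul_smul, ← map_mul, U_mul] at h1
    have e : ((1 + a, 0 + b + 1 * a ^ 2 ^ (m + 1)) : F × F) = (a, b) :=
      (existsUnique_U hF hne).unique (h1.trans hab) hab
    have e1 := congrArg Prod.fst e
    simp at e1
  · intro h
    obtain ⟨s, a, b, rfl⟩ := (stab_inf hF g).1 h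
    refine Subgroup.mul_mem _ ?_ (Subgroup.le_normalizer ⟨a, b, rfl⟩)
    rw [Subgroup.mem_normalizer_iff]
    intro x
    constructor
    · rintro ⟨c, d, rfl⟩
      exact ⟨_, _, T_conj_U hF s c d⟩
    · rintro ⟨c, d, hcd⟩
      refine ⟨(((s⁻¹ : Fˣ) : F)) ^ 2 ^ (m + 1) * c, (((s⁻¹ : Fˣ) : F)) ^ (2 ^ (m + 1) + 2) * d, ?_⟩
      rw [← T_conj_U, ← hcd]
      have : (T hF s⁻¹) = (T hF s)⁻¹ := eq_inv_of_mul_eq_one_left (by rw [T_mul, inv_mul_cancel, T_one])
      rw [this]
      group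

/-- The equivariant bijection of the cosets of the normaliser with the ovoid. -/
theorem exists_coset_equiv {H : Subgroup (Sz F (2 ^ (m + 1)))}
    (hH : ∀ g, g ∈ H ↔ toSL hF g • inf = (inf : Cfsg.suzukiOvoid F m)) :
    ∃ f : Sz F (2 ^ (m + 1)) ⧸ H → Cfsg.suzukiOvoid F m,
      Function.Bijective f ∧ (∀ g x, f (g • x) = toSL hF g • f x) ∧
        f (QuotientGroup.mk 1) = inf := by
  refine ⟨Quotient.lift (fun g => toSL hF g • inf) fun a b h => ?_, ⟨?_, ?_⟩, ?_, ?_⟩
  · have h' := (hH _).1 (QuotientGroup.leftRel_apply.1 h)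
    rw [show b = a * (a⁻¹ * b) by group, map_mul, mul_smul, h']
  · intro x y
    induction x using QuotientGroup.induction_on with
    | H a =>
      induction y using QuotientGroup.induction_on with
      | H b =>
        intro e
        refine QuotientGroup.eq.2 ((hH _).2 ?_)
        rw [map_mul, map_inv, mul_smul, inv_smul_eq_iff]
        exact (Eq.symm e)
  · intro p
    obtain ⟨h, rfl⟩ := exists_smul_inf hF p
    exact ⟨QuotientGroup.mk h, rfl⟩
  · intro g x
    induction x using QuotientGroup.induction_on with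
    | H a =>
      show toSL hF (g * a) • inf = toSL hF g • toSL hF a • inf
      rw [map_mul, mul_smul]
  · show toSL hF 1 • inf = inf
    rw [map_one, one_smul]

end CfsgLib.Suzuki
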