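/-
Basic facts about the Suzuki groups in the model on the ovoid.
-/
import Mathlib
import Cfsg.Agent.Lib.Suzuki.Sylow

set_option autoImplicit false

namespace CfsgLib.Suzuki

open Matrix Cfsg.Lie CfsgLib.Spectrum CfsgLib.SuzukiLaws
open scoped Pointwise commutatorElement

variable {F : Type*} [Field F] [Fintype F] {m : ℕ} (hF : Fintype.card F = 2 ^ (2 * m + 1))

include hF in
theorem charTwo : CharP F 2 := by
  obtain ⟨p, hp⟩ := CharP.exists F
  obtain ⟨n, hp', hcard⟩ := FiniteField.card F p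
  have h : p ∣ 2 ^ (2 * m + 1) := by rw [← hF, hcard]; exact dvd_pow_self _ n.pos.ne'
  have : p = 2 := (Nat.prime_dvd_prime_iff_eq hp' Nat.prime_two).1 (hp'.dvd_of_dvd_pow h)
  exact this ▸ hp

variable [CharP F 2]

include hF in
theorem zassenhaus (hm : 1 ≤ m) : Cfsg.IsZassenhausGroup (Cfsg.Sz F m) (Cfsg.suzukiOvoid F m) := by
  have h2 := two_pretransitive hF
  obtain ⟨s₀, hs₀⟩ := exists_sigma_ne hF hm
  have hT : toSL hF (T hF s₀) ≠ 1 := fun e => hs₀ (by
    rw [T_injective hF ((toSL_injective hF (e.trans (map_one _).symm)).trans (T_one hF).symm)]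
    simp)
  refine ⟨faithful hF hm, h2, ?_, ⟨_, hT, inf, zero, inf_ne_zero, T_smul_inf hF s₀,
    T_smul_zero hF s₀⟩, ?_⟩
  · intro g a b c hab hbc hac ha hb hc
    obtain ⟨k, rfl⟩ := toSL_surjective hF hm g
    rw [fix_three hF hab hbc hac ha hb hc, map_one]
  · intro N hN ht
    haveI : Nontrivial (Cfsg.Sz F m) := ⟨⟨_, 1, hT⟩⟩
    haveI : IsSimpleGroup (Cfsg.Sz F m) := by
      haveI := isSimple hF hm
      exact IsSimpleGroup.isSimpleGroup_of_surjective (equiv hF hm).toMonoidHom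
        (equiv hF hm).surjective
    rcases Subgroup.Normal.eq_bot_or_eq_top hN with rfl | rfl
    · exfalso
      obtain ⟨⟨n, hn⟩, hn'⟩ := ht.exists_smul_eq (inf : Cfsg.suzukiOvoid F m) zero
      obtain rfl := Subgroup.mem_bot.1 hn
      exact inf_ne_zero ((one_smul (Cfsg.Sz F m) (inf : Cfsg.suzukiOvoid F m)).symm.trans hn')
    · refine ⟨inf, fun e => hT ?_⟩
      have : (⟨toSL hF (T hF s₀), Subgroup.mem_top _⟩ : (⊤ : Subgroup (Cfsg.Sz F m))) ∈
          MulAction.stabilizer (⊤ : Subgroup (Cfsg.Sz F m)) (inf : Cfsg.suzukiOvoid F m) :=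
        T_smul_inf hF s₀
      rw [e] at this
      exact congrArg Subtype.val (Subgroup.mem_bot.1 this)

/-- The image of the unipotent radical in the ovoid model. -/
noncomputable def unip' : Subgroup (Cfsg.Sz F m) := (unip hF).map (toSL hF)

/-- The two models of the unipotent radical are isomorphic. -/
noncomputable def unipEquiv : unip hF ≃* unip' hF :=
  (unip hF).equivMapOfInjective (toSL hF) (toSL_injective hF)

theorem unip_center_iff (hm : 1 ≤ m) (a b : F) :
    (⟨U hF a b, a, b, rfl⟩ : unip hF) ∈ Subgroup.center (unip hF) ↔ a = 0 := by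
  constructor
  · intro h
    rw [Subgroup.mem_center_iff] at h
    by_contra ha
    have hc : ∀ c : F, c * a ^ 2 ^ (m + 1) = a * c ^ 2 ^ (m + 1) := fun c => by
      have e := congrArg Subtype.val (h ⟨U hF c 0, c, 0, rfl⟩)
      simp only [Subgroup.coe_mul, U_mul] at e
      obtain ⟨-, e2⟩ := U_injective hF e
      linear_combination e2
    have h1 := hc 1
    rw [one_mul, one_pow, mul_one] at h1
    classical
    have hsub : ∀ c : F, c ^ 2 ^ (m + 1) = c := fun c => by
      have := hc c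
      rw [h1] at this
      exact (mul_left_cancel₀ ha (this.symm.trans (mul_comm c a)))
    obtain ⟨s, hs⟩ := exists_sigma_ne hF hm
    have h2 := sigma_sq hF (s : F)
    rw [hsub, hsub] at h2
    refine hs ?_
    have : (s : F) = 1 := (mul_eq_left₀ s.ne_zero).1 (by rw [← pow_two]; exact h2.symm)
    rw [this, one_pow]
  · rintro rfl
    rw [Subgroup.mem_center_iff]
    rintro ⟨_, c, d, rfl⟩
    refine Subtype.ext ?_
    show U hF c d * U hF 0 b = U hF 0 b * U hF c d
    rw [U_mul, U_mul]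
    congr 1
    · rw [zero_add, add_zero]
    · simp [zero_pow, add_comm]

theorem card_center (hm : 1 ≤ m) : Nat.card (Subgroup.center (unip hF)) = Fintype.card F := by
  rw [← Nat.card_eq_fintype_card]
  refine (Nat.card_eq_of_bijective (fun b : F =>
    (⟨⟨U hF 0 b, 0, b, rfl⟩, (unip_center_iff hF hm 0 b).2 rfl⟩ :
      Subgroup.center (unip hF))) ⟨fun b c e => ?_, ?_⟩).symm
  · exact (U_injective hF (congrArg (fun x : Subgroup.center (unip hF) => x.1.1) e)).2
  · rintro ⟨⟨_, a, b, rfl⟩, h⟩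
    obtain rfl := (unip_center_iff hF hm a b).1 h
    exact ⟨b, rfl⟩

theorem center_eq_commutator (hm : 1 ≤ m) :
    Subgroup.center (unip hF) = commutator (unip hF) := by
  refine le_antisymm ?_ ?_
  · rintro ⟨_, a, b, rfl⟩ h
    obtain rfl := (unip_center_iff hF hm a b).1 h
    obtain ⟨x, hx⟩ : ∃ x : F, x ^ 2 ^ (m + 1) + x ≠ 0 := by
      by_contra hn
      push Not at hn
      obtain ⟨s, hs⟩ := exists_sigma_ne hF hm
      have h1 : (s : F) ^ 2 ^ (m + 1) = s := CharTwo.add_eq_zero.1 (hn s)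
      have h2 := sigma_sq hF (s : F)
      rw [h1, h1] at h2
      refine hs ?_
      have : (s : F) = 1 := (mul_eq_left₀ s.ne_zero).1 (by rw [← pow_two]; exact h2.symm)
      rw [this, one_pow]
    obtain ⟨l, hl⟩ : ∃ l : F, l ^ (2 ^ (m + 1) + 1) = b / (x ^ 2 ^ (m + 1) + x) := by
      refine (Finite.injective_iff_surjective (f := fun l : F => l ^ (2 ^ (m + 1) + 1))).1 ?_ _
      intro p r e
      simp only at e
      by_cases hr : r = 0
      · rw [hr, zero_pow (by omega)] at e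
        rw [hr]
        exact (pow_eq_zero_iff (by omega)).1 e
      · refine (div_eq_one_iff_eq hr).1 (eq_one_of_sigma hF ?_)
        rw [div_pow, e, div_self (pow_ne_zero _ hr)]
    have hb : l ^ (2 ^ (m + 1) + 1) * (x ^ 2 ^ (m + 1) + x) = b := by
      rw [hl, div_mul_cancel₀ _ hx]
    rw [commutator_def]
    have key : ∀ p r : unip hF, p * r * p⁻¹ * r⁻¹ ∈ ⁅(⊤ : Subgroup (unip hF)), ⊤⁆ := fun p r => by
      rw [← commutatorElement_def]
      exact Subgroup.commutator_mem_commutator (Subgroup.mem_top _) (Subgroup.mem_top _)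
    convert key ⟨U hF l 0, l, 0, rfl⟩ ⟨U hF (l * x) 0, l * x, 0, rfl⟩ using 1
    refine Subtype.ext ?_
    show U hF 0 b = U hF l 0 * U hF (l * x) 0 * (U hF l 0)⁻¹ * (U hF (l * x) 0)⁻¹
    rw [U_inv, U_inv, U_mul, U_mul, U_mul, ← hb]
    have hp : l ^ (2 ^ (m + 1) + 1) = l ^ 2 ^ (m + 1) * l := pow_succ _ _
    congr 1
    · linear_combination -(l + l * x) * (CharTwo.two_eq_zero : (2 : F) = 0)
    · simp only [pow_q₀_add, mul_pow, hp]
      ring_nf
      have h2 : (2 : F) = 0 := CharTwo.two_eq_zero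
      linear_combination (-(l * l ^ 2 ^ (m + 1)) + 2 * (l * x * l ^ 2 ^ (m + 1)) - (l * x ^ 2 ^ (m + 1) * l ^ 2 ^ (m + 1)) -
        2 * (l * x * l ^ 2 ^ (m + 1)) - (l * x * l ^ 2 ^ (m + 1) * x ^ 2 ^ (m + 1))) * h2
  · rw [commutator_def, Subgroup.commutator_le]
    rintro ⟨_, a, b, rfl⟩ - ⟨_, c, d, rfl⟩ -
    have e : ⁅(⟨U hF a b, a, b, rfl⟩ : unip hF), (⟨U hF c d, c, d, rfl⟩ : unip hF)⁆ =
        ⟨U hF 0 (c * a ^ 2 ^ (m + 1) + a * c ^ 2 ^ (m + 1)), _, _, rfl⟩ := by
      refine Subtype.ext ?_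
      show U hF a b * U hF c d * (U hF a b)⁻¹ * (U hF c d)⁻¹ = _
      rw [U_inv, U_inv, U_mul, U_mul, U_mul]
      have h2 : (2 : F) = 0 := CharTwo.two_eq_zero
      congr 1
      · linear_combination (a + c) * h2
      · linear_combination (b + d + a * a ^ 2 ^ (m + 1) + c * c ^ 2 ^ (m + 1) +
          a * c ^ 2 ^ (m + 1)) * h2
    rw [e]
    exact (unip_center_iff hF hm _ _).2 rfl

theorem exponent_unip (hm : 1 ≤ m) : Monoid.exponent (unip hF) = 4 := by
  have hsq : ∀ a b, U hF a b * U hF a b = U hF 0 (a * a ^ 2 ^ (m + 1)) := fun a b => by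
    rw [U_mul]
    congr 1
    · exact CharTwo.add_self_eq_zero a
    · rw [CharTwo.add_self_eq_zero, zero_add]
  refine Nat.dvd_antisymm (Monoid.exponent_dvd_of_forall_pow_eq_one ?_) ?_
  · rintro ⟨_, a, b, rfl⟩
    refine Subtype.ext ?_
    show U hF a b ^ 4 = 1
    refine (pow_mul (U hF a b) 2 2).trans ?_
    rw [pow_two (U hF a b), hsq, pow_two, hsq, zero_mul, U_zero]
  · have h := Monoid.order_dvd_exponent (⟨U hF 1 0, 1, 0, rfl⟩ : unip hF)
    suffices e : orderOf (⟨U hF 1 0, 1, 0, rfl⟩ : unip hF) = 4 by rwa [e] at h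
    have h2 : (⟨U hF 1 0, 1, 0, rfl⟩ : unip hF) ^ 2 ^ 1 ≠ 1 := fun e => by
      have e' : U hF 1 0 * U hF 1 0 = U hF 0 0 := by
        rw [U_zero, ← pow_two]
        simpa using congrArg Subtype.val e
      rw [hsq] at e'
      simpa using (U_injective hF e').2
    refine orderOf_eq_prime_pow (p := 2) (n := 1) h2 (Subtype.ext ?_)
    show U hF 1 0 ^ (2 ^ 2) = 1
    refine (pow_mul (U hF 1 0) 2 2).trans ?_
    rw [pow_two (U hF 1 0), hsq, pow_two, hsq, zero_mul, U_zero]

end CfsgLib.Suzuki
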