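/-
Additive maps and quadratic maps of a finite field of characteristic two as combinations of field
automorphisms.
-/
import Mathlib

set_option autoImplicit false

namespace CfsgLib.Suzuki.FieldEndo

variable (F : Type*) [Field F] [Fintype F] [CharP F 2]

/-- The automorphism group of a finite field is finite. -/
noncomputable local instance fintypeAuto : Fintype (F ≃+* F) :=
  haveI : Finite (F ≃+* F) := Finite.of_injective (fun σ => (σ : F → F)) DFunLike.coe_injective
  Fintype.ofFinite _

theorem linearIndependent_auto :
    LinearIndependent F (fun σ : F ≃+* F => ((σ : F →+* F) : F → F)) :=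
  (linearIndependent_monoidHom F F).comp (fun σ : F ≃+* F => (σ : F →+* F).toMonoidHom)
    fun σ τ h => RingEquiv.ext fun x => DFunLike.congr_fun h x

/-- Every additive map is a combination of automorphisms. -/
theorem exists_combination (f : F →+ F) :
    ∃ c : (F ≃+* F) → F, ∀ x, f x = ∑ σ, c σ * σ x := by
  classical
  letI : Algebra (ZMod 2) F := ZMod.algebra F 2
  let Φ : (F ≃+* F) → (F →ₗ[ZMod 2] F) := fun σ => AddMonoidHom.toZModLinearMap 2 σ.toAddMonoidHom
  let ι : (F →ₗ[ZMod 2] F) →ₗ[F] (F → F) :=
    { toFun := fun g => ⇑g, map_add' := fun _ _ => rfl, map_smul' := fun _ _ => rfl }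
  have hli : LinearIndependent F Φ := by
    refine LinearIndependent.of_comp ι ?_
    exact linearIndependent_auto F
  have hcard : Fintype.card (F ≃+* F) = Module.finrank F (F →ₗ[ZMod 2] F) := by
    rw [Module.finrank_linearMap_self, ← IsGalois.card_aut_eq_finrank (ZMod 2) F,
      ← Nat.card_eq_fintype_card]
    refine Nat.card_congr
      { toFun := fun σ => AlgEquiv.ofRingEquiv (f := σ) fun c =>
          DFunLike.congr_fun (RingHom.ext_zmod ((σ : F →+* F).comp (algebraMap (ZMod 2) F))
            (algebraMap (ZMod 2) F)) c
        invFun := fun σ => σ.toRingEquiv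
        left_inv := fun _ => RingEquiv.ext fun _ => rfl
        right_inv := fun _ => AlgEquiv.ext fun _ => rfl }
  have hspan := hli.span_eq_top_of_card_eq_finrank' hcard
  have hf : AddMonoidHom.toZModLinearMap 2 f ∈ Submodule.span F (Set.range Φ) := by
    rw [hspan]; trivial
  obtain ⟨c, hc⟩ := (Submodule.mem_span_range_iff_exists_fun F).1 hf
  refine ⟨c, fun x => ?_⟩
  have h := LinearMap.congr_fun hc x
  rw [LinearMap.sum_apply] at h
  exact h.symm

/-- Every biadditive map is a combination of products of automorphisms. -/
theorem exists_combination₂ (B : F →+ F →+ F) :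
    ∃ c : (F ≃+* F) × (F ≃+* F) → F, ∀ x y, B x y = ∑ p, c p * (p.1 x * p.2 y) := by
  classical
  choose d hd using fun x => exists_combination F (B x)
  have huniq : ∀ u v : (F ≃+* F) → F, (∀ y, ∑ σ, u σ * σ y = ∑ σ, v σ * σ y) → u = v := by
    intro u v h
    funext σ
    exact sub_eq_zero.1 (Fintype.linearIndependent_iff.1 (linearIndependent_auto F) (fun σ => u σ - v σ)
      (funext fun y => by simp [sub_mul, Finset.sum_apply, h y]) σ)
  have hadd : ∀ τ x x', d (x + x') τ = d x τ + d x' τ := fun τ x x' =>
    congrFun (huniq (d (x + x')) (fun σ => d x σ + d x' σ) fun y => by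
      simp only [← hd, add_mul, Finset.sum_add_distrib, map_add, AddMonoidHom.add_apply]) τ
  choose c hc using fun τ => exists_combination F (AddMonoidHom.mk' (fun x => d x τ) (hadd τ))
  refine ⟨fun p => c p.2 p.1, fun x y => ?_⟩
  have hc' : ∀ τ, d x τ = ∑ σ, c τ σ * σ x := fun τ => hc τ x
  simp only [hd, hc', Finset.sum_mul, Fintype.sum_prod_type]
  rw [Finset.sum_comm]
  exact Finset.sum_congr rfl fun σ _ => Finset.sum_congr rfl fun τ _ => by ring

/-- The maps that are combinations of products of two automorphisms. -/
def quadSpan : Submodule F (F → F) :=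
  Submodule.span F (Set.range fun p : (F ≃+* F) × (F ≃+* F) => fun x => p.1 x * p.2 x)

theorem mul_mem_quadSpan (f g : F →+ F) : (fun x => f x * g x) ∈ quadSpan F := by
  obtain ⟨c, hc⟩ := exists_combination F f
  obtain ⟨d, hd⟩ := exists_combination F g
  have : (fun x => f x * g x) =
      ∑ σ, ∑ τ, (c σ * d τ) • (fun x : F => σ x * τ x) := by
    funext x
    simp only [hc, hd, Finset.sum_mul_sum, Finset.sum_apply, Pi.smul_apply, smul_eq_mul]
    exact Finset.sum_congr rfl fun σ _ => Finset.sum_congr rfl fun τ _ => by ring
  rw [this]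
  exact Submodule.sum_mem _ fun σ _ => Submodule.sum_mem _ fun τ _ =>
    Submodule.smul_mem _ _ (Submodule.subset_span ⟨(σ, τ), rfl⟩)

theorem additive_mem_quadSpan (f : F →+ F) : ⇑f ∈ quadSpan F := by
  obtain ⟨c, hc⟩ := exists_combination F f
  have : ⇑f = ∑ σ, c σ • (fun x : F => ((frobeniusEquiv F 2).symm.trans σ) x *
      ((frobeniusEquiv F 2).symm.trans σ) x) := by
    funext x
    simp only [hc, Finset.sum_apply, Pi.smul_apply, smul_eq_mul, RingEquiv.trans_apply]
    refine Finset.sum_congr rfl fun σ _ => ?_
    rw [← map_mul, ← sq, frobeniusEquiv_symm_pow_p]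
  rw [this]
  exact Submodule.sum_mem _ fun σ _ =>
    Submodule.smul_mem _ _ (Submodule.subset_span ⟨(_, _), rfl⟩)

omit [Field F] [Fintype F] [CharP F 2] in
theorem sum_split {ι A : Type*} [Fintype ι] [LinearOrder ι] [AddCommMonoid A] (M : ι → ι → A) :
    ∑ i, ∑ j, M i j = (∑ i, ∑ j, if i < j then M i j + M j i else 0) + ∑ i, M i i := by
  classical
  have h : ∀ i j, M i j = ((if i < j then M i j else 0) + (if j < i then M i j else 0)) +
      (if i = j then M i j else 0) := by
    intro i j
    rcases lt_trichotomy i j with h | h | h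
    · simp [h, h.asymm, h.ne]
    · subst h; simp
    · simp [h, h.asymm, h.ne']
  calc ∑ i, ∑ j, M i j = (∑ i, ∑ j, if i < j then M i j else 0) +
        (∑ i, ∑ j, if j < i then M i j else 0) + ∑ i, M i i := by
        rw [Finset.sum_congr rfl fun i _ => Finset.sum_congr rfl fun j _ => h i j]
        simp [Finset.sum_add_distrib]
    _ = _ := by
        rw [Finset.sum_comm (f := fun i j => if j < i then M i j else 0), ← Finset.sum_add_distrib]
        congr 1
        refine Finset.sum_congr rfl fun i _ => ?_
        rw [← Finset.sum_add_distrib]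
        refine Finset.sum_congr rfl fun j _ => ?_
        split <;> simp

/-- Every map of degree at most two over the prime field is a combination of products of two
automorphisms. -/
theorem quadratic_mem_quadSpan (q : F → F)
    (hq : ∀ x y z : F,
      q (x + y + z) + q (x + y) + q (x + z) + q (y + z) + q x + q y + q z = 0) :
    q ∈ quadSpan F := by
  classical
  letI : Algebra (ZMod 2) F := ZMod.algebra F 2
  have h2 : (2 : F) = 0 := CharTwo.two_eq_zero
  have hzero : q 0 = 0 := by
    have := hq 0 0 0
    simp only [add_zero] at this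
    linear_combination this - 3 * q 0 * h2
  let B : F → F → F := fun x y => q (x + y) + q x + q y
  have hsymm : ∀ x y, B x y = B y x := fun x y => by simp only [B, add_comm x y]; ring
  have hadd : ∀ x y z, B x (y + z) = B x y + B x z := by
    intro x y z
    simp only [B, ← add_assoc x y z]
    linear_combination hq x y z -
      (q (x + y) + q (x + z) + q x + q y + q z) * h2
  have halt : ∀ x, B x x = 0 := fun x => by
    simp only [B, CharTwo.add_self_eq_zero, hzero]
    linear_combination (q x) * h2
  let B' : F →ₗ[ZMod 2] F →ₗ[ZMod 2] F :=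
    AddMonoidHom.toZModLinearMap 2 (AddMonoidHom.mk'
      (fun x => AddMonoidHom.toZModLinearMap 2 (AddMonoidHom.mk' (B x) (hadd x))) fun x y =>
      LinearMap.ext fun z => by
        show B (x + y) z = B x z + B y z
        rw [hsymm, hadd, hsymm z x, hsymm z y])
  let b := Module.finBasis (ZMod 2) F
  let e : Fin (Module.finrank (ZMod 2) F) → F := fun i => b i
  let g : Fin (Module.finrank (ZMod 2) F) → (F →+ F) := fun i =>
    (algebraMap (ZMod 2) F).toAddMonoidHom.comp (b.coord i).toAddMonoidHom
  let C : Fin (Module.finrank (ZMod 2) F) → Fin (Module.finrank (ZMod 2) F) → F :=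
    fun i j => if i < j then B (e i) (e j) else 0
  let r : F → F := fun x => ∑ i, ∑ j, C i j * (g i x * g j x)
  have hr : r ∈ quadSpan F := by
    have : r = ∑ i, ∑ j, C i j • (fun x => g i x * g j x) := by
      funext x
      simp only [r, Finset.sum_apply, Pi.smul_apply, smul_eq_mul]
    rw [this]
    exact Submodule.sum_mem _ fun i _ => Submodule.sum_mem _ fun j _ =>
      Submodule.smul_mem _ _ (mul_mem_quadSpan F (g i) (g j))
  have hB : ∀ x y, B x y = ∑ i, ∑ j, g i x * g j y * B (e i) (e j) := by
    intro x y
    have h1 : B x y = B' x y := rfl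
    rw [h1]
    conv_lhs => rw [← b.sum_repr x, ← b.sum_repr y]
    simp only [map_sum, map_smul, LinearMap.sum_apply, LinearMap.smul_apply, Finset.smul_sum]
    rw [Finset.sum_comm]
    refine Finset.sum_congr rfl fun i _ => Finset.sum_congr rfl fun j _ => ?_
    show b.repr y j • b.repr x i • B' (b i) (b j) = _
    rw [Algebra.smul_def, Algebra.smul_def]
    show _ = algebraMap (ZMod 2) F (b.repr x i) * algebraMap (ZMod 2) F (b.repr y j) * B' (b i) (b j)
    ring
  have hrB : ∀ x y, r (x + y) + r x + r y = B x y := by
    intro x y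
    rw [hB, sum_split, Finset.sum_eq_zero (s := Finset.univ)
      (f := fun i => g i x * g i y * B (e i) (e i)) (fun i _ => by rw [halt, mul_zero]), add_zero]
    simp only [r, map_add, ← Finset.sum_add_distrib]
    refine Finset.sum_congr rfl fun i _ => Finset.sum_congr rfl fun j _ => ?_
    simp only [C]
    split
    · rw [hsymm (e j) (e i)]
      linear_combination (B (e i) (e j) * (g i x * g j x + g i y * g j y)) * h2
    · ring
  let f : F →+ F := AddMonoidHom.mk' (fun x => q x + r x) fun x y => by
    have h := hrB x y
    simp only [B] at h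
    linear_combination h + (q (x + y) - r x - r y) * h2
  have hf : q = ⇑f + r := by
    funext x
    simp only [f, AddMonoidHom.mk'_apply, Pi.add_apply, add_assoc, CharTwo.add_self_eq_zero,
      add_zero]
  rw [hf]
  exact Submodule.add_mem _ (additive_mem_quadSpan F f) hr

end CfsgLib.Suzuki.FieldEndo
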