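/-
An elementary abelian two-group with an automorphism whose powers are transitive on the non-identity
elements is a finite field with multiplication by a primitive element.
-/
import Mathlib
import Cfsg.Agent.Lib.Suzuki.FieldEndo

set_option autoImplicit false

namespace CfsgLib.Suzuki.CyclicModule

universe v

section Field

variable {V : Type v} [CommGroup V] (φ : V ≃* V)

/-- The automorphism as an additive endomorphism. -/
def gen : AddMonoid.End (Additive V) := MonoidHom.toAdditive φ.toMonoidHom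

/-- The ring generated by the automorphism. -/
def sub : Subring (AddMonoid.End (Additive V)) := Subring.closure {gen φ}

theorem gen_mem : gen φ ∈ sub φ := Subring.subset_closure rfl

theorem gen_pow_apply (i : ℕ) (v : V) :
    (gen φ ^ i) (Additive.ofMul v) = Additive.ofMul ((φ ^ i : MulAut V) v) := by
  induction i generalizing v with
  | zero => rfl
  | succ i ih =>
    rw [pow_succ, pow_succ]
    show (gen φ ^ i) (gen φ (Additive.ofMul v)) = _
    rw [show gen φ (Additive.ofMul v) = Additive.ofMul (φ v) from rfl, ih]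
    rfl

theorem commute_gen (a : AddMonoid.End (Additive V)) (ha : a ∈ sub φ) : Commute a (gen φ) := by
  induction ha using Subring.closure_induction with
  | mem x hx => rw [Set.mem_singleton_iff.1 hx]
  | zero => exact Commute.zero_left _
  | one => exact Commute.one_left _
  | add x y _ _ hx hy => exact hx.add_left hy
  | neg x _ hx => exact hx.neg_left
  | mul x y _ _ hx hy => exact hx.mul_left hy

/-- Evaluation at a base point. -/
def ev (v₀ : V) (a : sub φ) : V := Additive.toMul (a.1 (Additive.ofMul v₀))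

theorem ev_add (v₀ : V) (a b : sub φ) : ev φ v₀ (a + b) = ev φ v₀ a * ev φ v₀ b := rfl

theorem ev_zero (v₀ : V) : ev φ v₀ 0 = 1 := rfl

theorem ev_one (v₀ : V) : ev φ v₀ 1 = v₀ := rfl

theorem ev_gen_mul (v₀ : V) (a : sub φ) :
    ev φ v₀ (⟨gen φ, gen_mem φ⟩ * a) = φ (ev φ v₀ a) := rfl

theorem ev_gen_pow (v₀ : V) (i : ℕ) :
    ev φ v₀ (⟨gen φ, gen_mem φ⟩ ^ i) = (φ ^ i : MulAut V) v₀ := by
  rw [ev, SubmonoidClass.coe_pow, gen_pow_apply]
  rfl

variable (htr : ∀ u v : V, u ≠ 1 → v ≠ 1 → ∃ i : ℕ, (φ ^ i : MulAut V) u = v)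
  {v₀ : V} (hv₀ : v₀ ≠ 1)

include htr hv₀ in
theorem ev_injective : Function.Injective (ev φ v₀) := by
  intro a b h
  have h' : a.1 (Additive.ofMul v₀) = b.1 (Additive.ofMul v₀) := Additive.toMul.injective h
  refine Subtype.ext (DFunLike.ext _ _ fun w => ?_)
  obtain ⟨w, rfl⟩ := Additive.ofMul.surjective w
  by_cases hw : w = 1
  · subst hw; exact (map_zero a.1).trans (map_zero b.1).symm
  · obtain ⟨i, rfl⟩ := htr v₀ w hv₀ hw
    rw [← gen_pow_apply]
    show (a.1 * gen φ ^ i) (Additive.ofMul v₀) = (b.1 * gen φ ^ i) (Additive.ofMul v₀)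
    rw [((commute_gen φ a.1 a.2).pow_right i).eq, ((commute_gen φ b.1 b.2).pow_right i).eq]
    exact congrArg (fun w => (gen φ ^ i) w) h'

include htr hv₀ in
theorem exists_pow (a : sub φ) (ha : a ≠ 0) : ∃ i : ℕ, a = ⟨gen φ, gen_mem φ⟩ ^ i := by
  obtain ⟨i, hi⟩ := htr v₀ (ev φ v₀ a) hv₀ fun h =>
    ha (ev_injective φ htr hv₀ (h.trans (ev_zero φ v₀).symm))
  exact ⟨i, ev_injective φ htr hv₀ (hi.symm.trans (ev_gen_pow φ v₀ i).symm)⟩

include htr hv₀ in
theorem ev_surjective : Function.Surjective (ev φ v₀) := fun w => by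
  by_cases hw : w = 1
  · exact ⟨0, hw.symm⟩
  · obtain ⟨i, hi⟩ := htr v₀ w hv₀ hw
    exact ⟨_, (ev_gen_pow φ v₀ i).trans hi⟩

variable (h2 : ∀ v : V, v * v = 1)

include htr hv₀ h2 in
/-- The field attached to the module. -/
theorem exists_field [Finite V] : ∃ (F : Type v) (_ : Field F) (_ : Fintype F) (_ : CharP F 2)
    (lam : F) (θ : F → V), Function.Bijective θ ∧ (∀ x y, θ (x + y) = θ x * θ y) ∧
      (∀ x, θ (lam * x) = φ (θ x)) ∧ ∀ x : F, x ≠ 0 → ∃ i : ℕ, x = lam ^ i := by
  have hinj := ev_injective φ htr hv₀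
  have hne := exists_pow φ htr hv₀
  have hpow1 : ∀ i : ℕ, (⟨gen φ, gen_mem φ⟩ : sub φ) ^ i ≠ 0 := fun i h => hv₀ (by
    have h' := ev_gen_pow φ v₀ i
    rw [h, ev_zero] at h'
    exact (φ ^ i : MulAut V).injective (h'.symm.trans (map_one _).symm))
  haveI : Finite (sub φ) := Finite.of_injective _ hinj
  haveI : Nontrivial (sub φ) := ⟨⟨_, _, hpow1 0⟩⟩
  haveI : NoZeroDivisors (sub φ) := ⟨fun {a b} h => by
    by_contra hab
    push Not at hab
    obtain ⟨i, rfl⟩ := hne a hab.1
    obtain ⟨j, rfl⟩ := hne b hab.2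
    rw [← pow_add] at h
    exact hpow1 _ h⟩
  have hcomm : ∀ a b : sub φ, a * b = b * a := fun a b => by
    by_cases ha : a = 0
    · simp [ha]
    by_cases hb : b = 0
    · simp [hb]
    obtain ⟨i, rfl⟩ := hne a ha
    obtain ⟨j, rfl⟩ := hne b hb
    rw [← pow_add, ← pow_add, add_comm]
  letI : CommRing (sub φ) := { (sub φ).toRing with mul_comm := hcomm }
  haveI : IsDomain (sub φ) := NoZeroDivisors.to_isDomain _
  haveI hchar : CharP (sub φ) 2 := CharTwo.of_one_ne_zero_of_two_eq_zero one_ne_zero (hinj (by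
    rw [← one_add_one_eq_two, ev_add, ev_one, ev_zero]
    exact h2 v₀))
  letI : Field (sub φ) := (Finite.isField_of_domain (sub φ)).toField
  exact ⟨sub φ, inferInstance, Fintype.ofFinite _, inferInstance, ⟨gen φ, gen_mem φ⟩, ev φ v₀,
    ⟨hinj, ev_surjective φ htr hv₀⟩, ev_add φ v₀, ev_gen_mul φ v₀, hne⟩

end Field

variable {V : Type v} [CommGroup V] [Finite V] (φ : V ≃* V)
  (h2 : ∀ v : V, v * v = 1)
  (htr : ∀ u v : V, u ≠ 1 → v ≠ 1 → ∃ i : ℕ, (φ ^ i : MulAut V) u = v)

include h2 htr in
/-- An equivariant alternating biadditive map of the module to itself is trivial. -/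
theorem eq_one_of_equivariant_alternating (B : V → V → V)
    (hl : ∀ u v w, B (u * v) w = B u w * B v w) (hr : ∀ u v w, B u (v * w) = B u v * B u w)
    (halt : ∀ u, B u u = 1) (heq : ∀ u v, B (φ u) (φ v) = φ (B u v)) (u v : V) : B u v = 1 := by
  classical
  rcases subsingleton_or_nontrivial V with hs | hs
  · exact Subsingleton.elim _ _
  obtain ⟨v₀, hv₀⟩ := exists_ne (1 : V)
  obtain ⟨F, _, _, _, lam, θ, hθ, hadd, hlam, hgen⟩ := exists_field φ htr hv₀ h2
  haveI : Finite (F ≃+* F) :=
    Finite.of_injective (fun σ => (σ : F → F)) DFunLike.coe_injective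
  haveI := Fintype.ofFinite (F ≃+* F)
  let e := Equiv.ofBijective θ hθ
  have he : ∀ w, θ (e.symm w) = w := e.apply_symm_apply
  have hadd' : ∀ a b, e.symm (a * b) = e.symm a + e.symm b := fun a b => hθ.1 (by
    rw [hadd, he, he, he])
  let C : F → F → F := fun x y => e.symm (B (θ x) (θ y))
  have hCr : ∀ x y z, C x (y + z) = C x y + C x z := fun x y z => by
    simp only [C, hadd, hr, hadd']
  have hCl : ∀ x y z, C (x + y) z = C x z + C y z := fun x y z => by
    simp only [C, hadd, hl, hadd']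
  have h0 : e.symm 1 = 0 := by
    have := hadd' 1 1
    rw [one_mul] at this
    exact left_eq_add.1 this
  let B' : F →+ F →+ F := AddMonoidHom.mk' (fun x => AddMonoidHom.mk' (C x) (hCr x))
    fun x y => AddMonoidHom.ext fun z => hCl x y z
  obtain ⟨c, hc⟩ := FieldEndo.exists_combination₂ F B'
  have hC : ∀ x y, C x y = ∑ p : (F ≃+* F) × (F ≃+* F), c p * (p.1 x * p.2 y) := fun x y => by
    rw [show C x y = B' x y from rfl, hc]
    congr!
  have hClam : ∀ x y, C (lam * x) (lam * y) = lam * C x y := fun x y => hθ.1 (by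
    rw [hlam]
    simp only [C, he, hlam, heq])
  have hzero : ∀ d : (F ≃+* F) × (F ≃+* F) → F,
      (∀ x y, ∑ p : (F ≃+* F) × (F ≃+* F), d p * (p.1 x * p.2 y) = 0) → ∀ p, d p = 0 := by
    intro d hd p
    have hli := FieldEndo.linearIndependent_auto F
    have h1 : ∀ x τ, ∑ σ, d (σ, τ) * σ x = 0 := by
      intro x τ
      refine Fintype.linearIndependent_iff.1 hli (fun τ => ∑ σ, d (σ, τ) * σ x) (funext fun y => ?_) τ
      simp only [Finset.sum_apply, Pi.smul_apply, smul_eq_mul, Pi.zero_apply, Finset.sum_mul]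
      rw [Finset.sum_comm, ← hd x y, Fintype.sum_prod_type]
      exact Finset.sum_congr rfl fun σ _ => Finset.sum_congr rfl fun τ _ => by
        simp [mul_assoc]
    exact Fintype.linearIndependent_iff.1 hli (fun σ => d (σ, p.2)) (funext fun x => by
      simp only [Finset.sum_apply, Pi.smul_apply, smul_eq_mul, Pi.zero_apply]
      exact h1 x p.2) p.1
  have hdiag : ∀ p, c p * (p.1 lam * p.2 lam - lam) = 0 := by
    refine hzero _ fun x y => ?_
    have h := hClam x y
    rw [hC, hC, Finset.mul_sum, ← sub_eq_zero, ← Finset.sum_sub_distrib] at h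
    rw [← h]
    refine Finset.sum_congr rfl fun p _ => ?_
    rw [map_mul, map_mul]
    ring
  have hsupp : ∀ p : (F ≃+* F) × (F ≃+* F), c p ≠ 0 → p.1 = p.2 := by
    intro p hp
    have hlam' : p.1 lam * p.2 lam = lam :=
      sub_eq_zero.1 ((mul_eq_zero.1 (hdiag p)).resolve_left hp)
    have hall : ∀ x : F, p.1 x * p.2 x = x := by
      intro x
      by_cases hx : x = 0
      · simp [hx]
      · obtain ⟨i, rfl⟩ := hgen x hx
        rw [map_pow, map_pow, ← mul_pow, hlam']
    refine RingEquiv.ext fun x => CharTwo.add_eq_zero.1 ?_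
    have h := hall (x + 1)
    rw [map_add, map_add, map_one, map_one] at h
    linear_combination h - hall x
  have hsym : ∀ x y, C x y = C y x := fun x y => by
    rw [hC, hC]
    refine Finset.sum_congr rfl fun p _ => ?_
    by_cases hp : c p = 0
    · simp [hp]
    · rw [hsupp p hp]; ring
  have hd0 : ∀ x, C x x = 0 := fun x => by simp only [C, halt, h0]
  have hc0 : ∀ σ, c (σ, σ) = 0 := by
    intro σ
    refine Fintype.linearIndependent_iff.1 (FieldEndo.linearIndependent_auto F)
      (fun σ => c (σ, σ)) (funext fun z => ?_) σ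
    obtain ⟨x, rfl⟩ := (frobeniusEquiv F 2).surjective z
    simp only [Finset.sum_apply, Pi.smul_apply, smul_eq_mul, Pi.zero_apply]
    rw [← hd0 x, hC, Fintype.sum_prod_type]
    refine Finset.sum_congr rfl fun σ _ => ?_
    rw [Finset.sum_eq_single σ (fun τ _ hτ => by
      by_cases hp : c (σ, τ) = 0
      · simp [hp]
      · exact absurd (hsupp _ hp).symm hτ) (fun h => absurd (Finset.mem_univ _) h)]
    simp [frobeniusEquiv_apply, frobenius_def, sq]
  have hall : ∀ x y, C x y = 0 := fun x y => by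
    rw [hC]
    refine Finset.sum_eq_zero fun p _ => ?_
    by_cases hp : c p = 0
    · simp [hp]
    · obtain ⟨σ, τ⟩ := p
      obtain rfl : σ = τ := hsupp _ hp
      exact absurd (hc0 σ) hp
  have h := hall (e.symm u) (e.symm v)
  simp only [C, he] at h
  exact e.symm.injective (h.trans h0.symm)

end CfsgLib.Suzuki.CyclicModule
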