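/-
Two-groups with an automorphism permuting the involutions transitively: if the group is not abelian,
its centre has exponent two.
-/
import Mathlib
import Cfsg.Agent.Lib.Suzuki.CyclicModule

set_option autoImplicit false

namespace CfsgLib.Suzuki.TwoGroup

universe u

variable {P : Type u} [Group P]

/-- The commutator used in this file. -/
def cm (x y : P) : P := x * y * x⁻¹ * y⁻¹

/-- The powers of `φ` are transitive on involutions. -/
def Trans (φ : MulAut P) : Prop :=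
  ∀ x y : P, x ≠ 1 → x * x = 1 → y ≠ 1 → y * y = 1 → ∃ i : ℕ, (φ ^ i) x = y

theorem center_fixed (α : MulAut P) {z : P} (hz : z ∈ Subgroup.center P) :
    α z ∈ Subgroup.center P := by
  rw [Subgroup.mem_center_iff] at hz ⊢
  intro g
  have h := congrArg α (hz (α.symm g))
  rwa [map_mul, map_mul, α.apply_symm_apply] at h

theorem pow_apply_coe {H : Subgroup P} (φ : MulAut P) (ψ : MulAut H)
    (h : ∀ v : H, (ψ v : P) = φ v) : ∀ (i : ℕ) (v : H), ((ψ ^ i) v : P) = (φ ^ i) v := by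
  intro i
  induction i with
  | zero => intro v; rfl
  | succ i ih =>
    intro v
    rw [pow_succ, pow_succ]
    show ((ψ ^ i) (ψ v) : P) = (φ ^ i) (φ v)
    rw [ih, h]

variable [Finite P]

/-- Restriction to an invariant subgroup. -/
theorem exists_restrict (φ : MulAut P) (H : Subgroup P) (h : ∀ x ∈ H, φ x ∈ H) :
    ∃ ψ : MulAut H, ∀ v : H, (ψ v : P) = φ v := by
  let f : H →* H :=
    { toFun := fun v => ⟨φ v, h v v.2⟩
      map_one' := Subtype.ext (map_one φ)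
      map_mul' := fun a b => Subtype.ext (map_mul φ _ _) }
  have hinj : Function.Injective f := fun a b e =>
    Subtype.ext (φ.injective (congrArg Subtype.val e))
  exact ⟨MulEquiv.ofBijective f ⟨hinj, Finite.injective_iff_surjective.1 hinj⟩, fun _ => rfl⟩

theorem involution_central (hP : IsPGroup 2 P) {φ : MulAut P} (htr : Trans φ) {x : P}
    (hx : x * x = 1) : x ∈ Subgroup.center P := by
  by_cases hx1 : x = 1
  · rw [hx1]; exact one_mem _
  haveI := Fact.mk Nat.prime_two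
  haveI : Nontrivial P := ⟨⟨x, 1, hx1⟩⟩
  haveI := hP.center_nontrivial
  obtain ⟨w, hw⟩ := exists_ne (1 : Subgroup.center P)
  obtain ⟨k, hk⟩ := IsPGroup.iff_orderOf.1 hP (w : P)
  obtain ⟨j, rfl⟩ : ∃ j, k = j + 1 := ⟨k - 1, by
    have : k ≠ 0 := fun e => hw (Subtype.ext (orderOf_eq_one_iff.1 (by rw [hk, e, pow_zero])))
    omega⟩
  have hc : (w : P) ^ 2 ^ j ∈ Subgroup.center P := pow_mem w.2 _
  have hc1 : (w : P) ^ 2 ^ j ≠ 1 := pow_ne_one_of_lt_orderOf (pow_ne_zero _ two_ne_zero)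
    (hk ▸ Nat.pow_lt_pow_right one_lt_two (Nat.lt_succ_self j))
  have hc2 : (w : P) ^ 2 ^ j * (w : P) ^ 2 ^ j = 1 := by
    rw [← pow_add, ← two_mul, ← pow_succ', ← hk, pow_orderOf_eq_one]
  obtain ⟨i, rfl⟩ := htr _ x hc1 hc2 hx1 hx
  exact center_fixed (φ ^ i) hc

section Level

variable (R : Subgroup P) (hRc : ∀ a ∈ R, ∀ b ∈ R, a * b = b * a)

theorem exists_level (hP : IsPGroup 2 P) {φ : MulAut P} (htr : Trans φ)
    (hφ : ∀ i : ℕ, ∀ r ∈ R, (φ ^ i) r ∈ R) (hI : ∀ c : P, c * c = 1 → c ∈ R) :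
    ∃ N : ℕ, (∀ r ∈ R, r ^ 2 ^ N = 1) ∧
      ∀ c : P, c * c = 1 → ∃ r ∈ R, r ^ 2 ^ (N - 1) = c := by
  obtain ⟨⟨w, hw⟩, hmax⟩ := Finite.exists_max (fun r : R => orderOf (r : P))
  obtain ⟨N, hN⟩ := IsPGroup.iff_orderOf.1 hP w
  have hexp : ∀ r ∈ R, r ^ 2 ^ N = 1 := fun r hr => by
    obtain ⟨j, hj⟩ := IsPGroup.iff_orderOf.1 hP r
    have h : orderOf r ≤ orderOf w := hmax ⟨r, hr⟩
    rw [hj, hN] at h
    exact orderOf_dvd_iff_pow_eq_one.1
      (hj ▸ pow_dvd_pow 2 ((Nat.pow_le_pow_iff_right one_lt_two).1 h))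
  refine ⟨N, hexp, fun c hc => ?_⟩
  by_cases hc1 : c = 1
  · exact ⟨1, one_mem _, by rw [one_pow, hc1]⟩
  have hN0 : N ≠ 0 := fun e => hc1 (by
    have h := hexp c (hI c hc)
    rwa [e, pow_zero, pow_one] at h)
  obtain ⟨i, hi⟩ := htr (w ^ 2 ^ (N - 1)) c
    (pow_ne_one_of_lt_orderOf (pow_ne_zero _ two_ne_zero)
      (hN ▸ Nat.pow_lt_pow_right one_lt_two (by omega)))
    (by rw [← pow_add, ← two_mul, ← pow_succ', show N - 1 + 1 = N by omega]; exact hexp w hw)
    hc1 hc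
  exact ⟨(φ ^ i) w, hφ i w hw, by rw [← map_pow, hi]⟩

include hRc in
theorem exists_sqrt {N : ℕ} (hI : ∀ c : P, c * c = 1 → ∃ r ∈ R, r ^ 2 ^ (N - 1) = c) :
    ∀ j < N, ∀ r ∈ R, r ^ 2 ^ j = 1 → ∃ s ∈ R, s * s = r := by
  intro j
  induction j with
  | zero => intro _ r _ h; exact ⟨1, one_mem _, by rw [one_mul]; simpa using h.symm⟩
  | succ j ih =>
    intro hj r hr h
    obtain ⟨v, hv, hvc⟩ := hI (r ^ 2 ^ j) (by rw [← pow_add, ← two_mul, ← pow_succ', h])
    set t := v ^ 2 ^ (N - 2 - j) with ht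
    have htR : t ∈ R := pow_mem hv _
    have htt : (t * t) ^ 2 ^ j = r ^ 2 ^ j := by
      rw [ht, ← pow_add, ← two_mul, ← pow_succ', ← pow_mul, ← pow_add, ← hvc]
      congr 2
      omega
    obtain ⟨s, hs, hss⟩ := ih (by omega) (r * (t * t)⁻¹)
      (mul_mem hr (inv_mem (mul_mem htR htR))) (by
        rw [Commute.mul_pow (hRc _ hr _ (inv_mem (mul_mem htR htR))), inv_pow, htt, mul_inv_cancel])
    refine ⟨s * t, mul_mem hs htR, ?_⟩
    calc s * t * (s * t) = s * (t * s) * t := by group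
      _ = (s * s) * (t * t) := by rw [hRc t htR s hs]; group
      _ = r := by rw [hss]; group

include hRc in
theorem exists_root {N : ℕ} (hI : ∀ c : P, c * c = 1 → ∃ r ∈ R, r ^ 2 ^ (N - 1) = c) :
    ∀ (k j : ℕ), j + k ≤ N → ∀ r ∈ R, r ^ 2 ^ j = 1 → ∃ s ∈ R, s ^ 2 ^ k = r := by
  intro k
  induction k with
  | zero => intro j _ r hr _; exact ⟨r, hr, by rw [pow_zero, pow_one]⟩
  | succ k ih =>
    intro j hj r hr h
    obtain ⟨s, hs, hss⟩ := exists_sqrt R hRc hI j (by omega) r hr h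
    obtain ⟨t, ht, hts⟩ := ih (j + 1) (by omega) s hs
      (by rw [pow_succ', pow_mul, sq, hss, h])
    exact ⟨t, ht, by rw [pow_succ, pow_mul, hts, sq, hss]⟩

end Level

theorem aux : ∀ (k : ℕ) {P : Type u} [Group P] [Finite P], Nat.card P ≤ k → IsPGroup 2 P →
    ∀ φ : MulAut P, Trans φ → ∀ z ∈ Subgroup.center P, z * z ≠ 1 → ∀ x y : P, x * y = y * x := by
  intro k
  induction k with
  | zero => intro P _ _ hk; exact absurd Nat.card_pos (by omega : ¬ 0 < Nat.card P)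
  | succ k ih =>
  intro P _ _ hk hP φ htr z₁ hz₁ hz₁2
  by_contra hna
  haveI := Fact.mk Nat.prime_two
  set Z := Subgroup.center P with hZ
  have hinvZ : ∀ {x : P}, x * x = 1 → x ∈ Z := fun hx => involution_central hP htr hx
  have hZc : ∀ {z : P}, z ∈ Z → ∀ g, g * z = z * g := fun hz g => Subgroup.mem_center_iff.1 hz g
  obtain ⟨n, hnexp, hnI⟩ := exists_level Z hP htr (fun i r hr => center_fixed (φ ^ i) hr)
    (fun c hc => hinvZ hc)
  have hn2 : 2 ≤ n := by
    by_contra h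
    refine hz₁2 ?_
    rw [← sq]
    exact orderOf_dvd_iff_pow_eq_one.1 ((orderOf_dvd_of_pow_eq_one (hnexp z₁ hz₁)).trans
      (by simpa using pow_dvd_pow 2 (show n ≤ 1 by omega)))
  have hZsqrt := exists_sqrt Z (fun a _ b hb => hZc hb a) hnI
  -- an element whose square is the square of a central element is central
  have hnosqrt : ∀ {x w : P}, w ∈ Z → x * x = w * w → x ∈ Z := by
    intro x w hw h
    have h1 : x * w⁻¹ * (x * w⁻¹) = 1 := by
      calc x * w⁻¹ * (x * w⁻¹) = x * (w⁻¹ * x) * w⁻¹ := by group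
        _ = x * (x * w⁻¹) * w⁻¹ := by rw [hZc (inv_mem hw) x]
        _ = (x * x) * (w * w)⁻¹ := by group
        _ = 1 := by rw [h, mul_inv_cancel]
    have := mul_mem (hinvZ h1) hw
    rwa [inv_mul_cancel_right] at this
  let InX : P → Prop := fun x => x * x ∈ Z ∧ ∀ y, cm x y ∈ Z
  have hc2 : ∀ {x : P}, InX x → ∀ y, cm x y * cm x y = 1 := by
    intro x hx y
    calc cm x y * cm x y = x * x⁻¹ * cm x y * cm x y := by rw [mul_inv_cancel, one_mul]
      _ = x * (cm x y * x⁻¹) * cm x y := by rw [← hZc (hx.2 y) x⁻¹]; group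
      _ = (x * x) * y * (x * x)⁻¹ * y⁻¹ := by unfold cm; group
      _ = 1 := by rw [← hZc hx.1 y]; group
  have hc2' : ∀ {c : P}, c * c = 1 → c ^ 2 ^ (n - 1) = 1 := by
    intro c hc
    rw [show n - 1 = n - 2 + 1 by omega, pow_succ', pow_mul, sq, hc, one_pow]
  have hXn : ∀ {x : P}, InX x → x ^ 2 ^ n = 1 → x ∈ Z := by
    intro x hx h
    obtain ⟨s, hs, hss⟩ := hZsqrt (n - 1) (by omega) (x * x) hx.1 (by
      rw [← sq, ← pow_mul, ← pow_succ', show n - 1 + 1 = n by omega, h])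
    exact hnosqrt hs hss.symm
  have hXaut : ∀ (α : MulAut P) {x : P}, InX x → InX (α x) := by
    intro α x hx
    refine ⟨by rw [← map_mul]; exact center_fixed α hx.1, fun y => ?_⟩
    have h := center_fixed α (hx.2 (α.symm y))
    simp only [cm, map_mul, map_inv, α.apply_symm_apply] at h
    exact h
  have hswap : ∀ {x : P}, InX x → ∀ y, cm y x = cm x y := by
    intro x hx y
    calc cm y x = (cm x y)⁻¹ := by unfold cm; group
      _ = cm x y := inv_eq_of_mul_eq_one_right (hc2 hx y)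
  have hconjc : ∀ {x : P}, InX x → ∀ y, y * x * y⁻¹ = cm x y * x := by
    intro x hx y
    rw [← hswap hx y]; unfold cm; group
  have hXmul : ∀ {x y : P}, InX x → InX y →
      InX (x * y) ∧ (x * y) ^ 2 ^ n = x ^ 2 ^ n * y ^ 2 ^ n := by
    intro x y hx hy
    have h1 : (x * y) * (x * y) = (x * x) * cm x y * (y * y) := by
      calc (x * y) * (x * y) = x * (y * x * y⁻¹) * (y * y) := by group
        _ = x * (cm x y * x) * (y * y) := by rw [hconjc hx]
        _ = x * (x * cm x y) * (y * y) := by rw [hZc (hx.2 y) x]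
        _ = (x * x) * cm x y * (y * y) := by group
    refine ⟨⟨by rw [h1]; exact mul_mem (mul_mem hx.1 (hx.2 y)) hy.1, fun w => ?_⟩, ?_⟩
    · have e : cm (x * y) w = x * cm y w * x⁻¹ * cm x w := by unfold cm; group
      rw [e, hZc (hy.2 w) x, mul_inv_cancel_right]
      exact mul_mem (hy.2 w) (hx.2 w)
    · rw [show 2 ^ n = 2 * 2 ^ (n - 1) by rw [← pow_succ', show n - 1 + 1 = n by omega],
        pow_mul, pow_mul, pow_mul, sq, sq, sq, h1,
        Commute.mul_pow (hZc hy.1 _), Commute.mul_pow (hZc (hx.2 y) _),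
        hc2' (hc2 hx y), mul_one]
  have hXZ : ∀ {w : P}, w ∈ Z → InX w := fun {w} hw => ⟨mul_mem hw hw, fun y => by
    have : cm w y = 1 := by unfold cm; rw [← hZc hw y]; group
    rw [this]; exact one_mem _⟩
  have hXinv : ∀ {x : P}, InX x → InX x⁻¹ := fun {x} hx => by
    have := (hXmul hx (hXZ (inv_mem hx.1))).1
    rwa [mul_inv_rev, mul_inv_cancel_left] at this
  obtain ⟨x₀, hx₀, hx₀Z⟩ : ∃ x₀, InX x₀ ∧ x₀ ∉ Z := by
    haveI : Nontrivial (P ⧸ Z) := by
      rw [QuotientGroup.nontrivial_iff]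
      intro h
      refine hna fun x y => hZc (h ▸ Subgroup.mem_top y : y ∈ Z) x
    have hQ := hP.to_quotient Z
    haveI := hQ.center_nontrivial
    have hd : 2 ∣ Nat.card (Subgroup.center (P ⧸ Z)) := by
      obtain ⟨m, hm, hcard⟩ :=
        (hQ.to_subgroup (Subgroup.center (P ⧸ Z))).nontrivial_iff_card.1 ‹_›
      rw [hcard]; exact dvd_pow_self 2 (by omega)
    obtain ⟨c, hc⟩ := exists_prime_orderOf_dvd_card' (G := Subgroup.center (P ⧸ Z)) 2 hd
    rw [← Subgroup.orderOf_coe] at hc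
    obtain ⟨x, hx⟩ := QuotientGroup.mk'_surjective Z (c : P ⧸ Z)
    refine ⟨x, ⟨(QuotientGroup.eq_one_iff _).1 ?_, fun y => (QuotientGroup.eq_one_iff _).1 ?_⟩,
      fun h => ?_⟩
    · rw [QuotientGroup.mk_mul, show ((x : P) : P ⧸ Z) = c from hx, ← sq, ← hc, pow_orderOf_eq_one]
    · unfold cm
      rw [QuotientGroup.mk_mul, QuotientGroup.mk_mul, QuotientGroup.mk_mul, QuotientGroup.mk_inv,
        QuotientGroup.mk_inv, show ((x : P) : P ⧸ Z) = c from hx,
        ← Subgroup.mem_center_iff.1 c.2]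
      group
    · have : (c : P ⧸ Z) = 1 := hx.symm.trans ((QuotientGroup.eq_one_iff _).2 h)
      rw [this, orderOf_one] at hc
      omega
  have hx₀n : x₀ ^ 2 ^ n ≠ 1 := fun h => hx₀Z (hXn hx₀ h)
  have hx₀inv : x₀ ^ 2 ^ n * x₀ ^ 2 ^ n = 1 := by
    rw [← pow_add, ← two_mul, pow_mul, sq]
    exact hnexp _ hx₀.1
  have hθ : ∀ u : P, u * u = 1 → ∃ x, InX x ∧ x ^ 2 ^ n = u := by
    intro u hu
    by_cases hu1 : u = 1
    · exact ⟨1, hXZ (one_mem _), by rw [one_pow, hu1]⟩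
    · obtain ⟨i, hi⟩ := htr _ u hx₀n hx₀inv hu1 hu
      exact ⟨(φ ^ i) x₀, hXaut _ hx₀, by rw [← map_pow, hi]⟩
  -- the elementary abelian subgroup of involutions
  let W : Subgroup P :=
    { carrier := {x | x * x = 1}
      one_mem' := one_mul 1
      inv_mem' := fun {x} hx => by
        show x⁻¹ * x⁻¹ = 1
        rw [← mul_inv_rev, show x * x = 1 from hx, inv_one]
      mul_mem' := fun {x y} hx hy => by
        show x * y * (x * y) = 1
        calc x * y * (x * y) = x * (y * x) * y := by group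
          _ = (x * x) * (y * y) := by rw [hZc (hinvZ hx) y]; group
          _ = 1 := by rw [show x * x = 1 from hx, show y * y = 1 from hy, one_mul] }
  letI : CommGroup W := { (inferInstance : Group W) with
    mul_comm := fun a b => Subtype.ext (hZc (hinvZ b.2) a.1) }
  obtain ⟨ψ, hψ⟩ := exists_restrict φ W fun x hx => by
    show φ x * φ x = 1
    rw [← map_mul, show x * x = 1 from hx, map_one]
  have hW2 : ∀ v : W, v * v = 1 := fun v => Subtype.ext v.2
  have hWtr : ∀ a b : W, a ≠ 1 → b ≠ 1 → ∃ i : ℕ, (ψ ^ i) a = b := fun a b ha hb => by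
    obtain ⟨i, hi⟩ := htr a b (fun h => ha (Subtype.ext h)) a.2 (fun h => hb (Subtype.ext h)) b.2
    exact ⟨i, Subtype.ext ((pow_apply_coe φ ψ hψ i a).trans hi)⟩
  -- the elements of `InX` commute with each other
  have hXX : ∀ x y, InX x → InX y → x * y = y * x := by
    choose ξ hξ hξn using fun u : W => hθ u u.2
    have hwd : ∀ (u : W) {x : P}, InX x → x ^ 2 ^ n = u → ∀ y,
        cm (ξ u) y = cm x y ∧ cm y (ξ u) = cm y x := by
      intro u x hx hxu y
      obtain ⟨h1, h2⟩ := hXmul (hXinv hx) (hξ u)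
      have hd : x⁻¹ * ξ u ∈ Z := hXn h1 (by rw [h2, hξn, inv_pow, hxu, inv_mul_cancel])
      obtain ⟨d, hdZ, hξd⟩ : ∃ d ∈ Z, ξ u = x * d := ⟨_, hd, by group⟩
      rw [hξd]
      constructor
      · calc cm (x * d) y = x * (d * y) * d⁻¹ * x⁻¹ * y⁻¹ := by unfold cm; group
          _ = cm x y := by rw [← hZc hdZ y]; unfold cm; group
      · calc cm y (x * d) = y * x * (d * y⁻¹) * d⁻¹ * x⁻¹ := by unfold cm; group
          _ = cm y x := by rw [← hZc hdZ y⁻¹]; unfold cm; group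
    have hB : ∀ u v : W, cm (ξ u) (ξ v) ∈ W := fun u v => hc2 (hξ u) _
    have hl : ∀ u v w : W, cm (ξ (u * v)) (ξ w) = cm (ξ u) (ξ w) * cm (ξ v) (ξ w) := by
      intro u v w
      obtain ⟨h1, h2⟩ := hXmul (hξ u) (hξ v)
      rw [(hwd (u * v) h1 (by rw [h2, hξn, hξn]; rfl) _).1]
      calc cm (ξ u * ξ v) (ξ w) = ξ u * cm (ξ v) (ξ w) * (ξ u)⁻¹ * cm (ξ u) (ξ w) := by
            unfold cm; group
        _ = cm (ξ v) (ξ w) * cm (ξ u) (ξ w) := by
            rw [hZc ((hξ v).2 _) (ξ u), mul_inv_cancel_right]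
        _ = _ := hZc ((hξ u).2 _) _
    have hsymm : ∀ u v : W, cm (ξ u) (ξ v) = cm (ξ v) (ξ u) := fun u v => hswap (hξ v) _
    have hvan := CyclicModule.eq_one_of_equivariant_alternating ψ hW2 hWtr
      (fun u v => ⟨cm (ξ u) (ξ v), hB u v⟩)
      (fun u v w => Subtype.ext (hl u v w))
      (fun u v w => Subtype.ext (by
        show cm (ξ u) (ξ (v * w)) = cm (ξ u) (ξ v) * cm (ξ u) (ξ w)
        rw [hsymm, hl, hsymm v, hsymm w]))
      (fun u => Subtype.ext (by show cm (ξ u) (ξ u) = 1; unfold cm; group))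
      (fun u v => Subtype.ext (by
        show cm (ξ (ψ u)) (ξ (ψ v)) = _
        rw [hψ]
        have e : ∀ u : W, (φ (ξ u)) ^ 2 ^ n = (ψ u : P) := fun u => by rw [← map_pow, hξn, hψ]
        rw [(hwd (ψ u) (hXaut φ (hξ u)) (e u) _).1, (hwd (ψ v) (hXaut φ (hξ v)) (e v) _).2]
        simp [cm]))
    intro x y hx hy
    have hxW : x ^ 2 ^ n ∈ W := by
      show x ^ 2 ^ n * x ^ 2 ^ n = 1
      rw [← pow_add, ← two_mul, pow_mul, sq]; exact hnexp _ hx.1
    have hyW : y ^ 2 ^ n ∈ W := by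
      show y ^ 2 ^ n * y ^ 2 ^ n = 1
      rw [← pow_add, ← two_mul, pow_mul, sq]; exact hnexp _ hy.1
    have h := congrArg Subtype.val (hvan ⟨_, hxW⟩ ⟨_, hyW⟩)
    simp only at h
    rw [(hwd ⟨_, hxW⟩ hx rfl _).1, (hwd ⟨_, hyW⟩ hy rfl _).2] at h
    have h' : x * y * x⁻¹ * y⁻¹ = 1 := h
    exact mul_inv_eq_iff_eq_mul.1 (mul_inv_eq_one.1 h')
  -- the centraliser of all these elements
  set R := Subgroup.centralizer {x | InX x} with hR
  have hXR : ∀ {x : P}, InX x → x ∈ R := fun hx =>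
    Subgroup.mem_centralizer_iff.2 fun y hy => hXX y _ hy hx
  have hmemR : ∀ {g : P}, (∀ x, InX x → x * g = g * x) → g ∈ R := fun h =>
    Subgroup.mem_centralizer_iff.2 h
  have hRX : ∀ {g x : P}, g ∈ R → InX x → x * g = g * x := fun hg hx =>
    Subgroup.mem_centralizer_iff.1 hg _ hx
  have hRaut : ∀ (α : MulAut P) {r : P}, r ∈ R → α r ∈ R := by
    intro α r hr
    refine hmemR fun x hx => ?_
    have h := congrArg α (hRX hr (hXaut α.symm hx))
    simp only [map_mul] at h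
    rw [show α (α.symm x) = x from α.apply_symm_apply x] at h
    exact h
  have hZR : ∀ {w : P}, w ∈ Z → w ∈ R := fun hw => hXR (hXZ hw)
  have hRc : ∀ a ∈ R, ∀ b ∈ R, a * b = b * a := by
    have hlt : Nat.card R ≤ k := by
      have hne : R ≠ ⊤ := fun h => hx₀Z (Subgroup.mem_center_iff.2 fun g =>
        (hRX (h ▸ Subgroup.mem_top g : g ∈ R) hx₀).symm)
      have := Subgroup.card_le_card_group R
      have : Nat.card R ≠ Nat.card P := fun e => hne (Subgroup.eq_top_of_card_eq R e)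
      omega
    obtain ⟨χ, hχ⟩ := exists_restrict φ R fun r hr => hRaut φ hr
    intro a ha b hb
    refine congrArg Subtype.val (ih (P := R) hlt (hP.to_subgroup R) χ ?_ ⟨x₀, hXR hx₀⟩ ?_ ?_
      ⟨a, ha⟩ ⟨b, hb⟩)
    · intro x y hx hx2 hy hy2
      obtain ⟨i, hi⟩ := htr x y (fun h => hx (Subtype.ext h)) (congrArg Subtype.val hx2)
        (fun h => hy (Subtype.ext h)) (congrArg Subtype.val hy2)
      exact ⟨i, Subtype.ext ((pow_apply_coe φ χ hχ i x).trans hi)⟩
    · exact Subgroup.mem_center_iff.2 fun g => Subtype.ext (hRX g.2 hx₀).symm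
    · intro h
      refine hx₀n ?_
      rw [show 2 ^ n = 2 * 2 ^ (n - 1) by rw [← pow_succ', show n - 1 + 1 = n by omega], pow_mul,
        sq, show x₀ * x₀ = 1 from congrArg Subtype.val h, one_pow]
  have hRconj : ∀ (y : P) {r : P}, r ∈ R → y * r * y⁻¹ ∈ R := fun y r hr => by
    have := hRaut (MulAut.conj y) hr
    rwa [MulAut.conj_apply] at this
  have hsqR : ∀ y : P, y * y ∈ R := by
    intro y
    refine hmemR fun x hx => ?_
    have h1 := hconjc hx y
    have h2 : y * y * x * (y * y)⁻¹ = x := by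
      calc y * y * x * (y * y)⁻¹ = y * (y * x * y⁻¹) * y⁻¹ := by group
        _ = (y * cm x y) * x * y⁻¹ := by rw [h1]; group
        _ = cm x y * (y * x * y⁻¹) := by rw [hZc (hx.2 y) y]; group
        _ = cm x y * cm x y * x := by rw [h1]; group
        _ = x := by rw [hc2 hx, one_mul]
    exact (mul_inv_eq_iff_eq_mul.1 h2).symm
  have hcmR : ∀ a b : P, cm a b ∈ R := fun a b => by
    have e : cm a b = (a * a) * ((a⁻¹ * b) * (a⁻¹ * b)) * (b * b)⁻¹ := by unfold cm; group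
    rw [e]
    exact mul_mem (mul_mem (hsqR a) (hsqR _)) (inv_mem (hsqR b))
  obtain ⟨N, hNexp, hNI⟩ := exists_level R hP htr (fun i r hr => hRaut (φ ^ i) hr)
    (fun c hc => hZR (hinvZ hc))
  have hNn : n + 1 ≤ N := by
    by_contra h
    exact hx₀n (orderOf_dvd_iff_pow_eq_one.1 ((orderOf_dvd_of_pow_eq_one
      (hNexp x₀ (hXR hx₀))).trans (pow_dvd_pow 2 (by omega))))
  have hRsqrt := exists_sqrt R hRc hNI
  have hRZ : ∀ j ≤ n, ∀ r ∈ R, r ^ 2 ^ j = 1 → r ∈ Z := by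
    intro j
    induction j with
    | zero => intro _ r _ h; rw [pow_zero, pow_one] at h; rw [h]; exact one_mem _
    | succ j ih' =>
      intro hj r hr h
      obtain ⟨w, hw, hwc⟩ := hnI (r ^ 2 ^ j) (by rw [← pow_add, ← two_mul, ← pow_succ', h])
      set t := w ^ 2 ^ (n - 1 - j) with ht
      have htZ : t ∈ Z := pow_mem hw _
      have htt : t ^ 2 ^ j = r ^ 2 ^ j := by
        rw [ht, ← pow_mul, ← pow_add, ← hwc]; congr 2; omega
      have h1 := ih' (by omega) (r * t⁻¹) (mul_mem hr (inv_mem (hZR htZ))) (by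
        rw [Commute.mul_pow (hZc (inv_mem htZ) r), inv_pow, htt, mul_inv_cancel])
      have := mul_mem h1 htZ
      rwa [inv_mul_cancel_right] at this
  have hδR : ∀ (y : P) {r : P}, r ∈ R → cm y r ∈ R := fun y r hr =>
    mul_mem (hRconj y hr) (inv_mem hr)
  have hδmul : ∀ (y : P) {r s : P}, r ∈ R → s ∈ R → cm y (r * s) = cm y r * cm y s := by
    intro y r s hr hs
    calc cm y (r * s) = cm y r * (r * cm y s * r⁻¹) := by unfold cm; group
      _ = cm y r * cm y s := by rw [hRc r hr _ (hδR y hs), mul_inv_cancel_right]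
  have hδ1 : ∀ (y : P) {r : P}, r ∈ Z → cm y r = 1 := fun y r hr => by
    unfold cm; rw [hZc hr y]; group
  have hδpow : ∀ (y : P) {r : P}, r ∈ R → ∀ j : ℕ, cm y (r ^ j) = cm y r ^ j := by
    intro y r hr j
    induction j with
    | zero => rw [pow_zero, pow_zero]; exact hδ1 y (one_mem _)
    | succ j ih' => rw [pow_succ, hδmul y (pow_mem hr j) hr, ih', pow_succ]
  have hδkill : ∀ (y : P) {r : P}, r ∈ R → ∀ j, N - n ≤ j → cm y r ^ 2 ^ j = 1 := by
    intro y r hr j hj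
    have h : cm y r ^ 2 ^ (N - n) = 1 := by
      rw [← hδpow y hr]
      refine hδ1 y (hRZ n le_rfl _ (pow_mem hr _) ?_)
      rw [← pow_mul, ← pow_add, show N - n + n = N by omega]
      exact hNexp r hr
    exact orderOf_dvd_iff_pow_eq_one.1 ((orderOf_dvd_of_pow_eq_one h).trans (pow_dvd_pow 2 hj))
  -- `r ↦ y r y⁻¹ r` maps `R` onto its squares
  have hker : ∀ (y : P) {r : P}, r ∈ R → y * r * y⁻¹ * r = 1 → r * r = 1 := by
    intro y r hr h
    by_contra hr2
    obtain ⟨j, hj⟩ := IsPGroup.iff_orderOf.1 hP r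
    have hj2 : 2 ≤ j := by
      by_contra hlt
      refine hr2 ?_
      rw [← sq]
      exact orderOf_dvd_iff_pow_eq_one.1
        (hj ▸ (by simpa using pow_dvd_pow 2 (show j ≤ 1 by omega)))
    set r' := r ^ 2 ^ (j - 2) with hr'
    have hr'Z : r' ∈ Z := hRZ 2 hn2 _ (pow_mem hr _) (by
      rw [hr', ← pow_mul, ← pow_add, show j - 2 + 2 = j by omega, ← hj, pow_orderOf_eq_one])
    have h1 : y * r' * y⁻¹ = r'⁻¹ := by
      rw [hr', ← conj_pow, eq_inv_of_mul_eq_one_left h, inv_pow]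
    rw [hZc hr'Z y, mul_inv_cancel_right] at h1
    have h2 : r' * r' = 1 := mul_eq_one_iff_eq_inv.2 h1
    rw [hr', ← pow_add, ← two_mul, ← pow_succ'] at h2
    have h3 := orderOf_dvd_of_pow_eq_one h2
    rw [hj] at h3
    have := (Nat.pow_dvd_pow_iff_le_right one_lt_two).1 h3
    omega
  have hsolve : ∀ (y : P) {s : P}, s ∈ R → ∃ r ∈ R, y * r * y⁻¹ * r = s * s := by
    intro y s hs
    let μ : R →* R := MonoidHom.mk' (fun r => ⟨y * r * y⁻¹ * r, mul_mem (hRconj y r.2) r.2⟩)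
      fun r₁ r₂ => Subtype.ext (by
        show y * (r₁.1 * r₂.1) * y⁻¹ * (r₁.1 * r₂.1) =
          y * r₁.1 * y⁻¹ * r₁.1 * (y * r₂.1 * y⁻¹ * r₂.1)
        calc y * (r₁.1 * r₂.1) * y⁻¹ * (r₁.1 * r₂.1) =
            y * r₁.1 * y⁻¹ * ((y * r₂.1 * y⁻¹) * r₁.1) * r₂.1 := by group
          _ = y * r₁.1 * y⁻¹ * (r₁.1 * (y * r₂.1 * y⁻¹)) * r₂.1 := by
            rw [hRc _ (hRconj y r₂.2) _ r₁.2]
          _ = _ := by group)
    let sqh : R →* R := MonoidHom.mk' (fun r => r * r) fun r₁ r₂ => Subtype.ext (by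
      show r₁.1 * r₂.1 * (r₁.1 * r₂.1) = r₁.1 * r₁.1 * (r₂.1 * r₂.1)
      calc r₁.1 * r₂.1 * (r₁.1 * r₂.1) = r₁.1 * (r₂.1 * r₁.1) * r₂.1 := by group
        _ = _ := by rw [hRc _ r₂.2 _ r₁.2]; group)
    have hsub : μ.range ≤ sqh.range := by
      rintro _ ⟨r, rfl⟩
      obtain ⟨u, hu, huu⟩ := hRsqrt (N - 1) (by omega) (cm y r.1) (hδR y r.2)
        (hδkill y r.2 _ (by omega))
      refine ⟨⟨u * r.1, mul_mem hu r.2⟩, Subtype.ext ?_⟩
      show u * r.1 * (u * r.1) = y * r.1 * y⁻¹ * r.1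
      calc u * r.1 * (u * r.1) = u * (r.1 * u) * r.1 := by group
        _ = (u * u) * (r.1 * r.1) := by rw [hRc _ r.2 _ hu]; group
        _ = _ := by rw [huu]; unfold cm; group
    have hcard : Nat.card sqh.range ≤ Nat.card μ.range := by
      rw [← Subgroup.index_ker, ← Subgroup.index_ker]
      refine Nat.le_of_dvd (Nat.pos_of_ne_zero Subgroup.index_ne_zero_of_finite)
        (Subgroup.index_dvd_of_le fun r hr => ?_)
      exact Subtype.ext (hker y r.2 (congrArg Subtype.val (MonoidHom.mem_ker.1 hr)))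
    obtain ⟨r, hr⟩ : sqh ⟨s, hs⟩ ∈ μ.range := by
      rw [Subgroup.eq_of_le_of_card_ge hsub hcard]
      exact ⟨_, rfl⟩
    exact ⟨r.1, r.2, congrArg Subtype.val hr⟩
  -- the squaring map from `P / R` to the involutions
  let σ : P → P := fun y => (y * y) ^ 2 ^ (N - 1)
  have hσW : ∀ y, σ y * σ y = 1 := fun y => by
    show (y * y) ^ 2 ^ (N - 1) * (y * y) ^ 2 ^ (N - 1) = 1
    rw [← pow_add, ← two_mul, ← pow_succ', show N - 1 + 1 = N by omega]
    exact hNexp _ (hsqR y)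
  have hσR : ∀ {y : P}, σ y = 1 → y ∈ R := by
    intro y h
    obtain ⟨s, hs, hss⟩ := hRsqrt (N - 1) (by omega) _ (hsqR y) h
    obtain ⟨r, hr, hrs⟩ := hsolve y (inv_mem hs)
    have h1 : y * r * (y * r) = 1 := by
      calc y * r * (y * r) = (y * r * y⁻¹) * ((y * y) * r) := by group
        _ = (y * r * y⁻¹) * (r * (y * y)) := by rw [hRc _ (hsqR y) _ hr]
        _ = (y * r * y⁻¹ * r) * (y * y) := by group
        _ = 1 := by rw [hrs, ← hss]; group
    have := mul_mem (hZR (hinvZ h1)) (inv_mem hr)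
    rwa [mul_inv_cancel_right] at this
  have hcmkill : ∀ a b : P, cm a b ^ 2 ^ (N - 1) = 1 := by
    intro a b
    have h1 : a * cm a b * a⁻¹ * cm a b = (cm b (a * a))⁻¹ := by
      unfold cm
      simp only [mul_inv_rev, inv_inv, mul_assoc, inv_mul_cancel_left, mul_inv_cancel_left]
    have h2 : (a * cm a b * a⁻¹ * cm a b) ^ 2 ^ (N - 2) = 1 := by
      rw [h1, inv_pow, hδkill b (hsqR a) _ (by omega), inv_one]
    rw [Commute.mul_pow (hRc _ (hRconj a (hcmR a b)) _ (hcmR a b)), conj_pow] at h2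
    have h3 := hker a (pow_mem (hcmR a b) _) h2
    rw [← pow_add, ← two_mul, ← pow_succ', show N - 2 + 1 = N - 1 by omega] at h3
    exact h3
  have hσmul : ∀ a b : P, σ (a * b) = σ a * σ b := by
    intro a b
    have e : a * b * (a * b) = (a * a) * cm a⁻¹ b * (b * b) := by unfold cm; group
    show ((a * b) * (a * b)) ^ 2 ^ (N - 1) = _
    rw [e, Commute.mul_pow (hRc _ (mul_mem (hsqR a) (hcmR _ _)) _ (hsqR b)),
      Commute.mul_pow (hRc _ (hsqR a) _ (hcmR _ _)), hcmkill, mul_one]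
  obtain ⟨y₀, hy₀⟩ : ∃ y₀, y₀ ∉ R := by
    by_contra h
    push Not at h
    exact hna fun x y => hRc x (h x) y (h y)
  have hσsurj : ∀ u : P, u * u = 1 → ∃ y, σ y = u := by
    intro u hu
    by_cases hu1 : u = 1
    · exact ⟨1, by show (1 * 1 : P) ^ _ = u; rw [one_mul, one_pow, hu1]⟩
    · obtain ⟨i, hi⟩ := htr (σ y₀) u (fun h => hy₀ (hσR h)) (hσW _) hu1 hu
      exact ⟨(φ ^ i) y₀, by
        show ((φ ^ i) y₀ * (φ ^ i) y₀) ^ 2 ^ (N - 1) = u
        rw [← map_mul, ← map_pow]; exact hi⟩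
  choose ζ hζ using fun u : W => hσsurj u u.2
  choose ρ hρR hρ using fun u : W => hNI u u.2
  let e : P → P → P := fun y r => cm y (r ^ 2 ^ (N - n - 1))
  have he2 : ∀ (y : P) {r : P}, r ∈ R → e y r * e y r = 1 := by
    intro y r hr
    show cm y _ * cm y _ = 1
    rw [← hδmul y (pow_mem hr _) (pow_mem hr _), hδpow y (by exact mul_mem (pow_mem hr _) (pow_mem hr _)) 1
      |>.trans (pow_one _) |>.symm, pow_one, ← pow_add, ← two_mul, ← pow_succ',
      show N - n - 1 + 1 = N - n by omega, hδpow y hr]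
    exact hδkill y hr _ le_rfl
  have heW : ∀ (u v : W), e (ζ u) (ρ v) ∈ W := fun u v => he2 _ (hρR v)
  have heZ : ∀ (y : P) {r : P}, r ∈ R → e y r ∈ Z := fun y r hr => hinvZ (he2 y hr)
  have hcongl : ∀ {y y' : P} {r : P}, r ∈ R → σ y = σ y' → e y r = e y' r := by
    intro y y' r hr h
    have hd : y⁻¹ * y' ∈ R := by
      refine hσR ?_
      rw [hσmul, ← h]
      have h1 : σ y⁻¹ * σ y = 1 := by
        rw [← hσmul, inv_mul_cancel]
        show ((1 : P) * 1) ^ _ = 1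
        rw [one_mul, one_pow]
      exact h1
    obtain ⟨d, hdR, rfl⟩ : ∃ d ∈ R, y' = y * d := ⟨_, hd, by group⟩
    show cm y (r ^ 2 ^ (N - n - 1)) = cm (y * d) (r ^ 2 ^ (N - n - 1))
    symm
    calc cm (y * d) (r ^ 2 ^ (N - n - 1)) =
          y * (d * r ^ 2 ^ (N - n - 1)) * d⁻¹ * y⁻¹ * (r ^ 2 ^ (N - n - 1))⁻¹ := by
          unfold cm; group
      _ = cm y (r ^ 2 ^ (N - n - 1)) := by
          rw [hRc d hdR _ (pow_mem hr _)]; unfold cm; group
  have hemulr : ∀ (y : P) {r s : P}, r ∈ R → s ∈ R → e y (r * s) = e y r * e y s := by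
    intro y r s hr hs
    show cm y _ = _
    rw [Commute.mul_pow (hRc r hr s hs), hδmul y (pow_mem hr _) (pow_mem hs _)]
  have hcongr : ∀ (y : P) {r r' : P}, r ∈ R → r' ∈ R → r ^ 2 ^ (N - 1) = r' ^ 2 ^ (N - 1) →
      e y r = e y r' := by
    intro y r r' hr hr' h
    obtain ⟨s, hs, hss⟩ := hRsqrt (N - 1) (by omega) (r' * r⁻¹) (mul_mem hr' (inv_mem hr)) (by
      rw [Commute.mul_pow (hRc _ hr' _ (inv_mem hr)), inv_pow, h, mul_inv_cancel])
    have h1 : e y (s * s) = 1 := by rw [hemulr y hs hs]; exact he2 y hs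
    have h2 : r' = (s * s) * r := by rw [hss]; group
    rw [h2, hemulr y (mul_mem hs hs) hr, h1, one_mul]
  have hB : ∀ (u v : W) {y r : P}, σ y = u → r ∈ R → r ^ 2 ^ (N - 1) = v →
      e (ζ u) (ρ v) = e y r := fun u v y r hy hr hrv =>
    (hcongl (hρR v) ((hζ u).trans hy.symm)).trans
      (hcongr y (hρR v) hr ((hρ v).trans hrv.symm))
  have hvan := CyclicModule.eq_one_of_equivariant_alternating ψ hW2 hWtr
    (fun u v => ⟨e (ζ u) (ρ v), heW u v⟩)
    (fun u v w => Subtype.ext (by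
      show e (ζ (u * v)) (ρ w) = e (ζ u) (ρ w) * e (ζ v) (ρ w)
      rw [hB (u * v) w (y := ζ u * ζ v) (by rw [hσmul, hζ, hζ]; rfl) (hρR w) (hρ w)]
      calc e (ζ u * ζ v) (ρ w) = ζ u * e (ζ v) (ρ w) * (ζ u)⁻¹ * e (ζ u) (ρ w) := by
            show cm _ _ = _ * cm _ _ * _ * cm _ _
            unfold cm; group
        _ = e (ζ v) (ρ w) * e (ζ u) (ρ w) := by
            rw [hZc (heZ _ (hρR w)) (ζ u), mul_inv_cancel_right]
        _ = _ := hZc (heZ _ (hρR w)) _))
    (fun u v w => Subtype.ext (by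
      show e (ζ u) (ρ (v * w)) = e (ζ u) (ρ v) * e (ζ u) (ρ w)
      rw [hB u (v * w) (hζ u) (mul_mem (hρR v) (hρR w)) (by
        rw [Commute.mul_pow (hRc _ (hρR v) _ (hρR w)), hρ, hρ]; rfl), hemulr _ (hρR v) (hρR w)]))
    (fun u => Subtype.ext (by
      show e (ζ u) (ρ u) = 1
      rw [hB u u (hζ u) (hsqR (ζ u)) (hζ u)]
      show cm _ _ = 1
      have hc : Commute (ζ u) ((ζ u * ζ u) ^ 2 ^ (N - n - 1)) :=
        ((Commute.refl (ζ u)).mul_right (Commute.refl (ζ u))).pow_right _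
      unfold cm
      rw [hc.eq]; group))
    (fun u v => Subtype.ext (by
      show e (ζ (ψ u)) (ρ (ψ v)) = (ψ ⟨_, heW u v⟩ : P)
      rw [hψ, hB (ψ u) (ψ v) (y := φ (ζ u)) (r := φ (ρ v))
        (by show (φ (ζ u) * φ (ζ u)) ^ _ = _; rw [← map_mul, ← map_pow, hψ]; exact congrArg φ (hζ u))
        (hRaut φ (hρR v)) (by rw [← map_pow, hρ, hψ])]
      simp [e, cm]))
  refine hy₀ (hmemR fun x hx => ?_)
  obtain ⟨r, hr, hrx⟩ := exists_root R hRc hNI (N - n - 1) (n + 1) (by omega) x (hXR hx)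
    (by rw [pow_succ', pow_mul, sq]; exact hnexp _ hx.1)
  have hrW : r ^ 2 ^ (N - 1) ∈ W := by
    show r ^ 2 ^ (N - 1) * r ^ 2 ^ (N - 1) = 1
    rw [← pow_add, ← two_mul, ← pow_succ', show N - 1 + 1 = N by omega]
    exact hNexp r hr
  have h := congrArg Subtype.val (hvan ⟨σ y₀, hσW y₀⟩ ⟨_, hrW⟩)
  simp only at h
  rw [hB ⟨σ y₀, hσW y₀⟩ ⟨_, hrW⟩ rfl hr rfl] at h
  have h' : cm y₀ x = 1 := by rw [← hrx]; exact h
  unfold cm at h'
  exact (mul_inv_eq_iff_eq_mul.1 (mul_inv_eq_one.1 h')).symm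

/-- If the group is not abelian, its centre has exponent two. -/
theorem center_sq (hP : IsPGroup 2 P) {φ : MulAut P} (htr : Trans φ)
    (hna : ∃ x y : P, x * y ≠ y * x) {z : P} (hz : z ∈ Subgroup.center P) : z * z = 1 := by
  by_contra h
  obtain ⟨x, y, hxy⟩ := hna
  exact hxy (aux (Nat.card P) le_rfl hP φ htr z hz h x y)

end CfsgLib.Suzuki.TwoGroup
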