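/-
Normal subgroups of Zassenhaus groups; Zassenhaus groups of odd degree are simple.
-/
import Mathlib
import Cfsg.Agent.Lib.Char.Zassenhaus
import Cfsg.Agent.Lib.RankOneSetup.Structure

set_option autoImplicit false

namespace CfsgLib.Suzuki.ZassenhausNormal

open MulAction (stabilizer)

variable {G Ω : Type*} [Group G] [MulAction G Ω] [Finite Ω]

theorem finite_of_faithful (hf : FaithfulSMul G Ω) : Finite G :=
  Finite.of_injective (fun g : G => fun c : Ω => g • c) fun _ _ h =>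
    hf.eq_of_smul_eq_smul (congrFun h)

/-- A non-trivial normal subgroup of a doubly transitive group is transitive. -/
theorem transitive_of_normal (hf : FaithfulSMul G Ω)
    (h2 : MulAction.IsMultiplyPretransitive G Ω 2) (N : Subgroup G) [N.Normal] (hN : N ≠ ⊥)
    (c d : Ω) : ∃ n ∈ N, n • c = d := by
  obtain ⟨n, hn, hn1⟩ := (Subgroup.bot_or_exists_ne_one N).resolve_left hN
  obtain ⟨p, hp⟩ : ∃ p : Ω, n • p ≠ p := by
    by_contra h
    push Not at h
    exact hn1 (hf.eq_of_smul_eq_smul fun c => by rw [h, one_smul])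
  by_cases hcd : c = d
  · exact ⟨1, one_mem _, by rw [one_smul, hcd]⟩
  obtain ⟨g, hg1, hg2⟩ := MulAction.is_two_pretransitive_iff.1 h2 (Ne.symm hp) hcd
  exact ⟨g * n * g⁻¹, Subgroup.Normal.conj_mem ‹_› n hn g, by
    rw [mul_smul, mul_smul, ← hg1, inv_smul_smul, hg2]⟩

variable (hZ : Cfsg.IsZassenhausGroup G Ω)
include hZ

/-- A non-trivial normal subgroup contains a non-identity element fixing two points. -/
theorem exists_fix_two (N : Subgroup G) [N.Normal] (hN : N ≠ ⊥) :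
    ∃ x ∈ N, x ≠ 1 ∧ ∃ c d : Ω, c ≠ d ∧ x • c = c ∧ x • d = d := by
  classical
  haveI := hZ.1
  haveI := finite_of_faithful hZ.1
  haveI := Fintype.ofFinite Ω
  by_contra hno
  push Not at hno
  have htrans : ∀ c d : Ω, ∃ n : N, n • c = d := fun c d => by
    obtain ⟨n, hn, h⟩ := transitive_of_normal hZ.1 hZ.2.1 N hN c d
    exact ⟨⟨n, hn⟩, h⟩
  obtain ⟨a₀, ha₀⟩ := hZ.2.2.2.2 N ‹_› ⟨htrans⟩
  obtain ⟨g, hg, hg1⟩ := (Subgroup.bot_or_exists_ne_one _).resolve_left ha₀
  obtain ⟨g₀, hg₀, a₁, b₁, hab, -, -⟩ := hZ.2.2.2.1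
  have hΩ : 1 < Fintype.card Ω := Fintype.one_lt_card_iff.2 ⟨a₁, b₁, hab⟩
  obtain ⟨hF, hker⟩ := Cfsg.Agent.S4252.result (G := N) (Ω := Ω) hΩ htrans ⟨g, hg1, a₀, hg⟩
    (fun n hn c d hc hd => by
      by_contra hcd
      exact hno n n.2 (fun e => hn (Subtype.ext e)) c d hcd hc hd) a₀
  obtain ⟨K, hK, -, hc⟩ := CfsgLib.Solvable.frobenius_theorem hF
  set R := K.map N.subtype with hR
  have hmemR : ∀ x : G, x ∈ R ↔ x ∈ N ∧ (x = 1 ∨ ∀ c : Ω, x • c ≠ c) := by
    intro x
    constructor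
    · rintro ⟨y, hy, rfl⟩
      refine ⟨y.2, ?_⟩
      have h : y ∈ Cfsg.frobeniusKernel (stabilizer N a₀) := hK ▸ hy
      rw [hker] at h
      rcases h with rfl | h
      · exact Or.inl rfl
      · exact Or.inr h
    · rintro ⟨hx, h⟩
      refine ⟨⟨x, hx⟩, ?_, rfl⟩
      show (⟨x, hx⟩ : N) ∈ (K : Set N)
      rw [hK, hker]
      rcases h with rfl | h
      · exact Or.inl rfl
      · exact Or.inr h
  haveI hRn : R.Normal := by
    refine ⟨fun x hx g => ?_⟩
    rw [hmemR] at hx ⊢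
    refine ⟨Subgroup.Normal.conj_mem ‹_› x hx.1 g, ?_⟩
    rcases hx.2 with rfl | h
    · exact Or.inl (by group)
    · refine Or.inr fun c hc => h (g⁻¹ • c) ?_
      rw [mul_smul, mul_smul] at hc
      exact smul_left_cancel g (by rw [hc, smul_inv_smul])
  have hfree : ∀ x ∈ R, ∀ c : Ω, x • c = c → x = 1 := fun x hx c h =>
    ((hmemR x).1 hx).2.resolve_right fun h' => h' c h
  have hcard : Nat.card R = Fintype.card Ω := by
    rw [hR, Subgroup.card_map_of_injective N.subtype_injective]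
    haveI : MulAction.IsPretransitive N Ω := ⟨htrans⟩
    have h1 := hc.card_mul
    have h2 := (stabilizer N a₀).index_mul_card
    rw [MulAction.index_stabilizer_of_transitive, Nat.card_eq_fintype_card] at h2
    exact Nat.eq_of_mul_eq_mul_right Finite.card_pos (h1.trans h2.symm)
  have hRtrans : MulAction.IsPretransitive R Ω := by
    refine ⟨fun c d => ?_⟩
    haveI := Fintype.ofFinite R
    have hb : Function.Bijective (fun r : R => r • c) := by
      refine (Fintype.bijective_iff_injective_and_card _).2 ⟨fun r s e => ?_, ?_⟩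
      · have e' : (r : G) • c = (s : G) • c := e
        refine Subtype.ext (inv_mul_eq_one.1 (hfree _ (mul_mem (inv_mem r.2) s.2) c ?_))
        rw [mul_smul, ← e', inv_smul_smul]
      · rw [← Nat.card_eq_fintype_card, hcard]
    exact hb.2 d
  obtain ⟨p, hp⟩ := hZ.2.2.2.2 R hRn hRtrans
  refine hp ((Subgroup.eq_bot_iff_forall _).2 fun r hr => ?_)
  exact Subtype.ext (hfree r r.2 p hr)

/-- The kernel of a point stabiliser lies in every non-trivial normal subgroup. -/
theorem exists_kernel_le (N : Subgroup G) [N.Normal] (hN : N ≠ ⊥) {a b : Ω} (hab : a ≠ b) :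
    ∃ H : Subgroup G, H ≤ stabilizer G a ∧ Nat.card H + 1 = Nat.card Ω ∧
      (∀ u ∈ H, u ≠ 1 → ∀ c : Ω, u • c = c → c = a) ∧ H ≤ N := by
  classical
  haveI := hZ.1
  haveI := finite_of_faithful hZ.1
  haveI := Fintype.ofFinite Ω
  obtain ⟨H, hHa, hHcard, hHfix⟩ := CfsgLib.Char.Zassenhaus.exists_kernel hZ hab
  refine ⟨H, hHa, by rw [Nat.card_eq_fintype_card (α := Ω)]; exact hHcard, hHfix, fun v hv => ?_⟩
  obtain ⟨x₀, hx₀, hx₀1, c, d, hcd, hc, hd⟩ := exists_fix_two hZ N hN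
  obtain ⟨g, hg1, hg2⟩ := MulAction.is_two_pretransitive_iff.1 hZ.2.1 hcd hab
  set x := g * x₀ * g⁻¹ with hx
  have hxE : x ∈ (stabilizer G a ⊓ stabilizer G b : Subgroup G) := Subgroup.mem_inf.2
    ⟨by rw [MulAction.mem_stabilizer_iff, ← hg1, mul_smul, inv_smul_smul, mul_smul, hc],
      by rw [MulAction.mem_stabilizer_iff, ← hg2, mul_smul, inv_smul_smul, mul_smul, hd]⟩
  have hx1 : x ≠ 1 := fun e => hx₀1 (conj_eq_one_iff.1 e)
  let f : H → H := fun u => ⟨(u : G) * (x * (u : G)⁻¹ * x⁻¹),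
    mul_mem u.2 (CfsgLib.Char.Zassenhaus.conj_mem_kernel hZ hab hHa hHcard hHfix (Subgroup.mem_inf.1 hxE).1
      (inv_mem u.2))⟩
  have hf : Function.Injective f := by
    intro u w e
    have e' : (u : G) * (x * (u : G)⁻¹ * x⁻¹) = w * (x * (w : G)⁻¹ * x⁻¹) :=
      congrArg Subtype.val e
    have h1 : (w : G)⁻¹ * u = x * ((w : G)⁻¹ * u) * x⁻¹ := by
      calc (w : G)⁻¹ * u = (w : G)⁻¹ * (u * (x * (u : G)⁻¹ * x⁻¹)) * (x * u * x⁻¹) := by group
        _ = x * ((w : G)⁻¹ * u) * x⁻¹ := by rw [e']; group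
    have h2 : (w : G)⁻¹ * u = 1 := CfsgLib.Solvable.eq_one_of_fpf
      (A := stabilizer G a ⊓ stabilizer G b) (CfsgLib.Char.Zassenhaus.fpf hZ hab hHa hHfix) hxE hx1
      (mul_mem (inv_mem w.2) u.2) h1.symm
    exact Subtype.ext (inv_mul_eq_one.1 h2).symm
  obtain ⟨u, hu⟩ := Finite.surjective_of_injective hf ⟨v, hv⟩
  have hu' : (u : G) * (x * (u : G)⁻¹ * x⁻¹) = v := congrArg Subtype.val hu
  rw [← hu', show (u : G) * (x * (u : G)⁻¹ * x⁻¹) = (u * x * (u : G)⁻¹) * x⁻¹ by group]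
  have hxN : x ∈ N := Subgroup.Normal.conj_mem ‹_› x₀ hx₀ g
  exact mul_mem (Subgroup.Normal.conj_mem ‹_› x hxN u) (inv_mem hxN)

/-- A non-trivial normal subgroup is doubly transitive. -/
theorem two_transitive_normal (N : Subgroup G) [N.Normal] (hN : N ≠ ⊥) :
    MulAction.IsMultiplyPretransitive N Ω 2 := by
  rw [MulAction.is_two_pretransitive_iff]
  intro c₁ c₂ d₁ d₂ h h'
  haveI := hZ.1
  haveI := finite_of_faithful hZ.1
  haveI := Fintype.ofFinite Ω
  obtain ⟨n, hn, hn1⟩ := transitive_of_normal hZ.1 hZ.2.1 N hN c₁ d₁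
  have hne : n • c₂ ≠ d₁ := fun e => h (smul_left_cancel n (hn1.trans e.symm))
  obtain ⟨H, hHa, hHcard, hHfix, hHN⟩ := exists_kernel_le hZ N hN hne.symm
  rw [Nat.card_eq_fintype_card (α := Ω)] at hHcard
  obtain ⟨u, hu⟩ := (CfsgLib.Char.Zassenhaus.bijective_smul hZ hne.symm hHa hHcard hHfix).2 ⟨d₂, h'.symm⟩
  refine ⟨⟨u.1 * n, mul_mem (hHN u.2) hn⟩, ?_, ?_⟩
  · show (u.1 * n) • c₁ = d₁
    rw [mul_smul, hn1, MulAction.mem_stabilizer_iff.1 (hHa u.2)]
  · show (u.1 * n) • c₂ = d₂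
    rw [mul_smul]
    exact congrArg Subtype.val hu

omit hZ in
/-- A regular normal subgroup of a doubly transitive group: self-centralising, and the centre is
everything. -/
theorem regular_normal_abelian {T : Type*} [Group T] [Finite T] {X : Type*} [MulAction T X]
    (h2 : MulAction.IsMultiplyPretransitive T X 2) (R : Subgroup T) [R.Normal]
    (htr : MulAction.IsPretransitive R X) (hfree : ∀ r ∈ R, ∀ c : X, r • c = c → r = 1) (c : X) :
    (∀ x ∈ R, ∀ y ∈ R, x ≠ 1 → y ≠ 1 → ∃ g : T, g * x * g⁻¹ = y) ∧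
      ∀ x ∈ R, ∀ y ∈ R, x * y = y * x := by
  classical
  have hconj : ∀ x ∈ R, ∀ y ∈ R, x ≠ 1 → y ≠ 1 → ∃ g : T, g * x * g⁻¹ = y := by
    intro x hx y hy hx1 hy1
    obtain ⟨g, hg1, hg2⟩ := MulAction.is_two_pretransitive_iff.1 h2
      (show c ≠ x • c from fun e => hx1 (hfree x hx c e.symm))
      (show c ≠ y • c from fun e => hy1 (hfree y hy c e.symm))
    refine ⟨g, ?_⟩
    have hR' : y⁻¹ * (g * x * g⁻¹) ∈ R :=
      mul_mem (inv_mem hy) (Subgroup.Normal.conj_mem ‹_› x hx g)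
    refine (inv_mul_eq_one.1 (hfree _ hR' c ?_)).symm
    rw [mul_smul, mul_smul, mul_smul, inv_smul_eq_iff.2 hg1.symm, hg2, inv_smul_smul]
  refine ⟨hconj, ?_⟩
  by_cases hR : R = ⊥
  · intro x hx y hy
    rw [hR, Subgroup.mem_bot] at hx
    rw [hx, one_mul, mul_one]
  obtain ⟨r, hr, hr1⟩ := (Subgroup.bot_or_exists_ne_one R).resolve_left hR
  obtain ⟨p, hp, hpr⟩ := Nat.exists_prime_and_dvd
    (show orderOf r ≠ 1 from fun e => hr1 (orderOf_eq_one_iff.1 e))
  haveI := Fact.mk hp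
  have hord : ∀ x ∈ R, x ^ p = 1 := by
    intro x hx
    by_cases hx1 : x = 1
    · rw [hx1, one_pow]
    have hw := orderOf_pow_orderOf_div (orderOf_pos r).ne' hpr
    obtain ⟨g, rfl⟩ := hconj _ (pow_mem hr _) x hx
      (fun e => by rw [e, orderOf_one] at hw; exact hp.ne_one hw.symm) hx1
    have h1 := pow_orderOf_eq_one (r ^ (orderOf r / p))
    rw [hw] at h1
    rw [conj_pow, h1, mul_one, mul_inv_cancel]
  haveI : Nontrivial R := ⟨⟨⟨r, hr⟩, 1, fun e => hr1 (congrArg Subtype.val e)⟩⟩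
  have hPR : IsPGroup p R := fun x => ⟨1, Subtype.ext (by
    rw [pow_one]; exact hord x x.2)⟩
  haveI := hPR.center_nontrivial
  obtain ⟨z, hz⟩ := exists_ne (1 : Subgroup.center R)
  intro x hx y hy
  by_cases hx1 : x = 1
  · rw [hx1, one_mul, mul_one]
  obtain ⟨g, rfl⟩ := hconj z.1 z.1.2 x hx (fun e => hz (Subtype.ext (Subtype.ext e))) hx1
  have h := congrArg Subtype.val (Subgroup.mem_center_iff.1 z.2
    ⟨g⁻¹ * y * g, by simpa using Subgroup.Normal.conj_mem ‹R.Normal› y hy g⁻¹⟩)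
  simp only [Subgroup.coe_mul] at h
  calc g * (z.1 : T) * g⁻¹ * y = g * ((z.1 : T) * (g⁻¹ * y * g)) * g⁻¹ := by group
    _ = y * (g * (z.1 : T) * g⁻¹) := by rw [← h]; group

/-- A non-trivial normal subgroup of a Zassenhaus group is a Zassenhaus group. -/
theorem isZassenhaus_normal (N : Subgroup G) [N.Normal] (hN : N ≠ ⊥) :
    Cfsg.IsZassenhausGroup N Ω := by
  classical
  haveI := hZ.1
  haveI := finite_of_faithful hZ.1
  haveI := Fintype.ofFinite Ω
  refine ⟨⟨fun h => Subtype.ext (hZ.1.eq_of_smul_eq_smul h)⟩, two_transitive_normal hZ N hN,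
    fun g a b c h1 h2 h3 ha hb hc => Subtype.ext (hZ.2.2.1 g a b c h1 h2 h3 ha hb hc), ?_, ?_⟩
  · obtain ⟨x, hx, hx1, c, d, hcd, hc, hd⟩ := exists_fix_two hZ N hN
    exact ⟨⟨x, hx⟩, fun e => hx1 (congrArg Subtype.val e), c, d, hcd, hc, hd⟩
  · intro R hRn hRt
    by_contra hcon
    push Not at hcon
    haveI := hRn
    have hfree : ∀ r ∈ R, ∀ c : Ω, r • c = c → r = 1 := fun r hr c h =>
      congrArg Subtype.val ((Subgroup.eq_bot_iff_forall _).1 (hcon c) ⟨r, hr⟩ h)
    obtain ⟨hconj, hab⟩ := regular_normal_abelian (two_transitive_normal hZ N hN) R hRt hfree hZ.2.2.2.1.choose_spec.2.choose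
    set R₀ := R.map N.subtype with hR₀
    have hR₀n : R₀.Normal := by
      refine ⟨fun x hx g => ?_⟩
      obtain ⟨x, hx, rfl⟩ := hx
      by_contra hnot
      -- the conjugate of `R` by `g` is another regular normal abelian subgroup
      let c : N → N := fun n => ⟨g * n * g⁻¹, Subgroup.Normal.conj_mem ‹N.Normal› n n.2 g⟩
      have hc : ∀ n, ((c n : N) : G) = g * n * g⁻¹ := fun _ => rfl
      have hx1 : x ≠ 1 := fun e => hnot (by
        rw [e, map_one, mul_one, mul_inv_cancel]; exact one_mem _)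
      have hcommutes : ∀ y ∈ R, y * c x = c x * y := by
        intro y hy
        have h1 : c x * y * (c x)⁻¹ * y⁻¹ ∈ R :=
          mul_mem (hRn.conj_mem y hy _) (inv_mem hy)
        have h2 : ∃ w ∈ R, c w = c x * y * (c x)⁻¹ * y⁻¹ := by
          let y' : N := ⟨g⁻¹ * y * g, by
            simpa using Subgroup.Normal.conj_mem ‹N.Normal› y y.2 g⁻¹⟩
          refine ⟨x * (y' * x⁻¹ * y'⁻¹), mul_mem hx (hRn.conj_mem _ (inv_mem hx) y'),
            Subtype.ext ?_⟩
          simp only [hc, Subgroup.coe_mul, Subgroup.coe_inv, y']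
          group
        obtain ⟨w, hw, hwe⟩ := h2
        by_contra hne
        have hz1 : c x * y * (c x)⁻¹ * y⁻¹ ≠ 1 := fun e => hne
          (mul_inv_eq_iff_eq_mul.1 (mul_inv_eq_one.1 e)).symm
        have hw1 : w ≠ 1 := fun e => hz1 (by
          rw [← hwe, e]; exact Subtype.ext (by rw [hc]; simp))
        obtain ⟨h, hh⟩ := hconj w hw x hx hw1 hx1
        refine hnot ⟨c x, ?_, hc x⟩
        rw [← hh]
        have : c (h * w * h⁻¹) = c h * c w * (c h)⁻¹ := Subtype.ext (by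
          simp only [hc, Subgroup.coe_mul, Subgroup.coe_inv]; group)
        rw [this, hwe]
        exact hRn.conj_mem _ h1 _
      obtain ⟨g₁, hg₁, a, b, hab', -, -⟩ := hZ.2.2.2.1
      obtain ⟨r, hr⟩ := hRt.exists_smul_eq a (c x • a)
      have hxr : c x = (r : N) := by
        refine Subtype.ext (hZ.1.eq_of_smul_eq_smul fun d => ?_)
        obtain ⟨s, rfl⟩ := hRt.exists_smul_eq a d
        show c x • (s : N) • a = (r : N) • (s : N) • a
        rw [← mul_smul, ← hcommutes s s.2, mul_smul, ← hr]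
        show (s : N) • (r : N) • a = (r : N) • (s : N) • a
        rw [← mul_smul, ← mul_smul, hab s s.2 r r.2]
      exact hnot ⟨c x, hxr ▸ r.2, hc x⟩
    have hR₀t : MulAction.IsPretransitive R₀ Ω := ⟨fun c d => by
      obtain ⟨r, hr⟩ := hRt.exists_smul_eq c d
      exact ⟨⟨r.1.1, Subgroup.mem_map_of_mem _ r.2⟩, hr⟩⟩
    obtain ⟨p, hp⟩ := hZ.2.2.2.2 R₀ hR₀n hR₀t
    refine hp ((Subgroup.eq_bot_iff_forall _).2 fun r hr => ?_)
    obtain ⟨y, hy, hy'⟩ := r.2
    have : y = 1 := hfree y hy p (by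
      show (y : G) • p = p
      rw [show (y : G) = r.1 from hy']
      exact hr)
    exact Subtype.ext (by rw [← hy', this]; rfl)

/-- A Zassenhaus group of odd degree is simple. -/
theorem isSimple_of_odd (hodd : Odd (Nat.card Ω)) : IsSimpleGroup G := by
  classical
  haveI := hZ.1
  haveI := finite_of_faithful hZ.1
  haveI := Fintype.ofFinite Ω
  haveI := Fact.mk Nat.prime_two
  obtain ⟨g₀, hg₀, a, b, hab, -, -⟩ := hZ.2.2.2.1
  haveI : Nontrivial G := ⟨⟨g₀, 1, hg₀⟩⟩
  refine ⟨fun N hN => or_iff_not_imp_left.2 fun hN0 => ?_⟩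
  obtain ⟨H, hHa, hHcard, hHfix, hHN⟩ := exists_kernel_le hZ N hN0 hab
  have hHeven : 2 ∣ Nat.card H := by obtain ⟨k, hk⟩ := hodd; omega
  rw [Nat.card_eq_fintype_card (α := Ω)] at hHcard
  have hE : Odd (Nat.card (stabilizer G a ⊓ stabilizer G b : Subgroup G)) := by
    have hnorm : (stabilizer G a ⊓ stabilizer G b : Subgroup G) ≤
        Subgroup.normalizer (H : Set G) := fun x hx => Subgroup.mem_normalizer_iff.2 fun u =>
      ⟨fun hu => CfsgLib.Char.Zassenhaus.conj_mem_kernel hZ hab hHa hHcard hHfix (Subgroup.mem_inf.1 hx).1 hu,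
        fun hu => by
          have := CfsgLib.Char.Zassenhaus.conj_mem_kernel hZ hab hHa hHcard hHfix
            (inv_mem (Subgroup.mem_inf.1 hx).1) hu
          simpa [mul_assoc] using this⟩
    have hcop := CfsgLib.Solvable.coprime_card_of_fpf hnorm (CfsgLib.Char.Zassenhaus.fpf hZ hab hHa hHfix)
    rw [← Nat.not_even_iff_odd, even_iff_two_dvd]
    intro h
    exact Nat.not_coprime_of_dvd_of_dvd one_lt_two h hHeven hcop
  -- an involution of `N` exchanging `a` and `b`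
  obtain ⟨s, hs⟩ := exists_prime_orderOf_dvd_card' (G := H) 2 hHeven
  rw [← Subgroup.orderOf_coe] at hs
  have hs1 : (s : G) ≠ 1 := fun e => by rw [e, orderOf_one] at hs; omega
  have hsb : (s : G) • b ≠ b := fun e => hab (hHfix s s.2 hs1 b e).symm
  have hs2 : (s : G) * s = 1 := by rw [← sq, ← hs, pow_orderOf_eq_one]
  obtain ⟨g, hg1, hg2⟩ := MulAction.is_two_pretransitive_iff.1 hZ.2.1 hsb.symm hab
  set t := g * (s : G) * g⁻¹ with ht
  have htN : t ∈ N := hN.conj_mem _ (hHN s.2) g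
  have hta : t • a = b := by rw [ht, mul_smul, mul_smul, ← hg1, inv_smul_smul, hg2]
  have htb : t • b = a := by
    rw [ht, mul_smul, mul_smul, ← hg2, inv_smul_smul, ← mul_smul (s : G), hs2, one_smul, hg1]
  have ht1 : t ≠ 1 := fun e => hab (by rw [← hta, e, one_smul])
  have ht2 : t * t = 1 := by
    calc t * t = g * ((s : G) * s) * g⁻¹ := by rw [ht]; group
      _ = 1 := by rw [hs2]; group
  have hS : Cfsg.IsRankOneSetup G Ω a t H :=
    { two_transitive := hZ.2.1
      mul_self := ht2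
      ne_one := ht1
      not_mem := fun h => hab ((MulAction.mem_stabilizer_iff.1 h).symm.trans hta)
      le := hHa
      conj_mem := fun x hx u hu =>
        CfsgLib.Char.Zassenhaus.conj_mem_kernel hZ hab hHa hHcard hHfix hx hu
      inf_eq_bot := by
        rw [hta, Subgroup.eq_bot_iff_forall]
        intro u hu
        obtain ⟨hu, hub⟩ := Subgroup.mem_inf.1 hu
        exact CfsgLib.Char.Zassenhaus.eq_one_of_smul_b hab hHfix hu
          (MulAction.mem_stabilizer_iff.1 hub)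
      sup_eq := by
        rw [hta]
        refine le_antisymm (sup_le hHa inf_le_left) fun x hx => ?_
        obtain ⟨u, hu, y, hy, rfl⟩ :=
          CfsgLib.Char.Zassenhaus.decompose hZ hab hHa hHcard hHfix hx
        exact Subgroup.mul_mem_sup hu hy
      even_card := even_iff_two_dvd.2 hHeven
      odd_card := by rw [hta]; exact hE }
  obtain ⟨⟨s', r⟩, ⟨hs', hr, heq⟩, -⟩ := CfsgLib.RankOneSetup.existsUnique_structure hS
  have hinv : ∀ x ∈ (stabilizer G a ⊓ stabilizer G b : Subgroup G), t⁻¹ * x * t = x⁻¹ := by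
    intro x hx
    obtain ⟨⟨y, z⟩, ⟨hy, hz, hxyz⟩, -⟩ := CfsgLib.RankOneSetup.exists_unique_factor ht2
      hS.odd_card (fun w hw => CfsgLib.RankOneSetup.conj_t_mem hS hw)
      (show x ∈ stabilizer G a ⊓ stabilizer G (t • a) by rw [hta]; exact hx)
    simp only at hy hz hxyz
    obtain ⟨hyE, hyt⟩ := Subgroup.mem_inf.1 hy
    have hys := (CfsgLib.RankOneSetup.centralizer_structure hS hs' hr heq hyE).1
      (Subgroup.mem_centralizer_singleton_iff.1 hyt)
    have hy1 : y = 1 := by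
      by_contra hne
      have h1 : s' ∈ H ⊓ Subgroup.centralizer {y} := Subgroup.mem_inf.2
        ⟨CfsgLib.RankOneSetup.mem_Q_of_sq hS hs'.1 hs'.2.2,
          Subgroup.mem_centralizer_singleton_iff.2 hys.symm⟩
      rw [CfsgLib.Char.Zassenhaus.fpf hZ hab hHa hHfix y (by rw [← hta]; exact hyE) hne,
        Subgroup.mem_bot] at h1
      exact hs'.2.1 h1
    rw [hxyz, hy1, one_mul, CfsgLib.RankOneSetup.t_inv hS]
    have := hz.2
    rwa [CfsgLib.RankOneSetup.t_inv hS] at this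
  have hEN : (stabilizer G a ⊓ stabilizer G b : Subgroup G) ≤ N := by
    intro x hx
    obtain ⟨k, hk⟩ := hE
    set y := x ^ (k + 1) with hy
    have hyy : y * y = x := by
      rw [hy, ← pow_add, show k + 1 + (k + 1) = 2 * k + 1 + 1 by omega, pow_succ, ← hk,
        show x ^ Nat.card (stabilizer G a ⊓ stabilizer G b : Subgroup G) = 1 from
          congrArg Subtype.val (pow_card_eq_one' (x := (⟨x, hx⟩ :
            (stabilizer G a ⊓ stabilizer G b : Subgroup G)))), one_mul]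
    have h1 : t⁻¹ * (y * t * y⁻¹) ∈ N := mul_mem (inv_mem htN) (hN.conj_mem t htN y)
    have h2 : t⁻¹ * (y * t * y⁻¹) = x⁻¹ := by
      calc t⁻¹ * (y * t * y⁻¹) = (t⁻¹ * y * t) * y⁻¹ := by group
        _ = y⁻¹ * y⁻¹ := by rw [hinv y (pow_mem hx _)]
        _ = x⁻¹ := by rw [← mul_inv_rev, hyy]
    rw [h2] at h1
    simpa using inv_mem h1
  refine (Subgroup.eq_top_iff' N).2 fun x => ?_
  have hx : x • a ≠ x • b := fun e => hab (smul_left_cancel x e)
  obtain ⟨n, hn1, hn2⟩ := MulAction.is_two_pretransitive_iff.1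
    (two_transitive_normal hZ N hN0) hab hx
  have hn1' : (n : G) • a = x • a := hn1
  have hn2' : (n : G) • b = x • b := hn2
  have hmem : (n : G)⁻¹ * x ∈ (stabilizer G a ⊓ stabilizer G b : Subgroup G) := Subgroup.mem_inf.2
    ⟨by rw [MulAction.mem_stabilizer_iff, mul_smul, ← hn1', inv_smul_smul],
      by rw [MulAction.mem_stabilizer_iff, mul_smul, ← hn2', inv_smul_smul]⟩
  have := mul_mem n.2 (hEN hmem)
  rwa [mul_inv_cancel_left] at this

end CfsgLib.Suzuki.ZassenhausNormal
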