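/-
Matrices whose minimal polynomial is irreducible of full degree: the commutant is a field.
-/
import Mathlib

set_option autoImplicit false

namespace CfsgLib.Suzuki.Irred

open Polynomial Matrix

variable {F : Type*} [Field F] {n : ℕ} (M : Matrix (Fin n) (Fin n) F)

/-- The field `F[X]/(minpoly M)` acting through `M`. -/
noncomputable def fieldHom : AdjoinRoot (minpoly F M) →+* Matrix (Fin n) (Fin n) F :=
  Ideal.Quotient.lift (Ideal.span {minpoly F M}) (Polynomial.aeval (R := F) M).toRingHom fun p hp => by
    obtain ⟨q, rfl⟩ := Ideal.mem_span_singleton.1 hp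
    show Polynomial.aeval M (minpoly F M * q) = 0
    rw [map_mul, minpoly.aeval, zero_mul]

theorem fieldHom_mk (p : F[X]) :
    fieldHom M (AdjoinRoot.mk (minpoly F M) p) = Polynomial.aeval M p := rfl

theorem fieldHom_root : fieldHom M (AdjoinRoot.root (minpoly F M)) = M :=
  (fieldHom_mk M X).trans (aeval_X M)

theorem eq_zero_of_mulVec (hirr : Irreducible (minpoly F M)) {z : AdjoinRoot (minpoly F M)}
    {v : Fin n → F} (hv : v ≠ 0) (h : fieldHom M z *ᵥ v = 0) : z = 0 := by
  haveI : Fact (Irreducible (minpoly F M)) := ⟨hirr⟩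
  by_contra hz
  refine hv ?_
  have : fieldHom M (z⁻¹ * z) *ᵥ v = v := by
    rw [inv_mul_cancel₀ hz, map_one, one_mulVec]
  rw [map_mul, ← mulVec_mulVec, h, mulVec_zero] at this
  exact this.symm

theorem injective (hirr : Irreducible (minpoly F M)) (hn : 0 < n) :
    Function.Injective (fieldHom M) := by
  rw [injective_iff_map_eq_zero]
  intro z hz
  refine eq_zero_of_mulVec M hirr (v := fun _ => 1) (fun h => ?_) (by rw [hz, zero_mulVec])
  simpa using congrFun h ⟨0, hn⟩

/-- Every vector is reached from a non-zero one. -/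
theorem exists_mulVec (hirr : Irreducible (minpoly F M)) (hdeg : (minpoly F M).natDegree = n)
    {v : Fin n → F} (hv : v ≠ 0) (w : Fin n → F) : ∃ z, fieldHom M z *ᵥ v = w := by
  haveI : Fact (Irreducible (minpoly F M)) := ⟨hirr⟩
  let Φ : AdjoinRoot (minpoly F M) →ₗ[F] (Fin n → F) :=
    { toFun := fun z => fieldHom M z *ᵥ v
      map_add' := fun x y => by rw [map_add, add_mulVec]
      map_smul' := fun c x => by
        induction x using AdjoinRoot.induction_on with
        | _ p =>
          rw [RingHom.id_apply, AdjoinRoot.smul_mk, fieldHom_mk, fieldHom_mk, map_smul, smul_mulVec] }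
  have hinj : Function.Injective Φ := by
    rw [injective_iff_map_eq_zero]
    exact fun z hz => eq_zero_of_mulVec M hirr hv hz
  have hb := (AdjoinRoot.powerBasis hirr.ne_zero)
  haveI : FiniteDimensional F (AdjoinRoot (minpoly F M)) := hb.finite
  have hr : Module.finrank F (AdjoinRoot (minpoly F M)) = Module.finrank F (Fin n → F) := by
    rw [(AdjoinRoot.powerBasis hirr.ne_zero).finrank, AdjoinRoot.powerBasis_dim, hdeg,
      Module.finrank_fin_fun]
  exact (LinearMap.injective_iff_surjective_of_finrank_eq_finrank hr).1 hinj w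

/-- The commutant of `M` is the field generated by `M`. -/
theorem exists_of_commute (hirr : Irreducible (minpoly F M)) (hdeg : (minpoly F M).natDegree = n)
    {X : Matrix (Fin n) (Fin n) F} (hX : Commute X M) : ∃ z, fieldHom M z = X := by
  have hn : 0 < n := hdeg ▸ hirr.natDegree_pos
  set v : Fin n → F := fun _ => 1 with hv
  have hv0 : v ≠ 0 := fun h => by simpa [hv] using congrFun h ⟨0, hn⟩
  obtain ⟨z, hz⟩ := exists_mulVec M hirr hdeg hv0 (X *ᵥ v)
  refine ⟨z, (ext_of_mulVec_single fun i => ?_)⟩
  obtain ⟨u, hu⟩ := exists_mulVec M hirr hdeg hv0 (Pi.single i 1)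
  have hc : X * fieldHom M u = fieldHom M u * X := by
    clear hu
    induction u using AdjoinRoot.induction_on with
    | _ p =>
      rw [fieldHom_mk]
      induction p using Polynomial.induction_on' with
      | add p q hp hq => rw [map_add, mul_add, add_mul, hp, hq]
      | monomial k c =>
        rw [aeval_monomial, ← mul_assoc, ← Algebra.commutes c X, mul_assoc, (hX.pow_right k).eq, mul_assoc]
  rw [← hu, mulVec_mulVec, mulVec_mulVec, hc, ← map_mul, mul_comm z u, map_mul, ← mulVec_mulVec,
    ← mulVec_mulVec, hz]

theorem commute_of_commute (hirr : Irreducible (minpoly F M)) (hdeg : (minpoly F M).natDegree = n)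
    {X Y : Matrix (Fin n) (Fin n) F} (hX : Commute X M) (hY : Commute Y M) : Commute X Y := by
  obtain ⟨x, rfl⟩ := exists_of_commute M hirr hdeg hX
  obtain ⟨y, rfl⟩ := exists_of_commute M hirr hdeg hY
  exact (Commute.all x y).map (fieldHom M)

/-- A finite group of matrices commuting with `M` is cyclic. -/
theorem isCyclic (hirr : Irreducible (minpoly F M)) (hdeg : (minpoly F M).natDegree = n)
    {G : Type*} [Group G] [Finite G] (ρ : G →* Matrix (Fin n) (Fin n) F) (hρ : Function.Injective ρ)
    (hc : ∀ g, Commute (ρ g) M) : IsCyclic G := by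
  haveI : Fact (Irreducible (minpoly F M)) := ⟨hirr⟩
  have hn : 0 < n := hdeg ▸ hirr.natDegree_pos
  have hinj := injective M hirr hn
  choose z hz using fun g => exists_of_commute M hirr hdeg (hc g)
  refine isCyclic_of_injective_ringHom (R := AdjoinRoot (minpoly F M))
    { toFun := z
      map_one' := hinj (by rw [map_one, hz, map_one])
      map_mul' := fun g h => hinj (by rw [map_mul, hz, hz, hz, map_mul]) } fun g h e => hρ ?_
  rw [← hz g, ← hz h]
  exact congrArg (fieldHom M) e

end CfsgLib.Suzuki.Irred
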