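/-
Elements of the Suzuki groups without fixed points: their centralisers are cyclic.
-/
import Mathlib
import Cfsg.Agent.Lib.Suzuki.Facts
import Cfsg.Agent.Lib.Suzuki.Irred

set_option autoImplicit false

namespace CfsgLib.Suzuki

open Matrix Cfsg.Lie CfsgLib.Spectrum CfsgLib.SuzukiLaws Polynomial

/-- Powers of a square root of minus one modulo a prime. -/
theorem q_facts {q p : ℕ} (hq : 2 ∣ q) (hp : p.Prime) (h : p ∣ q ^ 2 + 1) :
    5 ≤ p ∧ (∀ d, 0 < d → d < 4 → ¬ q ^ d ≡ 1 [MOD p]) ∧ q ^ 4 ≡ 1 [MOD p] := by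
  haveI := Fact.mk hp
  have h2 : (q : ZMod p) ^ 2 = -1 := by
    have : ((q ^ 2 + 1 : ℕ) : ZMod p) = 0 := (ZMod.natCast_eq_zero_iff _ _).2 h
    push_cast at this
    linear_combination this
  have hp2 : p ≠ 2 := by
    rintro rfl
    have : 2 ∣ q ^ 2 := dvd_pow hq two_ne_zero
    omega
  have hp3 : p ≠ 3 := by
    rintro rfl
    have h0 : (q ^ 2 + 1) % 3 = 0 := Nat.mod_eq_zero_of_dvd h
    rw [Nat.add_mod, Nat.pow_mod] at h0
    have h1 := Nat.mod_lt q (show 3 > 0 by norm_num)
    generalize q % 3 = z at h0 h1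
    interval_cases z <;> simp at h0
  have hne : (2 : ZMod p) ≠ 0 := by
    intro e
    have : ((2 : ℕ) : ZMod p) = 0 := by exact_mod_cast e
    rw [ZMod.natCast_eq_zero_iff] at this
    exact hp2 ((Nat.prime_dvd_prime_iff_eq hp Nat.prime_two).1 this)
  refine ⟨?_, fun d h0 h4 hd => ?_, ?_⟩
  · have := hp.two_le
    by_contra hlt
    have h4' : p = 4 := by omega
    subst h4'
    norm_num at hp
  · rw [← ZMod.natCast_eq_natCast_iff] at hd
    push_cast at hd
    have hq0 : (q : ZMod p) ^ 2 ≠ 1 := by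
      rw [h2]
      intro e
      exact hne (by linear_combination -e)
    interval_cases d
    · rw [pow_one] at hd
      exact hq0 (by rw [hd, one_pow])
    · exact hq0 hd
    · rw [pow_succ, h2, neg_one_mul, neg_eq_iff_eq_neg] at hd
      exact hq0 (by rw [hd]; ring)
  · rw [← ZMod.natCast_eq_natCast_iff]
    push_cast
    rw [show (4 : ℕ) = 2 * 2 from rfl, pow_mul, h2]
    ring

variable {F : Type*} [Field F] [Fintype F] [CharP F 2] {m : ℕ}
  (hF : Fintype.card F = 2 ^ (2 * m + 1))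

/-- The matrix of an element. -/
def mat : Sz F (2 ^ (m + 1)) →* Matrix (Fin 4) (Fin 4) F :=
  (Units.coeHom _).comp (Sz F (2 ^ (m + 1))).subtype

theorem mat_injective : Function.Injective (mat : Sz F (2 ^ (m + 1)) → Matrix (Fin 4) (Fin 4) F) :=
  fun _ _ e => Subtype.ext (Units.ext e)

include hF in
theorem two_dvd_card : 2 ∣ Fintype.card F := hF ▸ dvd_pow_self 2 (by omega)

include hF in
theorem minpoly_facts {y : Sz F (2 ^ (m + 1))} {p : ℕ} (hp : p.Prime)
    (hpq : p ∣ Fintype.card F ^ 2 + 1) (hy : orderOf y = p) :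
    Irreducible (minpoly F (mat y)) ∧ (minpoly F (mat y)).natDegree = 4 := by
  obtain ⟨h5, hmod, -⟩ := q_facts (two_dvd_card hF) hp hpq
  set M := mat y with hM
  set μ := minpoly F M with hμ
  have hint : IsIntegral F M := Matrix.isIntegral M
  have hMp : M ^ p = 1 := by rw [hM, ← map_pow, ← hy, pow_orderOf_eq_one, map_one]
  have hpF : (p : F) ≠ 0 := by
    rw [Ne, CharP.cast_eq_zero_iff F 2]
    intro h
    rcases hp.eq_one_or_self_of_dvd 2 h with h' | h' <;> omega
  have hdvd : μ ∣ X ^ p - C 1 := minpoly.dvd F M (by simp [hMp])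
  have hsq : Squarefree (X ^ p - C (1 : F)) := (separable_X_pow_sub_C 1 hpF one_ne_zero).squarefree
  have hmon : μ.Monic := minpoly.monic hint
  have hμle : μ.natDegree ≤ 4 := by
    have := Polynomial.natDegree_le_of_dvd (Matrix.minpoly_dvd_charpoly M) M.charpoly_monic.ne_zero
    rwa [Matrix.charpoly_natDegree_eq_dim, Fintype.card_fin] at this
  have hne1 : μ ≠ X - C 1 := fun e => by
    have h0 := minpoly.aeval F M
    rw [← hμ, e] at h0
    have : y = 1 := mat_injective (by rw [map_one]; simpa [sub_eq_zero] using h0)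
    rw [this, orderOf_one] at hy
    exact hp.ne_one hy.symm
  obtain ⟨g, hg, hgm, hgd, hgne⟩ : ∃ g : F[X], Irreducible g ∧ g.Monic ∧ g ∣ μ ∧ g ≠ X - C 1 := by
    obtain ⟨g, hgm, hg, hgd⟩ := exists_monic_irreducible_factor μ (minpoly.not_isUnit F M)
    by_cases hg1 : g = X - C 1
    · subst hg1
      obtain ⟨r, hr⟩ := hgd
      have hru : ¬ IsUnit r := by
        intro hu
        refine hne1 (eq_of_monic_of_dvd_of_natDegree_le hgm hmon ⟨r, hr⟩ ?_)
        rw [hr, Polynomial.natDegree_mul hgm.ne_zero hu.ne_zero,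
          Polynomial.natDegree_eq_zero_of_isUnit hu, Nat.add_zero]
      obtain ⟨g', hg'm, hg', hg'd⟩ := exists_monic_irreducible_factor r hru
      refine ⟨g', hg', hg'm, hg'd.trans ⟨_, hr.trans (mul_comm _ _)⟩, fun e => ?_⟩
      subst e
      exact hg'.not_isUnit (hsq _ ((mul_dvd_mul_left _ hg'd).trans (hr ▸ hdvd)))
    · exact ⟨g, hg, hgm, hgd, hg1⟩
  haveI := Fact.mk hg
  have hgle : g.natDegree ≤ 4 := (Polynomial.natDegree_le_of_dvd hgd hmon.ne_zero).trans hμle
  have hg4 : g.natDegree = 4 := by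
    by_contra hne
    haveI : FiniteDimensional F (AdjoinRoot g) := (AdjoinRoot.powerBasis hg.ne_zero).finite
    haveI : Finite (AdjoinRoot g) := Module.finite_of_finite F
    letI : Fintype (AdjoinRoot g) := Fintype.ofFinite _
    have hcard : Fintype.card (AdjoinRoot g) = Fintype.card F ^ g.natDegree := by
      rw [Module.card_eq_pow_finrank (K := F), (AdjoinRoot.powerBasis hg.ne_zero).finrank,
        AdjoinRoot.powerBasis_dim]
    set ζ := AdjoinRoot.root g with hζ
    have hζp : ζ ^ p = 1 := by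
      have h1 : AdjoinRoot.mk g (X ^ p - C 1) = 0 := AdjoinRoot.mk_eq_zero.2 (hgd.trans hdvd)
      simpa [sub_eq_zero] using h1
    have hζ1 : ζ ≠ 1 := fun e => by
      have h1 : AdjoinRoot.mk g (X - C 1) = 0 := by simp [← hζ, e]
      exact hgne (eq_of_monic_of_dvd_of_natDegree_le hgm (monic_X_sub_C 1)
        (AdjoinRoot.mk_eq_zero.1 h1) (by rw [natDegree_X_sub_C]; exact hg.natDegree_pos)).symm
    have hζ0 : ζ ≠ 0 := fun e => by
      rw [e, zero_pow hp.ne_zero] at hζp
      exact zero_ne_one hζp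
    haveI := Fact.mk hp
    have ho : orderOf ζ = p := orderOf_eq_prime hζp hζ1
    have h2 := orderOf_dvd_of_pow_eq_one (FiniteField.pow_card_sub_one_eq_one ζ hζ0)
    rw [ho, hcard] at h2
    exact hmod g.natDegree hg.natDegree_pos (by omega)
      (((Nat.modEq_iff_dvd' (Nat.one_le_pow _ _ Fintype.card_pos)).2 h2).symm)
  obtain rfl : g = μ := (eq_of_monic_of_dvd_of_natDegree_le hgm hmon hgd (hg4 ▸ hμle)).symm
  exact ⟨hg, hg4⟩

include hF in
theorem centralizer_comm {y : Sz F (2 ^ (m + 1))} {p : ℕ} (hp : p.Prime)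
    (hpq : p ∣ Fintype.card F ^ 2 + 1) (hy : orderOf y = p) {a b : Sz F (2 ^ (m + 1))}
    (ha : Commute a y) (hb : Commute b y) : Commute a b := by
  obtain ⟨h1, h2⟩ := minpoly_facts hF hp hpq hy
  have h := Irred.commute_of_commute (mat y) h1 h2 (X := mat a) (Y := mat b) (ha.map mat) (hb.map mat)
  refine mat_injective ?_
  rw [map_mul, map_mul]
  exact h

include hF in
theorem centralizer_cyclic {y : Sz F (2 ^ (m + 1))} {p : ℕ} (hp : p.Prime)
    (hpq : p ∣ Fintype.card F ^ 2 + 1) (hy : orderOf y = p) :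
    IsCyclic ↥(Subgroup.centralizer ({y} : Set (Sz F (2 ^ (m + 1))))) := by
  obtain ⟨h1, h2⟩ := minpoly_facts hF hp hpq hy
  refine Irred.isCyclic (mat y) h1 h2 (mat.comp (Subgroup.subtype _))
    (mat_injective.comp Subtype.val_injective) fun g => ?_
  have h : Commute (g : Sz F (2 ^ (m + 1))) y := Subgroup.mem_centralizer_singleton_iff.1 g.2
  exact h.map mat

include hF in
theorem mem_centralizer_pow {y x : Sz F (2 ^ (m + 1))} {p : ℕ} (hp : p.Prime)
    (hpq : p ∣ Fintype.card F ^ 2 + 1) (hy : orderOf y = p) (hx : Commute x y) :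
    x ^ (Fintype.card F ^ 2 + 1) = 1 := by
  obtain ⟨h1, h2⟩ := minpoly_facts hF hp hpq hy
  obtain ⟨z, hz⟩ := Irred.exists_of_commute (mat y) h1 h2 (X := mat x) (hx.map mat)
  obtain ⟨f, rfl⟩ := AdjoinRoot.mk_surjective z
  rw [Irred.fieldHom_mk] at hz
  set q := Fintype.card F with hq
  have hy' : y ^ (q * q) = y⁻¹ := by
    refine eq_inv_of_mul_eq_one_left ?_
    rw [← pow_succ, ← orderOf_dvd_iff_pow_eq_one, hy, ← sq]
    exact hpq
  have hpow : mat (x ^ (q * q)) = Polynomial.aeval (mat y⁻¹) f := by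
    rw [← hy', map_pow, map_pow, ← hz, ← map_pow, pow_mul, ← FiniteField.expand_card,
      ← FiniteField.expand_card, Polynomial.expand_aeval, Polynomial.expand_aeval, ← pow_mul]
  have hJ : ∀ g : Sz F (2 ^ (m + 1)), mat g⁻¹ = antiJ * (mat g)ᵀ * antiJ := by
    intro g
    have hsp := sp4_col (sz_mem g.2).1
    have h3 : antiJ * (mat g)ᵀ * antiJ * mat g = 1 := by
      show antiJ * (g.1.1)ᵀ * antiJ * g.1.1 = 1
      rw [Matrix.mul_assoc, Matrix.mul_assoc, ← Matrix.mul_assoc (g.1.1)ᵀ, hsp, antiJ_mul_self]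
    calc mat g⁻¹ = antiJ * (mat g)ᵀ * antiJ * mat g * mat g⁻¹ := by rw [h3, one_mul]
      _ = antiJ * (mat g)ᵀ * antiJ := by
        rw [mul_assoc _ (mat g), ← map_mul, mul_inv_cancel, map_one, mul_one]
  have haev : ∀ (A : Matrix (Fin 4) (Fin 4) F) (f : F[X]),
      Polynomial.aeval (antiJ * Aᵀ * antiJ) f = antiJ * (Polynomial.aeval A f)ᵀ * antiJ := by
    intro A f
    clear hz hpow
    induction f using Polynomial.induction_on' with
    | add r s hr hs => rw [map_add, map_add, hr, hs, Matrix.transpose_add, mul_add, add_mul]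
    | monomial k c =>
      have hk : ∀ k : ℕ, (antiJ * Aᵀ * antiJ) ^ k = antiJ * (A ^ k)ᵀ * antiJ := by
        intro k
        induction k with
        | zero => simp [antiJ_mul_self]
        | succ k ih =>
          rw [pow_succ, ih, pow_succ', Matrix.transpose_mul]
          simp only [mul_assoc, ← mul_assoc antiJ antiJ, antiJ_mul_self, one_mul]
      rw [Polynomial.aeval_monomial, Polynomial.aeval_monomial, hk, Algebra.algebraMap_eq_smul_one,
        smul_mul_assoc, smul_mul_assoc, one_mul, one_mul, Matrix.transpose_smul, mul_smul_comm,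
        smul_mul_assoc]
  rw [hJ y, haev, hz, ← hJ] at hpow
  rw [sq, pow_succ x (q * q), mat_injective hpow, inv_mul_cancel]

end CfsgLib.Suzuki
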