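/-
Fixed points and centralisers in the Suzuki groups.
-/
import Mathlib
import Cfsg.Agent.Lib.Suzuki.Tori

set_option autoImplicit false

namespace CfsgLib.Suzuki

open Matrix Cfsg.Lie CfsgLib.Spectrum CfsgLib.SuzukiLaws

variable {F : Type*} [Field F] [Fintype F] [CharP F 2] {m : ℕ}
  (hF : Fintype.card F = 2 ^ (2 * m + 1))

/-- An element without fixed points on the ovoid. -/
def Fpf (g : Sz F (2 ^ (m + 1))) : Prop := ∀ p : Cfsg.suzukiOvoid F m, toSL hF g • p ≠ p

theorem conj_fix {g k : Sz F (2 ^ (m + 1))} (p : Cfsg.suzukiOvoid F m) :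
    toSL hF (k⁻¹ * g * k) • p = p ↔ toSL hF g • toSL hF k • p = toSL hF k • p := by
  rw [map_mul, map_mul, map_inv, mul_smul, mul_smul, inv_smul_eq_iff]

theorem isNilpotent_of_isMulCommutative (G : Type*) [Group G] [h : IsMulCommutative G] :
    Group.IsNilpotent G := by
  rw [Group.isNilpotent_iff]
  refine ⟨1, ?_⟩
  rw [Subgroup.upperCentralSeries_one, Subgroup.center_eq_top]

theorem eq_one_of_sq {s : Fˣ} (h : s * s = 1) : s = 1 := by
  have h' := congrArg Units.val h
  rw [Units.val_mul, Units.val_one, ← pow_two, sq_eq_one_iff, CharTwo.neg_eq, or_self] at h'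
  exact Units.ext h'

/-- Commuting elements fix the same points. -/
theorem fix_of_commute {w x : Sz F (2 ^ (m + 1))} (hw : w ≠ 1) (hc : Commute x w)
    {p : Cfsg.suzukiOvoid F m} (hp : toSL hF w • p = p) : toSL hF x • p = p := by
  by_contra hne
  set r := toSL hF x • p with hr
  have hwr : toSL hF w • r = r := by
    rw [hr, smul_smul, ← map_mul, ← hc.eq, map_mul, mul_smul, hp]
  have hxr : toSL hF x • r = p := by
    by_contra h2
    have hwxr : toSL hF w • toSL hF x • r = toSL hF x • r := by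
      rw [smul_smul, ← map_mul, ← hc.eq, map_mul, mul_smul, hwr]
    have h3 : r ≠ toSL hF x • r := fun e => hne (MulAction.injective (toSL hF x) (hr.symm.trans e)).symm
    exact hw (fix_three hF (Ne.symm hne) h3 (Ne.symm h2) hp hwr hwxr)
  obtain ⟨k, k1, k2⟩ := exists_smul_pair hF (Ne.symm hne)
  obtain ⟨s, hs⟩ := (stab_two hF (k⁻¹ * w * k)).1
    ⟨(conj_fix hF inf).2 (by rw [k1]; exact hp), (conj_fix hF zero).2 (by rw [k2]; exact hwr)⟩
  obtain ⟨t, ht⟩ := (stab_two hF (W hF * (k⁻¹ * x * k))).1 ⟨by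
      rw [map_mul, mul_smul, map_mul, map_mul, map_inv, mul_smul, mul_smul, k1, ← hr, ← k2,
        inv_smul_smul, W_smul_zero], by
      rw [map_mul, mul_smul, map_mul, map_mul, map_inv, mul_smul, mul_smul, k2, hxr, ← k1,
        inv_smul_smul, W_smul_inf]⟩
  have hx' : k⁻¹ * x * k = W hF * T hF t := by
    rw [← ht, ← mul_assoc (W hF), W_mul_W, one_mul]
  have e : W hF * T hF t * T hF s = T hF s * (W hF * T hF t) := by
    rw [← hx', ← hs, show k⁻¹ * x * k * (k⁻¹ * w * k) = k⁻¹ * (x * w) * k by group, hc.eq]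
    group
  rw [← mul_assoc (T hF s), show T hF s * W hF = W hF * T hF s⁻¹ by
      rw [← W_mul_T, ← mul_assoc, ← mul_assoc, W_mul_W, one_mul],
    mul_assoc, mul_assoc, T_mul, T_mul] at e
  have e' := T_injective hF (mul_left_cancel e)
  rw [mul_comm t] at e'
  have hs1 : s = 1 := eq_one_of_sq (eq_inv_iff_mul_eq_one.1 (mul_right_cancel e'))
  rw [hs1, T_one] at hs
  exact hw (calc w = k * (k⁻¹ * w * k) * k⁻¹ := by group
    _ = 1 := by rw [hs]; group)

include hF in
theorem card_stab (hm : 1 ≤ m) (p : Cfsg.suzukiOvoid F m) :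
    Nat.card {g : Sz F (2 ^ (m + 1)) // toSL hF g • p = p} =
      Fintype.card F ^ 2 * (Fintype.card F - 1) := by
  obtain ⟨k, rfl⟩ := exists_smul_inf hF p
  have hsub := hm
  refine (Nat.card_eq_of_bijective (fun x : (F × F) × Fˣ =>
    (⟨k * (T hF x.2 * U hF x.1.1 x.1.2) * k⁻¹, by
      rw [← conj_fix hF, show k⁻¹ * (k * (T hF x.2 * U hF x.1.1 x.1.2) * k⁻¹) * k =
        T hF x.2 * U hF x.1.1 x.1.2 by group]
      exact (stab_inf hF _).2 ⟨_, _, _, rfl⟩⟩ :
      {g : Sz F (2 ^ (m + 1)) // toSL hF g • toSL hF k • inf =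
        (toSL hF k • inf : Cfsg.suzukiOvoid F m)})) ⟨?_, ?_⟩).symm.trans ?_
  · intro x y e
    obtain ⟨h1, h2, h3⟩ := TU_injective hF (mul_left_cancel (mul_right_cancel (congrArg Subtype.val e)))
    exact Prod.ext (Prod.ext h2 h3) h1
  · rintro ⟨g, hg⟩
    obtain ⟨s, a, b, e⟩ := (stab_inf hF _).1 ((conj_fix hF inf).2 hg)
    refine ⟨((a, b), s), Subtype.ext ?_⟩
    show k * (T hF s * U hF a b) * k⁻¹ = g
    rw [← e]
    group
  · rw [Nat.card_prod, Nat.card_prod, Nat.card_units, Nat.card_eq_fintype_card, sq]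

include hF in
theorem card_stab_two (hm : 1 ≤ m) {p r : Cfsg.suzukiOvoid F m} (h : p ≠ r) :
    Nat.card {g : Sz F (2 ^ (m + 1)) // toSL hF g • p = p ∧ toSL hF g • r = r} =
      Fintype.card F - 1 := by
  obtain ⟨k, rfl, rfl⟩ := exists_smul_pair hF h
  have hsub := hm
  refine (Nat.card_eq_of_bijective (fun s : Fˣ => (⟨k * T hF s * k⁻¹, ⟨by
      rw [← conj_fix hF, show k⁻¹ * (k * T hF s * k⁻¹) * k = T hF s by group]
      exact T_smul_inf hF s, by
      rw [← conj_fix hF, show k⁻¹ * (k * T hF s * k⁻¹) * k = T hF s by group]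
      exact T_smul_zero hF s⟩⟩ :
      {g : Sz F (2 ^ (m + 1)) // toSL hF g • toSL hF k • inf =
        (toSL hF k • inf : Cfsg.suzukiOvoid F m) ∧ toSL hF g • toSL hF k • zero =
        (toSL hF k • zero : Cfsg.suzukiOvoid F m)})) ⟨?_, ?_⟩).symm.trans ?_
  · intro x y e
    exact T_injective hF (mul_left_cancel (mul_right_cancel (congrArg Subtype.val e)))
  · rintro ⟨g, h1, h2⟩
    obtain ⟨s, e⟩ := (stab_two hF _).1 ⟨(conj_fix hF inf).2 h1, (conj_fix hF zero).2 h2⟩
    refine ⟨s, Subtype.ext ?_⟩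
    show k * T hF s * k⁻¹ = g
    rw [← e]
    group
  · rw [Nat.card_units, Nat.card_eq_fintype_card]

include hF in
theorem orderOf_dvd_of_fix (hm : 1 ≤ m) {g : Sz F (2 ^ (m + 1))} {p : Cfsg.suzukiOvoid F m}
    (h : toSL hF g • p = p) : orderOf g ∣ Fintype.card F ^ 2 * (Fintype.card F - 1) := by
  rw [← card_stab hF hm p]
  let H := (MulAction.stabilizer (Cfsg.Sz F m) p).comap (toSL hF)
  have hg : g ∈ H := h
  rw [← Subgroup.orderOf_mk g hg]
  exact orderOf_dvd_natCard (G := ↥H) _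

include hF in
theorem coprime_fix : Nat.Coprime (Fintype.card F ^ 2 + 1) (Fintype.card F ^ 2 * (Fintype.card F - 1)) := by
  refine Nat.Coprime.mul_right ?_ ?_
  · exact Nat.coprime_self_add_left.2 (Nat.coprime_one_left _)
  · set q := Fintype.card F with hq
    obtain ⟨k, hk⟩ : ∃ k, q = k + 1 := ⟨q - 1, by have := Fintype.card_pos (α := F); omega⟩
    rw [hk, Nat.add_sub_cancel, show (k + 1) ^ 2 + 1 = 2 + (k + 2) * k by ring,
      Nat.coprime_add_mul_right_left, Nat.coprime_two_left]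
    obtain ⟨j, hj⟩ := two_dvd_card hF
    rw [← hq, hk] at hj
    exact ⟨j - 1, by omega⟩

include hF in
/-- An element has no fixed point iff its order divides `q² + 1`. -/
theorem fpf_of_dvd (hm : 1 ≤ m) {x : Sz F (2 ^ (m + 1))} (hx : x ≠ 1)
    (h : orderOf x ∣ Fintype.card F ^ 2 + 1) : Fpf hF x := by
  intro p hp
  exact hx (orderOf_eq_one_iff.1
    (Nat.eq_one_of_dvd_coprimes (coprime_fix hF) h (orderOf_dvd_of_fix hF hm hp)))

include hF in
theorem exists_fix_of_prime {w : Sz F (2 ^ (m + 1))} {r : ℕ} (hr : r.Prime) (hw : orderOf w = r)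
    (hdvd : ¬ r ∣ Fintype.card F ^ 2 + 1) : ∃ p : Cfsg.suzukiOvoid F m, toSL hF w • p = p := by
  haveI := Fact.mk hr
  have hP : IsPGroup r (Subgroup.zpowers (toSL hF w)) :=
    IsPGroup.of_card (n := 1) (by
      rw [Nat.card_zpowers, orderOf_injective (toSL hF) (toSL_injective hF), hw, pow_one])
  obtain ⟨p, hp⟩ := hP.nonempty_fixed_point_of_prime_not_dvd_card (Cfsg.suzukiOvoid F m)
    (by rwa [card_ovoid])
  exact ⟨p, hp ⟨_, Subgroup.mem_zpowers _⟩⟩

include hF in
/-- The centraliser of an element without fixed points. -/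
theorem fpf_centralizer (hm : 1 ≤ m) {x : Sz F (2 ^ (m + 1))} (hx : Fpf hF x) :
    ∃ (y : Sz F (2 ^ (m + 1))) (p : ℕ), p.Prime ∧ p ∣ Fintype.card F ^ 2 + 1 ∧ orderOf y = p ∧
      x ≠ 1 ∧ Commute x y ∧
      Subgroup.centralizer ({x} : Set (Sz F (2 ^ (m + 1)))) = Subgroup.centralizer {y} := by
  have hne : x ≠ 1 := fun e => hx inf (by rw [e, map_one, one_smul])
  obtain ⟨r, hr, hrd⟩ := Nat.exists_prime_and_dvd (n := orderOf x) (by simpa using hne)
  set y := x ^ (orderOf x / r) with hy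
  have hoy : orderOf y = r := orderOf_pow_orderOf_div (orderOf_pos x).ne' hrd
  have hy1 : y ≠ 1 := fun e => by rw [e, orderOf_one] at hoy; exact hr.ne_one hoy.symm
  have hc : Commute x y := (Commute.refl x).pow_right _
  have hrq : r ∣ Fintype.card F ^ 2 + 1 := by
    by_contra hnd
    obtain ⟨p, hp⟩ := exists_fix_of_prime hF hr hoy hnd
    exact hx p (fix_of_commute hF hy1 hc hp)
  have hxo : orderOf x ∣ Fintype.card F ^ 2 + 1 :=
    orderOf_dvd_of_pow_eq_one (mem_centralizer_pow hF hr hrq hoy hc)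
  refine ⟨y, r, hr, hrq, hoy, hne, hc, le_antisymm (fun c hc' => ?_) fun c hc' => ?_⟩
  · rw [Subgroup.mem_centralizer_singleton_iff] at hc' ⊢
    exact (Commute.pow_right (hc' : Commute c x) _).eq
  · rw [Subgroup.mem_centralizer_singleton_iff] at hc' ⊢
    exact (centralizer_comm hF hr hrq hoy (hc' : Commute c y) hc).eq

include hF in
/-- The non-trivial elements of the centraliser of such an element share it. -/
theorem centralizer_eq (hm : 1 ≤ m) {x c : Sz F (2 ^ (m + 1))} (hx : Fpf hF x)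
    (hc : c ∈ Subgroup.centralizer ({x} : Set (Sz F (2 ^ (m + 1))))) (hc1 : c ≠ 1) :
    Fpf hF c ∧ Subgroup.centralizer ({c} : Set (Sz F (2 ^ (m + 1)))) = Subgroup.centralizer {x} := by
  obtain ⟨y, p, hp, hpq, hy, -, hxy, e⟩ := fpf_centralizer hF hm hx
  rw [e] at hc ⊢
  rw [Subgroup.mem_centralizer_singleton_iff] at hc
  have hf : Fpf hF c := fpf_of_dvd hF hm hc1
    (orderOf_dvd_of_pow_eq_one (mem_centralizer_pow hF hp hpq hy hc))
  obtain ⟨z, r, hr, hrq, hz, -, hcz, e'⟩ := fpf_centralizer hF hm hf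
  refine ⟨hf, le_antisymm (fun d hd => ?_) fun d hd => ?_⟩
  · rw [e', Subgroup.mem_centralizer_singleton_iff] at hd
    rw [Subgroup.mem_centralizer_singleton_iff]
    have hyc : y ∈ Subgroup.centralizer ({c} : Set (Sz F (2 ^ (m + 1)))) :=
      Subgroup.mem_centralizer_singleton_iff.2 hc.symm
    rw [e', Subgroup.mem_centralizer_singleton_iff] at hyc
    exact (centralizer_comm hF hr hrq hz (hd : Commute d z) (hyc : Commute y z)).eq
  · rw [Subgroup.mem_centralizer_singleton_iff] at hd ⊢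
    exact (centralizer_comm hF hp hpq hy (hd : Commute d y) hc).eq

include hF in
/-- An element of the Borel subgroup with a single fixed point is unipotent. -/
theorem mem_unip_of_fix {g : Sz F (2 ^ (m + 1))} (h : toSL hF g • inf = (inf : Cfsg.suzukiOvoid F m))
    (hu : ∀ p : Cfsg.suzukiOvoid F m, toSL hF g • p = p → p = inf) : g ∈ unip hF := by
  obtain ⟨t, a, b, rfl⟩ := (stab_inf hF g).1 h
  by_cases ht : t = 1
  · exact ⟨a, b, by rw [ht, T_one, one_mul]⟩
  exfalso
  set l := (t : F) ^ 2 ^ (m + 1) with hl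
  set k := (t : F) ^ (2 ^ (m + 1) + 2) with hk
  have hl1 : 1 - l ≠ 0 := sub_ne_zero.2 fun e => ht (Units.ext (eq_one_of_sigma_two hF (by
    have h2 := sigma_sq hF (t : F)
    rw [← hl, ← e, one_pow] at h2
    rw [pow_add, ← hl, ← e, ← h2, one_mul])))
  have hk1 : 1 - k ≠ 0 := sub_ne_zero.2 fun e => ht (Units.ext (eq_one_of_sigma_two hF e.symm))
  set c := l * a / (1 - l) with hc
  set d := k * (b + a * c ^ 2 ^ (m + 1)) / (1 - k) with hd
  have hfix : toSL hF (T hF t * U hF a b) • toSL hF (U hF c d) • zero =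
      (toSL hF (U hF c d) • zero : Cfsg.suzukiOvoid F m) := by
    rw [smul_smul, ← map_mul, mul_assoc, U_mul, T_mul_U, map_mul, mul_smul, T_smul_zero]
    have e1 : l * (a + c) = c := by rw [hc]; field_simp; ring
    have e2 : k * (b + d + a * c ^ 2 ^ (m + 1)) = d := by rw [hd]; field_simp; ring
    rw [← hl, ← hk, e1]
    congr 3
  have := hu _ hfix
  rw [← U_smul_inf hF c d] at this
  exact inf_ne_zero (MulAction.injective _ this).symm

include hF in
/-- The centraliser of every non-identity element is nilpotent. -/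
theorem isCN (hm : 1 ≤ m) : Cfsg.IsCNGroup (Sz F (2 ^ (m + 1))) := by
  intro x hx
  set C := Subgroup.centralizer ({x} : Set (Sz F (2 ^ (m + 1)))) with hC
  have hcom : ∀ c ∈ C, Commute c x := fun c hc => Subgroup.mem_centralizer_singleton_iff.1 hc
  by_cases hfpf : Fpf hF x
  · obtain ⟨y, p, hp, hpq, hy, -, -, e⟩ := fpf_centralizer hF hm hfpf
    haveI : IsMulCommutative C := ⟨⟨fun a b => Subtype.ext (centralizer_comm hF hp hpq hy
      (Subgroup.mem_centralizer_singleton_iff.1 (e ▸ a.2 : (a : Sz F (2 ^ (m + 1))) ∈ _))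
      (Subgroup.mem_centralizer_singleton_iff.1 (e ▸ b.2 : (b : Sz F (2 ^ (m + 1))) ∈ _))).eq⟩⟩
    exact isNilpotent_of_isMulCommutative C
  simp only [Fpf, not_forall, not_not] at hfpf
  obtain ⟨p, hp⟩ := hfpf
  by_cases htwo : ∃ r, r ≠ p ∧ toSL hF x • r = r
  · obtain ⟨r, hr, hxr⟩ := htwo
    obtain ⟨k, k1, k2⟩ := exists_smul_pair hF (Ne.symm hr)
    have key : ∀ c ∈ C, ∃ s, c = k * T hF s * k⁻¹ := by
      intro c hc
      obtain ⟨s, hs⟩ := (stab_two hF (k⁻¹ * c * k)).1
        ⟨(conj_fix hF inf).2 (by rw [k1]; exact fix_of_commute hF hx (hcom c hc) hp),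
          (conj_fix hF zero).2 (by rw [k2]; exact fix_of_commute hF hx (hcom c hc) hxr)⟩
      exact ⟨s, by rw [← hs]; group⟩
    haveI : IsMulCommutative C := ⟨⟨fun a b => by
      obtain ⟨s, hs⟩ := key a a.2
      obtain ⟨t, ht⟩ := key b b.2
      refine Subtype.ext ?_
      show (a : Sz F (2 ^ (m + 1))) * b = b * a
      rw [hs, ht, show ∀ u v : Sz F (2 ^ (m + 1)), k * u * k⁻¹ * (k * v * k⁻¹) = k * (u * v) * k⁻¹ from
        fun u v => by group, show ∀ u v : Sz F (2 ^ (m + 1)), k * u * k⁻¹ * (k * v * k⁻¹) =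
        k * (u * v) * k⁻¹ from fun u v => by group, T_mul, T_mul, mul_comm s]⟩⟩
    exact isNilpotent_of_isMulCommutative C
  push Not at htwo
  obtain ⟨k, k1⟩ := exists_smul_inf hF p
  have hle : C ≤ (unip hF).map (MulAut.conj k).toMonoidHom := by
    intro c hc
    refine ⟨k⁻¹ * c * k, ?_, by
      show k * (k⁻¹ * c * k) * k⁻¹ = c
      group⟩
    by_cases hc1 : c = 1
    · rw [hc1, mul_one, inv_mul_cancel]; exact Subgroup.one_mem _
    refine mem_unip_of_fix hF ((conj_fix hF inf).2 (by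
      rw [k1]; exact fix_of_commute hF hx (hcom c hc) hp)) fun r hr => ?_
    have h1 := fix_of_commute hF hc1 (hcom c hc).symm ((conj_fix hF r).1 hr)
    by_contra hne
    exact htwo _ (fun e => hne (MulAction.injective _ (e.trans k1.symm))) h1
  haveI : Fact (Nat.Prime 2) := ⟨Nat.prime_two⟩
  have hP : IsPGroup 2 ((unip hF).map (MulAut.conj k).toMonoidHom) :=
    (IsPGroup.of_card (p := 2) (n := (2 * m + 1) * 2) (by rw [card_unip, hF, ← pow_mul])).map _
  exact (hP.to_le hle).isNilpotent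

include hF in
/-- The odd Sylow subgroups for a prime dividing `q² + 1` or `q - 1` are cyclic. -/
theorem sylow_cyclic (hm : 1 ≤ m) {r : ℕ} [Fact r.Prime] (hr2 : r ≠ 2)
    (P : Sylow r (Sz F (2 ^ (m + 1)))) : IsCyclic P := by
  have hr : r.Prime := Fact.out
  by_cases hbot : (P : Subgroup (Sz F (2 ^ (m + 1)))) = ⊥
  · haveI : Subsingleton P := by
      show Subsingleton (P : Subgroup (Sz F (2 ^ (m + 1))))
      rw [hbot]; infer_instance
    exact isCyclic_of_subsingleton
  haveI : Nontrivial P := (Subgroup.nontrivial_iff_ne_bot _).2 hbot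
  have hcn : Nontrivial (Subgroup.center P) := P.isPGroup'.center_nontrivial
  obtain ⟨z, hz⟩ := exists_ne (1 : Subgroup.center P)
  obtain ⟨k, hk⟩ := (IsPGroup.iff_orderOf.1 P.isPGroup') z.1
  set y₀ : Sz F (2 ^ (m + 1)) := z.1.1 with hy₀
  have ho : orderOf y₀ = r ^ k := by rw [hy₀, Subgroup.orderOf_coe]; exact hk
  have hy01 : y₀ ≠ 1 := fun e => hz (Subtype.ext (Subtype.ext e))
  have hk0 : k ≠ 0 := fun e => hy01 (orderOf_eq_one_iff.1 (by rw [ho, e, pow_zero]))
  have hcomm : ∀ g ∈ (P : Subgroup (Sz F (2 ^ (m + 1)))), Commute g y₀ := fun g hg =>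
    congrArg Subtype.val (Subgroup.mem_center_iff.1 z.2 ⟨g, hg⟩)
  set y := y₀ ^ (orderOf y₀ / r) with hy
  have hoy : orderOf y = r :=
    orderOf_pow_orderOf_div (orderOf_pos y₀).ne' (ho ▸ dvd_pow_self r hk0)
  have hy1 : y ≠ 1 := fun e => by rw [e, orderOf_one] at hoy; exact hr.ne_one hoy.symm
  have hPy : ∀ g ∈ (P : Subgroup (Sz F (2 ^ (m + 1)))), Commute g y := fun g hg =>
    (hcomm g hg).pow_right _
  by_cases hrq : r ∣ Fintype.card F ^ 2 + 1
  · haveI := centralizer_cyclic hF hr hrq hoy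
    exact isCyclic_of_injective (Subgroup.inclusion (fun g hg =>
      Subgroup.mem_centralizer_singleton_iff.2 (hPy g hg).eq : (P : Subgroup (Sz F (2 ^ (m + 1)))) ≤
        Subgroup.centralizer {y})) (Subgroup.inclusion_injective _)
  obtain ⟨p, hp⟩ := exists_fix_of_prime hF hr hoy hrq
  obtain ⟨k', k1⟩ := exists_smul_inf hF p
  -- a second fixed point, as `y` is not unipotent
  obtain ⟨p', hp', hne⟩ : ∃ p', toSL hF y • p' = p' ∧ p' ≠ p := by
    by_contra hn
    push Not at hn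
    have hu : k'⁻¹ * y * k' ∈ unip hF := mem_unip_of_fix hF ((conj_fix hF inf).2 (by rw [k1]; exact hp))
      fun s hs => MulAction.injective (toSL hF k') (((hn _ ((conj_fix hF s).1 hs))).trans k1.symm)
    have h2 : orderOf (k'⁻¹ * y * k') ∣ 2 ^ ((2 * m + 1) * 2) := by
      rw [← Subgroup.orderOf_mk _ hu, pow_mul, ← hF, ← card_unip hF]
      exact orderOf_dvd_natCard (G := ↥(unip hF)) _
    rw [show k'⁻¹ * y * k' = MulAut.conj k'⁻¹ y by simp [MulAut.conj_apply], MulEquiv.orderOf_eq,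
      hoy] at h2
    exact hr2 ((Nat.prime_dvd_prime_iff_eq hr Nat.prime_two).1 (hr.dvd_of_dvd_pow h2))
  obtain ⟨l, l1, l2⟩ := exists_smul_pair hF (Ne.symm hne)
  have key : ∀ g ∈ (P : Subgroup (Sz F (2 ^ (m + 1)))), ∃ s, l⁻¹ * g * l = T hF s := fun g hg =>
    (stab_two hF _).1
      ⟨(conj_fix hF inf).2 (by rw [l1]; exact fix_of_commute hF hy1 (hPy g hg) hp),
        (conj_fix hF zero).2 (by rw [l2]; exact fix_of_commute hF hy1 (hPy g hg) hp')⟩
  choose f hf using fun g : P => key g.1 g.2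
  refine isCyclic_of_injective_ringHom (R := F)
    { toFun := fun g => ((f g : Fˣ) : F)
      map_one' := by
        rw [T_injective hF ((hf 1).symm.trans (by simp [T_one]) : T hF (f 1) = T hF 1)]
        rfl
      map_mul' := fun g h => by
        rw [← Units.val_mul]
        refine congrArg Units.val (T_injective hF ?_)
        rw [← T_mul, ← hf, ← hf, ← hf, Subgroup.coe_mul]
        group } fun g h e => ?_
  have e' : T hF (f g) = T hF (f h) := congrArg _ (Units.ext e)
  rw [← hf, ← hf] at e'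
  exact Subtype.ext (mul_left_cancel (mul_right_cancel e'))

end CfsgLib.Suzuki
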