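/-
The two classes of maximal cyclic subgroups without fixed points in the Suzuki groups.
-/
import Mathlib
import Cfsg.Agent.Lib.Suzuki.Dynamics

set_option autoImplicit false

namespace CfsgLib.Suzuki

open Matrix Cfsg.Lie CfsgLib.Spectrum CfsgLib.SuzukiLaws

theorem mem_zpowers_of_pow_eq_one {P : Type*} [Group P] [Finite P] [IsCyclic P] {u v : P}
    (h : v ^ orderOf u = 1) : v ∈ Subgroup.zpowers u := by
  classical
  haveI := Fintype.ofFinite P
  by_contra hv
  have hsub : insert v (Finset.univ.filter fun w => w ∈ Subgroup.zpowers u) ⊆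
      Finset.univ.filter fun w : P => w ^ orderOf u = 1 := by
    intro w hw
    rw [Finset.mem_filter]
    refine ⟨Finset.mem_univ _, ?_⟩
    rcases Finset.mem_insert.1 hw with rfl | hw
    · exact h
    · obtain ⟨j, rfl⟩ := Subgroup.mem_zpowers_iff.1 (Finset.mem_filter.1 hw).2
      rw [← zpow_natCast, ← _root_.zpow_mul, mul_comm, _root_.zpow_mul, zpow_natCast, pow_orderOf_eq_one,
        _root_.one_zpow]
  have := (Finset.card_le_card hsub).trans (IsCyclic.card_pow_eq_one_le (orderOf_pos u))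
  rw [Finset.card_insert_of_notMem (by simp [hv]), ← Fintype.card_subtype,
    ← Nat.card_eq_fintype_card] at this
  change Nat.card (Subgroup.zpowers u) + 1 ≤ _ at this
  rw [Nat.card_zpowers] at this
  omega

variable {F : Type*} [Field F] [Fintype F] [CharP F 2] {m : ℕ}
  (hF : Fintype.card F = 2 ^ (2 * m + 1))

include hF in
/-- The number of elements without fixed points. -/
theorem card_fpf (hm : 1 ≤ m) :
    2 * (Fintype.card F ^ 2 + 1) * Nat.card {g : Sz F (2 ^ (m + 1)) // Fpf hF g} =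
      Nat.card (Sz F (2 ^ (m + 1))) * (Fintype.card F * (Fintype.card F - 1)) := by
  classical
  haveI : Fintype (Sz F (2 ^ (m + 1))) := Fintype.ofFinite _
  haveI : Fintype (Cfsg.suzukiOvoid F m) := Fintype.ofFinite _
  set q := Fintype.card F with hq
  let fx : Sz F (2 ^ (m + 1)) → Finset (Cfsg.suzukiOvoid F m) := fun g =>
    Finset.univ.filter fun p => toSL hF g • p = p
  have hΩ : Fintype.card (Cfsg.suzukiOvoid F m) = q ^ 2 + 1 := by
    rw [← Nat.card_eq_fintype_card, card_ovoid]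
  have hone : (fx 1).card = q ^ 2 + 1 := by
    rw [show fx 1 = Finset.univ from Finset.filter_true_of_mem fun p _ => by rw [map_one, one_smul],
      Finset.card_univ, hΩ]
  have h1 : ∑ g, (fx g).card = (q ^ 2 + 1) * (q ^ 2 * (q - 1)) := by
    simp only [fx, Finset.card_filter]
    rw [Finset.sum_comm]
    rw [Finset.sum_congr rfl fun p _ => by
      rw [← Finset.card_filter, ← Fintype.card_subtype, ← Nat.card_eq_fintype_card, card_stab hF hm p],
      Finset.sum_const, Finset.card_univ, hΩ, smul_eq_mul]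
  have h2 : ∑ g, (fx g).offDiag.card = (q ^ 2 + 1) * q ^ 2 * (q - 1) := by
    have e : ∀ g, (fx g).offDiag.card = ∑ z ∈ (Finset.univ : Finset (Cfsg.suzukiOvoid F m)).offDiag,
        if toSL hF g • z.1 = z.1 ∧ toSL hF g • z.2 = z.2 then 1 else 0 := by
      intro g
      rw [← Finset.card_filter]
      congr 1
      ext ⟨a, b⟩
      simp [fx]
      tauto
    rw [Finset.sum_congr rfl fun g _ => e g, Finset.sum_comm,
      Finset.sum_congr rfl fun z hz => by
        rw [← Finset.card_filter, ← Fintype.card_subtype, ← Nat.card_eq_fintype_card,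
          card_stab_two hF hm (Finset.mem_offDiag.1 hz).2.2],
      Finset.sum_const, Finset.offDiag_card, Finset.card_univ, hΩ, smul_eq_mul,
      ← Nat.mul_sub_one, Nat.add_sub_cancel]
  set E := (Finset.univ.filter fun g : Sz F (2 ^ (m + 1)) => Fpf hF g).card with hE
  have hEc : Nat.card {g : Sz F (2 ^ (m + 1)) // Fpf hF g} = E := by
    rw [Nat.card_eq_fintype_card, Fintype.card_subtype]
  have key : ∀ g : Sz F (2 ^ (m + 1)),
      (2 : ℤ) * (if Fpf hF g then 1 else 0) + 2 * (fx g).card =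
        2 + (fx g).offDiag.card -
          if g = 1 then 2 + ((q : ℤ) ^ 2 + 1) * (q : ℤ) ^ 2 - 2 * ((q : ℤ) ^ 2 + 1) else 0 := by
    intro g
    by_cases hg : g = 1
    · subst hg
      have hn : ¬ Fpf hF (1 : Sz F (2 ^ (m + 1))) := fun h => h inf (by rw [map_one, one_smul])
      rw [if_neg hn, if_pos rfl, Finset.offDiag_card, hone, ← Nat.mul_sub_one, Nat.add_sub_cancel]
      push_cast
      ring
    rw [if_neg hg, Finset.offDiag_card]
    have hle : (fx g).card ≤ 2 := by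
      by_contra h
      obtain ⟨a, b, c, ha, hb, hc, hab, hac, hbc⟩ := Finset.two_lt_card_iff.1 (not_le.1 h)
      simp [fx] at ha hb hc
      exact hg (fix_three hF hab hbc hac ha hb hc)
    have hiff : Fpf hF g ↔ (fx g).card = 0 := by
      simp [Fpf, fx, Finset.filter_eq_empty_iff]
    by_cases hf : Fpf hF g
    · rw [if_pos hf, hiff.1 hf]; norm_num
    · rw [if_neg hf]
      have hne : (fx g).card ≠ 0 := fun e => hf (hiff.2 e)
      generalize (fx g).card = n at hle hne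
      interval_cases n <;> first | exact absurd rfl hne | norm_num
  have hsum := Finset.sum_congr rfl fun g (_ : g ∈ Finset.univ) => key g
  rw [Finset.sum_add_distrib, Finset.sum_sub_distrib, Finset.sum_add_distrib, ← Finset.mul_sum,
    ← Finset.mul_sum, Finset.sum_boole, Finset.sum_ite_eq' Finset.univ, if_pos (Finset.mem_univ _),
    Finset.sum_const, ← Nat.cast_sum, ← Nat.cast_sum, h1, h2, Finset.card_univ] at hsum
  have hG := card_group hF hm
  rw [Nat.card_eq_fintype_card, ← hF] at hG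
  rw [hG, ← hE, nsmul_eq_mul] at hsum
  rw [hEc, Nat.card_eq_fintype_card, hG]
  have hq1 : 1 ≤ Fintype.card F := Fintype.card_pos
  apply Nat.cast_injective (R := ℤ)
  push_cast [hq, Nat.cast_sub hq1] at hsum ⊢
  linear_combination ((Fintype.card F : ℤ) ^ 2 + 1) * hsum

/-- The set of non-trivial conjugates of elements of the centraliser of `x`. -/
def cls (x : Sz F (2 ^ (m + 1))) : Set (Sz F (2 ^ (m + 1))) :=
  {z | z ≠ 1 ∧ ∃ g : Sz F (2 ^ (m + 1)),
    g⁻¹ * z * g ∈ Subgroup.centralizer ({x} : Set (Sz F (2 ^ (m + 1))))}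

theorem centralizer_conj (g x : Sz F (2 ^ (m + 1))) (z : Sz F (2 ^ (m + 1))) :
    z ∈ Subgroup.centralizer ({g * x * g⁻¹} : Set (Sz F (2 ^ (m + 1)))) ↔
      g⁻¹ * z * g ∈ Subgroup.centralizer ({x} : Set (Sz F (2 ^ (m + 1)))) := by
  rw [Subgroup.mem_centralizer_singleton_iff, Subgroup.mem_centralizer_singleton_iff]
  constructor <;> intro h
  · calc g⁻¹ * z * g * x = g⁻¹ * (z * (g * x * g⁻¹)) * g := by group
      _ = x * (g⁻¹ * z * g) := by rw [h]; group
  · calc z * (g * x * g⁻¹) = g * (g⁻¹ * z * g * x) * g⁻¹ := by group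
      _ = g * x * g⁻¹ * z := by rw [h]; group

include hF in
theorem fpf_of_mem_cls (hm : 1 ≤ m) {x z : Sz F (2 ^ (m + 1))} (hx : Fpf hF x) (hz : z ∈ cls x) :
    Fpf hF z := by
  obtain ⟨hz1, g, hg⟩ := hz
  have h := (centralizer_eq hF hm hx hg (fun e => hz1 (by
    calc z = g * (g⁻¹ * z * g) * g⁻¹ := by group
      _ = 1 := by rw [e]; group))).1
  intro p hp
  refine h ((toSL hF g)⁻¹ • p) ((conj_fix hF _).2 ?_)
  rw [smul_inv_smul]
  exact hp

include hF in
theorem cls_eq (hm : 1 ≤ m) {x z : Sz F (2 ^ (m + 1))} (hx : Fpf hF x) (hz : z ∈ cls x) :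
    cls z = cls x := by
  obtain ⟨hz1, g, hg⟩ := hz
  have hne : g⁻¹ * z * g ≠ 1 := fun e => hz1 (by
    calc z = g * (g⁻¹ * z * g) * g⁻¹ := by group
      _ = 1 := by rw [e]; group)
  have hC := (centralizer_eq hF hm hx hg hne).2
  have hmem : ∀ u, u ∈ Subgroup.centralizer ({z} : Set (Sz F (2 ^ (m + 1)))) ↔
      g⁻¹ * u * g ∈ Subgroup.centralizer ({x} : Set (Sz F (2 ^ (m + 1)))) := fun u => by
    rw [← hC, ← centralizer_conj, show g * (g⁻¹ * z * g) * g⁻¹ = z by group]
  ext w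
  simp only [cls, Set.mem_setOf_eq, hmem]
  refine and_congr_right fun _ => ⟨fun ⟨k, hk⟩ => ⟨k * g, ?_⟩, fun ⟨k, hk⟩ => ⟨k * g⁻¹, ?_⟩⟩
  · rwa [show (k * g)⁻¹ * w * (k * g) = g⁻¹ * (k⁻¹ * w * k) * g by group]
  · rwa [show g⁻¹ * ((k * g⁻¹)⁻¹ * w * (k * g⁻¹)) * g = k⁻¹ * w * k by group]

include hF in
/-- The index of the centraliser in its normaliser divides four. -/
theorem exists_index (hm : 1 ≤ m) {x : Sz F (2 ^ (m + 1))} (hx : Fpf hF x) :
    ∃ n : ℕ, n ∣ 4 ∧
      Nat.card ↥(Subgroup.normalizer ((Subgroup.centralizer ({x} : Set (Sz F (2 ^ (m + 1)))) :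
        Subgroup (Sz F (2 ^ (m + 1)))) : Set (Sz F (2 ^ (m + 1))))) =
      n * Nat.card ↥(Subgroup.centralizer ({x} : Set (Sz F (2 ^ (m + 1))))) := by
  obtain ⟨y, p, hp, hpq, hy, -, hxy, e⟩ := fpf_centralizer hF hm hx
  rw [e]
  set A := Subgroup.centralizer ({y} : Set (Sz F (2 ^ (m + 1)))) with hA
  set N := Subgroup.normalizer (A : Set (Sz F (2 ^ (m + 1)))) with hN
  obtain ⟨-, hmod, hq4⟩ := q_facts (two_dvd_card hF) hp hpq
  obtain ⟨hirr, hdeg⟩ := minpoly_facts hF hp hpq hy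
  haveI := Fact.mk hirr
  haveI := Fact.mk hp
  set q := Fintype.card F with hq
  set M := mat y with hM
  set μ := minpoly F M with hμ
  have hyA : y ∈ A := Subgroup.mem_centralizer_singleton_iff.2 rfl
  have hcyc := centralizer_cyclic hF hp hpq hy
  set ζ := AdjoinRoot.root μ with hζ
  have hinj := Irred.injective M hirr (by norm_num)
  have hζo : orderOf ζ = p := by
    rw [← hy, ← orderOf_injective mat mat_injective y, ← hM, ← Irred.fieldHom_root M]
    exact (orderOf_injective (Irred.fieldHom M).toMonoidHom hinj ζ).symm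
  have hroots : ∀ i, (μ.map (algebraMap F (AdjoinRoot μ))).IsRoot (ζ ^ q ^ i) := by
    intro i
    rw [Polynomial.IsRoot, Polynomial.eval_map, ← Polynomial.aeval_def]
    induction i with
    | zero => rw [pow_zero, pow_one, hζ, AdjoinRoot.aeval_eq, AdjoinRoot.mk_self]
    | succ i ih =>
      rw [pow_succ, pow_mul, hq, ← Polynomial.expand_aeval, FiniteField.expand_card, map_pow, ih,
        zero_pow Fintype.card_ne_zero]
  have hdist : ∀ i j, i < 4 → j < 4 → q ^ i ≡ q ^ j [MOD p] → i = j := by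
    have hcop : Nat.Coprime q p := ((Nat.Prime.coprime_iff_not_dvd hp).2 (fun h => by
      have h2 : p ∣ q ^ 2 := dvd_pow h two_ne_zero
      exact hp.one_lt.ne' (Nat.dvd_one.1 ((Nat.dvd_add_right h2).1 hpq)))).symm
    intro i j hi hj h
    rcases lt_trichotomy i j with hlt | heq | hgt
    · exfalso
      refine hmod (j - i) (by omega) (by omega) ?_
      refine Nat.ModEq.cancel_left_of_coprime (c := q ^ i) ?_ ?_
      · exact (Nat.Coprime.pow_left i hcop).symm
      · rw [mul_one, ← pow_add, show i + (j - i) = j by omega]; exact h.symm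
    · exact heq
    · exfalso
      refine hmod (i - j) (by omega) (by omega) ?_
      refine Nat.ModEq.cancel_left_of_coprime (c := q ^ j) ?_ ?_
      · exact (Nat.Coprime.pow_left j hcop).symm
      · rw [mul_one, ← pow_add, show j + (i - j) = i by omega]; exact h
  have huniq : ∀ {i j : ℕ}, i < 4 → j < 4 → y ^ q ^ i = y ^ q ^ j → i = j := fun hi hj h =>
    hdist _ _ hi hj (hy ▸ pow_eq_pow_iff_modEq.1 h)
  have hex : ∀ g : N, ∃ i < 4, (g : Sz F (2 ^ (m + 1))) * y * (g : Sz F (2 ^ (m + 1)))⁻¹ = y ^ q ^ i := by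
    rintro ⟨g, hg⟩
    set y' := g * y * g⁻¹ with hy'
    have hy'A : y' ∈ A := (Subgroup.mem_normalizer_iff.1 hg y).1 hyA
    obtain ⟨a₀, ha₀⟩ := IsCyclic.exists_generator (α := A)
    have hy'o : orderOf y' = p := by
      rw [hy', show g * y * g⁻¹ = MulAut.conj g y from (MulAut.conj_apply g y).symm,
        MulEquiv.orderOf_eq, hy]
    obtain ⟨z, hz⟩ := Irred.exists_of_commute M hirr hdeg (X := mat y')
      (Commute.map (show Commute y' y from Subgroup.mem_centralizer_singleton_iff.1 hy'A) mat)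
    have hzroot : (μ.map (algebraMap F (AdjoinRoot μ))).IsRoot z := by
      rw [Polynomial.IsRoot, Polynomial.eval_map, ← Polynomial.aeval_def]
      refine hinj ?_
      have hφ : ∀ (f : Polynomial F) (w : AdjoinRoot μ),
          Irred.fieldHom M (Polynomial.aeval w f) = Polynomial.aeval (Irred.fieldHom M w) f := by
        intro f w
        induction f using Polynomial.induction_on' with
        | add r s hr hs => simp only [map_add, hr, hs]
        | monomial k c =>
          rw [Polynomial.aeval_monomial, Polynomial.aeval_monomial, map_mul, map_pow,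
            AdjoinRoot.algebraMap_eq, ← AdjoinRoot.mk_C, Irred.fieldHom_mk, Polynomial.aeval_C]
      rw [hφ, hz, map_zero, hy', map_mul, map_mul]
      have hc : ∀ f : Polynomial F, Polynomial.aeval (mat g * M * mat g⁻¹) f =
          mat g * Polynomial.aeval M f * mat g⁻¹ := by
        intro f
        have hgg : mat g⁻¹ * mat g = 1 := by rw [← map_mul, inv_mul_cancel, map_one]
        have hgg' : mat g * mat g⁻¹ = 1 := by rw [← map_mul, mul_inv_cancel, map_one]
        induction f using Polynomial.induction_on' with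
        | add r s hr hs => simp only [map_add, hr, hs, mul_add, add_mul]
        | monomial k c =>
          have hk : ∀ k : ℕ, (mat g * M * mat g⁻¹) ^ k = mat g * M ^ k * mat g⁻¹ := by
            intro k
            induction k with
            | zero => rw [pow_zero, pow_zero, mul_one, hgg']
            | succ k ih =>
              rw [pow_succ (mat g * M * mat g⁻¹) k, ih, pow_succ M k]
              simp only [mul_assoc]
              rw [← mul_assoc (mat g⁻¹) (mat g), hgg, one_mul]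
          rw [Polynomial.aeval_monomial, Polynomial.aeval_monomial, hk, ← mul_assoc, ← mul_assoc,
            Algebra.commutes c (mat g), mul_assoc (mat g)]
      rw [hc, minpoly.aeval, mul_zero, zero_mul]
    by_contra hno
    push Not at hno
    classical
    have hz' : ∀ i < 4, z ≠ ζ ^ q ^ i := fun i hi e => hno i hi (mat_injective (by
      rw [← hz, e, map_pow, map_pow, Irred.fieldHom_root]))
    set P := μ.map (algebraMap F (AdjoinRoot μ)) with hP
    have hP0 : P ≠ 0 := Polynomial.map_ne_zero hirr.ne_zero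
    have hsub : insert z ((Finset.range 4).image fun i => ζ ^ q ^ i) ⊆ P.roots.toFinset := by
      intro w hw
      rw [Multiset.mem_toFinset, Polynomial.mem_roots hP0]
      rcases Finset.mem_insert.1 hw with rfl | hw
      · exact hzroot
      · obtain ⟨i, -, rfl⟩ := Finset.mem_image.1 hw
        exact hroots i
    have hcard := (Finset.card_le_card hsub).trans
      ((Multiset.toFinset_card_le _).trans (Polynomial.card_roots' P))
    rw [Finset.card_insert_of_notMem (fun h => by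
        obtain ⟨i, hi, e⟩ := Finset.mem_image.1 h
        exact hz' i (Finset.mem_range.1 hi) e.symm),
      Finset.card_image_of_injOn (f := fun i => ζ ^ q ^ i) (s := Finset.range 4) (fun i hi j hj h => huniq (Finset.mem_range.1 hi) (Finset.mem_range.1 hj) (mat_injective (by
        have h' := congrArg (Irred.fieldHom M) (show ζ ^ q ^ i = ζ ^ q ^ j from h)
        rw [map_pow, map_pow, Irred.fieldHom_root] at h'
        rw [map_pow, map_pow]
        exact h'))),
      Finset.card_range, Polynomial.natDegree_map, hdeg] at hcard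
    omega
  choose χ hχ hχe using hex
  have hred : ∀ k, y ^ q ^ k = y ^ q ^ (k % 4) := fun k => by
    rw [pow_eq_pow_iff_modEq, hy]
    conv_lhs => rw [← Nat.mod_add_div k 4, pow_add, pow_mul]
    simpa using (hq4.pow (k / 4)).mul_left (q ^ (k % 4))
  let f : N →* Multiplicative (ZMod 4) :=
    MonoidHom.mk' (fun g => Multiplicative.ofAdd (χ g : ZMod 4)) fun g h => by
      rw [← ofAdd_add, ← Nat.cast_add]
      congr 1
      rw [ZMod.natCast_eq_natCast_iff]
      have h1 : ((g * h : N) : Sz F (2 ^ (m + 1))) * y * ((g * h : N) : Sz F (2 ^ (m + 1)))⁻¹ =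
          y ^ q ^ ((χ g + χ h) % 4) := by
        rw [← hred, pow_add q (χ g) (χ h), pow_mul, ← hχe g, conj_pow, ← hχe h, Subgroup.coe_mul]
        group
      rw [hχe (g * h)] at h1
      have h2 : χ (g * h) = (χ g + χ h) % 4 :=
        huniq (hχ (g * h)) (Nat.mod_lt _ (by norm_num)) h1
      rw [h2]
      exact Nat.mod_modEq _ _
  have hker : f.ker = A.subgroupOf N := by
    ext g
    rw [MonoidHom.mem_ker, Subgroup.mem_subgroupOf, hA, Subgroup.mem_centralizer_singleton_iff]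
    show Multiplicative.ofAdd (χ g : ZMod 4) = 1 ↔ _
    rw [ofAdd_eq_one, ZMod.natCast_eq_zero_iff]
    constructor
    · intro h
      have h0 : χ g = 0 := Nat.eq_zero_of_dvd_of_lt h (hχ g)
      have h1 := hχe g
      rw [h0, pow_zero, pow_one, mul_inv_eq_iff_eq_mul] at h1
      exact h1
    · intro h
      have h0 : χ g = 0 := huniq (hχ g) (by norm_num) (by
        rw [← hχe g, pow_zero, pow_one, mul_inv_eq_iff_eq_mul]
        exact h)
      rw [h0]
      exact dvd_zero _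
  refine ⟨Nat.card f.range, ?_, ?_⟩
  · have := Subgroup.card_subgroup_dvd_card f.range
    rwa [Nat.card_eq_fintype_card (α := Multiplicative (ZMod 4)), Fintype.card_multiplicative,
      ZMod.card] at this
  · rw [← Subgroup.card_mul_index f.ker, Subgroup.index_ker, hker,
      Nat.card_congr (Subgroup.subgroupOfEquivOfLe (Subgroup.le_normalizer)).toEquiv, mul_comm]

include hF in
/-- The size of a class. -/
theorem card_cls (hm : 1 ≤ m) {x : Sz F (2 ^ (m + 1))} (hx : Fpf hF x) :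
    Nat.card ↥(cls x) * Nat.card ↥(Subgroup.normalizer
        ((Subgroup.centralizer ({x} : Set (Sz F (2 ^ (m + 1)))) :
          Subgroup (Sz F (2 ^ (m + 1)))) : Set (Sz F (2 ^ (m + 1))))) =
      Nat.card (Sz F (2 ^ (m + 1))) *
        (Nat.card ↥(Subgroup.centralizer ({x} : Set (Sz F (2 ^ (m + 1))))) - 1) := by
  classical
  set A := Subgroup.centralizer ({x} : Set (Sz F (2 ^ (m + 1)))) with hA
  set N := Subgroup.normalizer (A : Set (Sz F (2 ^ (m + 1)))) with hN
  have hA' : Nat.card {c : Sz F (2 ^ (m + 1)) // c ∈ A ∧ c ≠ 1} = Nat.card A - 1 := by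
    haveI : Fintype A := Fintype.ofFinite _
    rw [Nat.card_congr (Equiv.subtypeSubtypeEquivSubtypeInter (· ∈ A) (· ≠ 1)).symm,
      Nat.card_eq_fintype_card (α := A), Nat.card_congr (Equiv.subtypeEquivRight
        (q := fun c : A => c ≠ 1) fun c => by
          simp), Nat.card_eq_fintype_card, Fintype.card_subtype_compl, Fintype.card_subtype_eq]
  rw [← hA', ← Nat.card_prod, ← Nat.card_prod]
  choose g hg using fun z : ↥(cls x) => z.2.2
  have hne : ∀ z : ↥(cls x), (g z)⁻¹ * z.1 * g z ≠ 1 := fun z e => z.2.1 (by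
    calc z.1 = g z * ((g z)⁻¹ * z.1 * g z) * (g z)⁻¹ := by group
      _ = 1 := by rw [e]; group)
  refine Nat.card_eq_of_bijective (fun p : ↥(cls x) × N =>
    ((g p.1 * p.2.1, ⟨(p.2.1)⁻¹ * ((g p.1)⁻¹ * p.1.1 * g p.1) * p.2.1,
      (Subgroup.mem_normalizer_iff''.1 p.2.2 _).1 (hg p.1), fun e => hne p.1 (by
        calc (g p.1)⁻¹ * p.1.1 * g p.1 =
            p.2.1 * ((p.2.1)⁻¹ * ((g p.1)⁻¹ * p.1.1 * g p.1) * p.2.1) * (p.2.1)⁻¹ := by group
          _ = 1 := by rw [e]; group)⟩) :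
      Sz F (2 ^ (m + 1)) × {c : Sz F (2 ^ (m + 1)) // c ∈ A ∧ c ≠ 1})) ⟨?_, ?_⟩
  · intro p r e
    have e1 := congrArg Prod.fst e
    have e2 := congrArg (fun z => (Prod.snd z).1) e
    simp only at e1 e2
    have hz : p.1.1 = r.1.1 := by
      calc p.1.1 = (g p.1 * p.2.1) * ((p.2.1)⁻¹ * ((g p.1)⁻¹ * p.1.1 * g p.1) * p.2.1) *
            (g p.1 * p.2.1)⁻¹ := by group
        _ = (g r.1 * r.2.1) * ((r.2.1)⁻¹ * ((g r.1)⁻¹ * r.1.1 * g r.1) * r.2.1) *
            (g r.1 * r.2.1)⁻¹ := by rw [e1, e2]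
        _ = r.1.1 := by group
    have h1 : p.1 = r.1 := Subtype.ext hz
    refine Prod.ext h1 (Subtype.ext ?_)
    rw [h1] at e1
    exact mul_left_cancel e1
  · rintro ⟨h, c, hcA, hc1⟩
    set z : ↥(cls x) := ⟨h * c * h⁻¹, fun e => hc1 (by
      calc c = h⁻¹ * (h * c * h⁻¹) * h := by group
        _ = 1 := by rw [e]; group), h, by
      rwa [show h⁻¹ * (h * c * h⁻¹) * h = c by group]⟩ with hz
    have hn : (g z)⁻¹ * h ∈ N := by
      rw [hN, Subgroup.mem_normalizer_iff]
      intro u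
      have h1 := (centralizer_eq hF hm hx hcA hc1).2
      have h2 := (centralizer_eq hF hm hx (hg z) (hne z)).2
      rw [← hA] at h1 h2
      have hc : c = ((g z)⁻¹ * h)⁻¹ * ((g z)⁻¹ * z.1 * g z) * ((g z)⁻¹ * h) := by
        show c = ((g z)⁻¹ * h)⁻¹ * ((g z)⁻¹ * (h * c * h⁻¹) * g z) * ((g z)⁻¹ * h)
        group
      constructor
      · intro hu
        rw [← h1, hc] at hu
        rw [← h2]
        rw [show ((g z)⁻¹ * h)⁻¹ * ((g z)⁻¹ * z.1 * g z) * ((g z)⁻¹ * h) =
          ((g z)⁻¹ * h)⁻¹ * ((g z)⁻¹ * z.1 * g z) * (((g z)⁻¹ * h)⁻¹)⁻¹ by rw [inv_inv],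
          centralizer_conj, inv_inv] at hu
        exact hu
      · intro hu
        rw [← h2] at hu
        rw [← h1, hc, show ((g z)⁻¹ * h)⁻¹ * ((g z)⁻¹ * z.1 * g z) * ((g z)⁻¹ * h) =
          ((g z)⁻¹ * h)⁻¹ * ((g z)⁻¹ * z.1 * g z) * (((g z)⁻¹ * h)⁻¹)⁻¹ by rw [inv_inv],
          centralizer_conj, inv_inv]
        exact hu
    refine ⟨(z, ⟨_, hn⟩), Prod.ext ?_ (Subtype.ext ?_)⟩
    · show g z * ((g z)⁻¹ * h) = h
      group
    · show ((g z)⁻¹ * h)⁻¹ * ((g z)⁻¹ * (h * c * h⁻¹) * g z) * ((g z)⁻¹ * h) = c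
      group

include hF in
theorem class_facts (hm : 1 ≤ m) {x : Sz F (2 ^ (m + 1))} (hx : Fpf hF x) :
    ∃ n a : ℕ, (n = 1 ∨ n = 2 ∨ n = 4) ∧ 5 ≤ a ∧ a ∣ Fintype.card F ^ 2 + 1 ∧
      Nat.card ↥(Subgroup.centralizer ({x} : Set (Sz F (2 ^ (m + 1))))) = a ∧
      Nat.card ↥(Subgroup.normalizer ((Subgroup.centralizer ({x} : Set (Sz F (2 ^ (m + 1)))) :
        Subgroup (Sz F (2 ^ (m + 1)))) : Set (Sz F (2 ^ (m + 1))))) = n * a ∧
      Nat.card ↥(cls x) * (n * a) = Nat.card (Sz F (2 ^ (m + 1))) * (a - 1) ∧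
      IsCyclic ↥(Subgroup.centralizer ({x} : Set (Sz F (2 ^ (m + 1))))) := by
  obtain ⟨n, hn, hN⟩ := exists_index hF hm hx
  obtain ⟨y, p, hp, hpq, hy, hx1, hxy, e⟩ := fpf_centralizer hF hm hx
  have hcyc : IsCyclic ↥(Subgroup.centralizer ({x} : Set (Sz F (2 ^ (m + 1))))) := by
    rw [e]; exact centralizer_cyclic hF hp hpq hy
  refine ⟨n, _, ?_, ?_, ?_, rfl, hN, hN ▸ card_cls hF hm hx, hcyc⟩
  · have := (Nat.dvd_prime_pow Nat.prime_two).1 (show n ∣ 2 ^ 2 from hn)
    obtain ⟨k, hk, rfl⟩ := this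
    interval_cases k <;> simp
  · have h5 := (q_facts (two_dvd_card hF) hp hpq).1
    have hmem : y ∈ Subgroup.centralizer ({x} : Set (Sz F (2 ^ (m + 1)))) :=
      Subgroup.mem_centralizer_singleton_iff.2 hxy.eq.symm
    have := orderOf_dvd_natCard (G := ↥(Subgroup.centralizer ({x} : Set (Sz F (2 ^ (m + 1))))))
      ⟨y, hmem⟩
    rw [Subgroup.orderOf_mk, hy] at this
    exact h5.trans (Nat.le_of_dvd Nat.card_pos this)
  · obtain ⟨c, hc⟩ := hcyc.exists_generator
    rw [← orderOf_eq_card_of_forall_mem_zpowers hc, ← Subgroup.orderOf_coe]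
    refine orderOf_dvd_of_pow_eq_one (mem_centralizer_pow hF hp hpq hy ?_)
    exact Subgroup.mem_centralizer_singleton_iff.1 (e ▸ c.2 :
      (c : Sz F (2 ^ (m + 1))) ∈ Subgroup.centralizer ({y} : Set (Sz F (2 ^ (m + 1)))))

include hF in
/-- There are exactly two classes, of orders `q ± r + 1`, each with normaliser four times as large. -/
theorem exists_tori (hm : 1 ≤ m) :
    ∀ k ∈ ({2 ^ (2 * m + 1) + 2 ^ (m + 1) + 1, 2 ^ (2 * m + 1) - 2 ^ (m + 1) + 1} : Set ℕ),
      ∃ A : Subgroup (Sz F (2 ^ (m + 1))), IsCyclic A ∧ Nat.card A = k ∧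
        (∀ u ∈ A, u ≠ 1 → Subgroup.centralizer ({u} : Set (Sz F (2 ^ (m + 1)))) = A) ∧
        Nat.card ↥(Subgroup.normalizer (A : Set (Sz F (2 ^ (m + 1))))) = 4 * k := by
  classical
  set G := Nat.card (Sz F (2 ^ (m + 1))) with hG
  set q := Fintype.card F with hq
  have hGpos : 0 < G := Nat.card_pos
  have hq8 : 8 ≤ q := by
    rw [hF]
    exact (Nat.pow_le_pow_right two_pos (show 3 ≤ 2 * m + 1 by omega))
  have hE := card_fpf hF hm
  rw [← hq, ← hG] at hE
  set E := {g : Sz F (2 ^ (m + 1)) | Fpf hF g} with hEd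
  have hEc : Nat.card {g : Sz F (2 ^ (m + 1)) // Fpf hF g} = E.ncard := (Nat.card_coe_set_eq E)
  rw [hEc] at hE
  obtain ⟨k, hk⟩ : ∃ k, q = k + 1 := ⟨q - 1, by omega⟩
  have hElt : 2 * E.ncard < G := by
    by_contra h
    push Not at h
    have : G * (q ^ 2 + 1) ≤ G * (q * (q - 1)) := by
      rw [← hE]; nlinarith
    have h' := Nat.le_of_mul_le_mul_left this hGpos
    rw [hk, Nat.add_sub_cancel] at h'
    nlinarith
  have hEne : E.Nonempty := by
    rcases Set.eq_empty_or_nonempty E with h | h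
    · exfalso
      rw [h, Set.ncard_empty, mul_zero] at hE
      rcases Nat.mul_eq_zero.1 hE.symm with h' | h'
      · omega
      · rcases Nat.mul_eq_zero.1 h' with h'' | h'' <;> omega
    · exact h
  obtain ⟨x₁, hx₁⟩ := hEne
  obtain ⟨n₁, a₁, hn₁, h5₁, hd₁, hc₁, hN₁, hs₁, hy₁⟩ := class_facts hF hm hx₁
  rw [Nat.card_coe_set_eq, ← hG] at hs₁
  have hsub : ∀ {x : Sz F (2 ^ (m + 1))}, Fpf hF x → cls x ⊆ E := fun hx z hz =>
    fpf_of_mem_cls hF hm hx hz
  have hmem : ∀ {x : Sz F (2 ^ (m + 1))}, Fpf hF x → x ∈ cls x := fun {x} hx =>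
    ⟨fun e => hx inf (by rw [e, map_one, one_smul]), 1, by
      rw [inv_one, one_mul, mul_one]; exact Subgroup.mem_centralizer_singleton_iff.2 rfl⟩
  have hfour : ∀ {n a s : ℕ}, (n = 1 ∨ n = 2 ∨ n = 4) → 5 ≤ a → s * (n * a) = G * (a - 1) →
      4 * G ≤ 20 * s ∧ (n ≠ 4 → 4 * G ≤ 10 * s) := by
    intro n a s hn ha hs
    obtain ⟨b, rfl⟩ : ∃ b, a = b + 1 := ⟨a - 1, by omega⟩
    rw [Nat.add_sub_cancel] at hs
    have h1 : 4 * G * (b + 1) ≤ 5 * n * s * (b + 1) := by nlinarith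
    have h2 := Nat.le_of_mul_le_mul_right h1 (Nat.succ_pos b)
    rcases hn with rfl | rfl | rfl
    · exact ⟨by omega, fun _ => by omega⟩
    · exact ⟨by omega, fun _ => by omega⟩
    · exact ⟨by omega, fun h => absurd rfl h⟩
  -- a second class
  obtain ⟨x₂, hx₂, hx₂'⟩ : ∃ x₂, Fpf hF x₂ ∧ x₂ ∉ cls x₁ := by
    by_contra h
    push Not at h
    have e : cls x₁ = E := Set.Subset.antisymm (hsub hx₁) h
    rw [e] at hs₁
    obtain ⟨b, hb⟩ : ∃ b, a₁ = b + 1 := ⟨a₁ - 1, by omega⟩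
    rw [hb, Nat.add_sub_cancel] at hs₁
    rw [hb] at h5₁ hd₁
    rw [hk, Nat.add_sub_cancel] at hE
    have key : (k + 1) * k * (n₁ * (b + 1)) = 2 * ((k + 1) ^ 2 + 1) * b := by
      refine Nat.eq_of_mul_eq_mul_left hGpos ?_
      calc G * ((k + 1) * k * (n₁ * (b + 1))) = G * ((k + 1) * k) * (n₁ * (b + 1)) := by ring
        _ = 2 * ((k + 1) ^ 2 + 1) * (E.ncard * (n₁ * (b + 1))) := by rw [← hE]; ring
        _ = G * (2 * ((k + 1) ^ 2 + 1) * b) := by rw [hs₁]; ring
    have hk7 : 7 ≤ k := by omega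
    rcases hn₁ with rfl | rfl | rfl
    · nlinarith
    · have hdiv : k + 2 ∣ (k + 1) ^ 2 + 1 := ⟨b + 1, by nlinarith⟩
      rw [show (k + 1) ^ 2 + 1 = (k + 2) * k + 2 by ring,
        Nat.dvd_add_right (dvd_mul_right _ _)] at hdiv
      have := Nat.le_of_dvd two_pos hdiv
      omega
    · nlinarith [Nat.mul_le_mul_right b (show 2 ≤ k * k by nlinarith)]
  obtain ⟨n₂, a₂, hn₂, h5₂, hd₂, hc₂, hN₂, hs₂, hy₂⟩ := class_facts hF hm hx₂
  rw [Nat.card_coe_set_eq, ← hG] at hs₂
  have hdisj : Disjoint (cls x₁) (cls x₂) := Set.disjoint_left.2 fun z hz₁ hz₂ => hx₂' (by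
    rw [← cls_eq hF hm hx₁ hz₁, cls_eq hF hm hx₂ hz₂]; exact hmem hx₂)
  have hle : (cls x₁).ncard + (cls x₂).ncard ≤ E.ncard := by
    rw [← Set.ncard_union_eq hdisj]
    exact Set.ncard_le_ncard (Set.union_subset (hsub hx₁) (hsub hx₂))
  obtain ⟨f1, f1'⟩ := hfour hn₁ h5₁ hs₁
  obtain ⟨f2, f2'⟩ := hfour hn₂ h5₂ hs₂
  have e1 : n₁ = 4 := by
    by_contra h
    have := f1' h
    omega
  have e2 : n₂ = 4 := by
    by_contra h
    have := f2' h
    omega
  subst e1 e2
  have hunion : cls x₁ ∪ cls x₂ = E := by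
    refine Set.Subset.antisymm (Set.union_subset (hsub hx₁) (hsub hx₂)) fun z hz => ?_
    by_contra hnot
    simp only [Set.mem_union, not_or] at hnot
    obtain ⟨n₃, a₃, hn₃, h5₃, -, -, -, hs₃, -⟩ := class_facts hF hm (x := z) hz
    rw [Nat.card_coe_set_eq, ← hG] at hs₃
    have h3 : Disjoint (cls x₁ ∪ cls x₂) (cls z) := Set.disjoint_left.2 fun w hw hw' => by
      rcases hw with h | h
      · exact hnot.1 (by rw [← cls_eq hF hm hx₁ h, cls_eq hF hm hz hw']; exact hmem hz)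
      · exact hnot.2 (by rw [← cls_eq hF hm hx₂ h, cls_eq hF hm hz hw']; exact hmem hz)
    have hle3 : (cls x₁ ∪ cls x₂).ncard + (cls z).ncard ≤ E.ncard := by
      rw [← Set.ncard_union_eq h3]
      exact Set.ncard_le_ncard
        (Set.union_subset (Set.union_subset (hsub hx₁) (hsub hx₂)) (hsub hz))
    rw [Set.ncard_union_eq hdisj] at hle3
    have := (hfour hn₃ h5₃ hs₃).1
    omega
  have hEeq : E.ncard = (cls x₁).ncard + (cls x₂).ncard := by
    rw [← hunion, Set.ncard_union_eq hdisj]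
  -- the two orders are coprime
  have hcop : Nat.Coprime a₁ a₂ := by
    refine Nat.coprime_of_dvd fun r hr hr1 hr2 => hx₂' ?_
    haveI := Fact.mk hr
    obtain ⟨u, hu⟩ := exists_prime_orderOf_dvd_card' (G := ↥(Subgroup.centralizer ({x₁} : Set (Sz F (2 ^ (m + 1)))))) r
      (hc₁.symm ▸ hr1)
    obtain ⟨w, hw⟩ := exists_prime_orderOf_dvd_card' (G := ↥(Subgroup.centralizer ({x₂} : Set (Sz F (2 ^ (m + 1)))))) r
      (hc₂.symm ▸ hr2)
    rw [← Subgroup.orderOf_coe] at hu hw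
    have hr2' : r ≠ 2 := by
      rintro rfl
      have h := hr1.trans hd₁
      have h4 : 2 ∣ q ^ 2 := dvd_pow (two_dvd_card hF) two_ne_zero
      change 2 ∣ q ^ 2 + 1 at h
      omega
    obtain ⟨P, hP⟩ := (IsPGroup.of_card (p := r) (n := 1)
      (by rw [Nat.card_zpowers, hu, pow_one]) : IsPGroup r (Subgroup.zpowers u.1)).exists_le_sylow
    obtain ⟨P', hP'⟩ := (IsPGroup.of_card (p := r) (n := 1)
      (by rw [Nat.card_zpowers, hw, pow_one]) : IsPGroup r (Subgroup.zpowers w.1)).exists_le_sylow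
    obtain ⟨g, hg⟩ := MulAction.exists_smul_eq (Sz F (2 ^ (m + 1))) P' P
    have hw' : g * w.1 * g⁻¹ ∈ (P : Subgroup (Sz F (2 ^ (m + 1)))) := by
      rw [← hg, Sylow.coe_subgroup_smul]
      exact Subgroup.smul_mem_pointwise_smul _ (MulAut.conj g) _ (hP' (Subgroup.mem_zpowers _))
    haveI := sylow_cyclic hF hm hr2' P
    have hsame : g * w.1 * g⁻¹ ∈ Subgroup.zpowers u.1 := by
      have h2 : (⟨g * w.1 * g⁻¹, hw'⟩ : P) ∈ Subgroup.zpowers ⟨u.1, hP (Subgroup.mem_zpowers _)⟩ := by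
        refine mem_zpowers_of_pow_eq_one (Subtype.ext ?_)
        rw [← Subgroup.orderOf_coe, SubgroupClass.coe_pow, OneMemClass.coe_one]
        show (g * w.1 * g⁻¹) ^ orderOf u.1 = 1
        rw [hu, conj_pow, ← hw, pow_orderOf_eq_one, mul_one, mul_inv_cancel]
      obtain ⟨j, hj⟩ := Subgroup.mem_zpowers_iff.1 h2
      exact Subgroup.mem_zpowers_iff.2 ⟨j, congrArg Subtype.val hj⟩
    have hw1 : w.1 ≠ 1 := fun e => by rw [e, orderOf_one] at hw; exact hr.ne_one hw.symm
    have hwcls : w.1 ∈ cls x₁ := by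
      refine ⟨hw1, g⁻¹, ?_⟩
      rw [inv_inv]
      exact (Subgroup.zpowers_le.2 u.2) hsame
    have hwcls2 : w.1 ∈ cls x₂ := ⟨hw1, 1, by rw [inv_one, one_mul, mul_one]; exact w.2⟩
    rw [← cls_eq hF hm hx₁ hwcls, cls_eq hF hm hx₂ hwcls2]
    exact hmem hx₂
  -- arithmetic
  obtain ⟨b₁, hb₁⟩ : ∃ b, a₁ = b + 1 := ⟨a₁ - 1, by omega⟩
  obtain ⟨b₂, hb₂⟩ : ∃ b, a₂ = b + 1 := ⟨a₂ - 1, by omega⟩
  have hkey : (q ^ 2 + 1) * (a₁ + a₂) = 2 * (a₁ * a₂) * (q + 1) := by
    rw [hEeq, hk, Nat.add_sub_cancel] at hE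
    rw [hb₁, Nat.add_sub_cancel] at hs₁
    rw [hb₂, Nat.add_sub_cancel] at hs₂
    rw [hb₁, hb₂, hk]
    refine Nat.eq_of_mul_eq_mul_left hGpos ?_
    have : 2 * ((k + 1) ^ 2 + 1) * ((cls x₁).ncard + (cls x₂).ncard) * (4 * (b₁ + 1) * (4 * (b₂ + 1))) =
        G * ((k + 1) * k) * (4 * (b₁ + 1) * (4 * (b₂ + 1))) := by rw [hE]
    have h' : 2 * ((k + 1) ^ 2 + 1) * ((cls x₁).ncard + (cls x₂).ncard) * (4 * (b₁ + 1) * (4 * (b₂ + 1))) =
        2 * ((k + 1) ^ 2 + 1) * (G * b₁ * (4 * (b₂ + 1)) + G * b₂ * (4 * (b₁ + 1))) := by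
      rw [← hs₁, ← hs₂]; ring
    rw [h'] at this
    zify at this ⊢
    linarith [this]
  have hab : a₁ * a₂ ∣ q ^ 2 + 1 := hcop.mul_dvd_of_dvd_of_dvd hd₁ hd₂
  obtain ⟨c, hc⟩ := hab
  have hsum : c * (a₁ + a₂) = 2 * (q + 1) := by
    rw [hc] at hkey
    refine Nat.eq_of_mul_eq_mul_left (show 0 < a₁ * a₂ by positivity) ?_
    linarith [hkey]
  have hc1 : c = 1 := by
    have hcd : c ∣ q ^ 2 + 1 := ⟨a₁ * a₂, hc.trans (mul_comm _ _)⟩
    have hodd : ¬ 2 ∣ c := fun h => by
      have h3 := h.trans hcd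
      have h4 : 2 ∣ q ^ 2 := dvd_pow (two_dvd_card hF) two_ne_zero
      omega
    have h2 : c ∣ q + 1 :=
      Nat.Coprime.dvd_of_dvd_mul_left ((Nat.prime_two.coprime_iff_not_dvd.2 hodd).symm) ⟨_, hsum.symm⟩
    have h3 : c ∣ 2 := by
      have h4 : c ∣ (q + 1) * (q + 1) := dvd_mul_of_dvd_left h2 _
      rw [show (q + 1) * (q + 1) = q ^ 2 + 1 + 2 * q by ring, Nat.dvd_add_right hcd] at h4
      have h5 : c ∣ q :=
        Nat.Coprime.dvd_of_dvd_mul_left ((Nat.prime_two.coprime_iff_not_dvd.2 hodd).symm) h4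
      rw [Nat.dvd_add_right h5] at h2
      exact h2.trans (one_dvd 2)
    rcases (Nat.dvd_prime Nat.prime_two).1 h3 with h | h
    · exact h
    · exact absurd (dvd_of_eq h.symm) hodd
  rw [hc1, mul_one] at hc
  rw [hc1, one_mul] at hsum
  intro n hn
  have hn' : n = a₁ ∨ n = a₂ := by
    have hr2 : ((2 : ℤ) ^ (m + 1)) ^ 2 = 2 * (q : ℤ) := by
      rw [hF]; push_cast; ring
    have hle : 2 ^ (m + 1) ≤ 2 ^ (2 * m + 1) := Nat.pow_le_pow_right two_pos (by omega)
    have key : ((n : ℤ) - a₁) * ((n : ℤ) - a₂) = 0 := by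
      have e1 : (a₁ : ℤ) + a₂ = 2 * ((q : ℤ) + 1) := by exact_mod_cast hsum
      have e2 : (q : ℤ) ^ 2 + 1 = a₁ * a₂ := by exact_mod_cast hc
      have eq : (q : ℤ) = 2 ^ (2 * m + 1) := by rw [hF]; norm_cast
      rcases hn with rfl | hn
      · push_cast
        rw [← eq]
        linear_combination -((q : ℤ) + 2 ^ (m + 1) + 1) * e1 - e2 + hr2
      · rw [Set.mem_singleton_iff] at hn
        subst hn
        push_cast [hle]
        rw [← eq]
        linear_combination -((q : ℤ) - 2 ^ (m + 1) + 1) * e1 - e2 + hr2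
    rcases mul_eq_zero.1 key with h | h
    · exact Or.inl (by omega)
    · exact Or.inr (by omega)
  rcases hn' with rfl | rfl
  · exact ⟨_, hy₁, hc₁, fun u hu hu1 => (centralizer_eq hF hm hx₁ hu hu1).2, hN₁⟩
  · exact ⟨_, hy₂, hc₂, fun u hu hu1 => (centralizer_eq hF hm hx₂ hu hu1).2, hN₂⟩

end CfsgLib.Suzuki
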