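/-
A doubly transitive group with a regular normal subgroup in which no non-identity element fixes three
points and some fixes two has degree `2 ^ p` with `p` prime.
-/
import Mathlib
import Cfsg.Agent.S4252
import Cfsg.Agent.Lib.Solvable.FrobeniusTheorem
import Cfsg.Agent.Lib.Solvable.FrobeniusComplement
import Cfsg.Agent.Lib.Transfer.CyclicMaximal
import Cfsg.Agent.Lib.FGS.ThompsonKernel
import Cfsg.Agent.Lib.Suzuki.CyclicModule
import Cfsg.Agent.Lib.Suzuki.ZassenhausNormal

set_option autoImplicit false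

namespace CfsgLib.Suzuki.AffineDegree

open MulAction (stabilizer)

/-- A nilpotent group of odd order acting fixed-point-freely is cyclic. -/
theorem isCyclic_of_fpf_nilpotent {G : Type*} [Group G] [Finite G] {A K : Subgroup G}
    (hK : K ≠ ⊥) (hAK : A ≤ Subgroup.normalizer (K : Set G))
    (hfpf : ∀ a ∈ A, a ≠ 1 → K ⊓ Subgroup.centralizer {a} = ⊥)
    (hodd : Odd (Nat.card A)) [Group.IsNilpotent A] : IsCyclic A := by
  have : IsZGroup A := by
    refine ⟨fun q hq P => ?_⟩
    haveI : Fact q.Prime := ⟨hq⟩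
    by_contra hnc
    have hq2 : q ≠ 2 := by
      rintro rfl
      refine hnc ?_
      have : Subsingleton P := (Nat.card_eq_one_iff_unique.1 (by
        rw [P.card_eq_multiplicity, Nat.factorization_eq_zero_of_not_dvd
          (fun h => (Nat.not_even_iff_odd.mpr hodd) (even_iff_two_dvd.mpr h)), pow_zero])).1
      infer_instance
    obtain ⟨B, -, -, hBe, hB⟩ := CfsgLib.Transfer.exists_normal_elemAb_sq P.2 hq2
      (S := ⊤) (fun h => hnc (isCyclic_of_surjective Subgroup.topEquiv.toMonoidHom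
        Subgroup.topEquiv.surjective))
    let f : (P : Subgroup A) →* G := A.subtype.comp (P : Subgroup A).subtype
    have hf : Function.Injective f :=
      A.subtype_injective.comp (P : Subgroup A).subtype_injective
    have hle : B.map f ≤ A := by
      rintro _ ⟨b, -, rfl⟩
      exact b.1.2
    have hcyc : IsCyclic (B.map f) := CfsgLib.Solvable.isCyclic_of_fpf hK (hle.trans hAK)
      (fun x hx hx1 => hfpf x (hle hx) hx1) (Or.inl (by
        rintro _ ⟨x, hx, rfl⟩ _ ⟨y, hy, rfl⟩
        rw [← map_mul, ← map_mul]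
        exact congrArg f (congrArg Subtype.val (hBe.1.is_comm.comm ⟨x, hx⟩ ⟨y, hy⟩))))
    have hcycB : IsCyclic B :=
      isCyclic_of_surjective _ (B.equivMapOfInjective f hf).symm.surjective
    obtain ⟨u, hu⟩ := hcycB.exists_generator
    have h1 := orderOf_eq_card_of_forall_mem_zpowers hu
    have h2 : orderOf u ∣ q := orderOf_dvd_of_pow_eq_one (Subtype.ext (by
      rw [SubmonoidClass.coe_pow]; exact hBe.2 _ u.2))
    rw [h1, hB, sq] at h2
    have := Nat.le_of_dvd hq.pos h2
    nlinarith [hq.two_le]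
  infer_instance

variable {G Ω : Type*} [Group G] [MulAction G Ω] [Fintype Ω] [FaithfulSMul G Ω]

theorem degree (h2 : MulAction.IsMultiplyPretransitive G Ω 2)
    (h3 : ∀ g : G, ∀ a b c : Ω, a ≠ b → b ≠ c → a ≠ c → g • a = a → g • b = b → g • c = c → g = 1)
    (hfix : ∃ g : G, g ≠ 1 ∧ ∃ a b : Ω, a ≠ b ∧ g • a = a ∧ g • b = b)
    (N : Subgroup G) [N.Normal] (hNt : MulAction.IsPretransitive N Ω)
    (hNr : ∀ a : Ω, stabilizer N a = ⊥) :
    ∃ p : ℕ, p.Prime ∧ Fintype.card Ω = 2 ^ p := by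
  classical
  haveI := ZassenhausNormal.finite_of_faithful (G := G) (Ω := Ω) inferInstance
  obtain ⟨g₀, hg₀, a, b, hab, hga, hgb⟩ := hfix
  -- an element of prime order fixing `a` and `b`
  obtain ⟨s, hs, hsd⟩ := Nat.exists_prime_and_dvd
    (show orderOf g₀ ≠ 1 from fun e => hg₀ (orderOf_eq_one_iff.1 e))
  haveI := Fact.mk hs
  set x := g₀ ^ (orderOf g₀ / s) with hx
  have hxo : orderOf x = s := orderOf_pow_orderOf_div (orderOf_pos g₀).ne' hsd
  have hx1 : x ≠ 1 := fun e => by rw [e, orderOf_one] at hxo; exact hs.ne_one hxo.symm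
  have hxa : x • a = a := MulAction.mem_stabilizer_iff.1
    (pow_mem (MulAction.mem_stabilizer_iff.2 hga) _)
  have hxb : x • b = b := MulAction.mem_stabilizer_iff.1
    (pow_mem (MulAction.mem_stabilizer_iff.2 hgb) _)
  have hxfix : ∀ c : Ω, x • c = c → c = a ∨ c = b := by
    intro c hc
    by_contra h
    push Not at h
    exact hx1 (h3 x a b c hab (Ne.symm h.2) (Ne.symm h.1) hxa hxb hc)
  -- regularity of `N`
  have hfree : ∀ n ∈ N, ∀ c : Ω, n • c = c → n = 1 := fun n hn c h =>
    congrArg Subtype.val ((Subgroup.eq_bot_iff_forall _).1 (hNr c) ⟨n, hn⟩ h)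
  have hinjN : ∀ {n n' : G}, n ∈ N → n' ∈ N → n • a = n' • a → n = n' := fun hn hn' h =>
    (inv_mul_eq_one.1 (hfree _ (mul_mem (inv_mem hn') hn) a (by
      rw [mul_smul, h, inv_smul_smul]))).symm
  obtain ⟨⟨nb, hnb⟩, hnb' : nb • a = b⟩ := hNt.exists_smul_eq a b
  obtain ⟨hconj, hNc⟩ := ZassenhausNormal.regular_normal_abelian h2 N hNt hfree a
  have hequiv : ∀ {g n : G}, g • a = a → (g * n * g⁻¹) • a = g • n • a := fun {g n} hg => by
    rw [mul_smul, mul_smul, inv_smul_eq_iff.2 hg.symm]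
  have hcx : x * nb * x⁻¹ = nb := hinjN (Subgroup.Normal.conj_mem ‹_› nb hnb x) hnb (by
    rw [hequiv hxa, hnb', hxb])
  have hnb1 : nb ≠ 1 := fun e => hab (by rw [← hnb', e, one_smul])
  have hnb2 : nb * nb = 1 := by
    have h : x • (nb * nb) • a = (nb * nb) • a := by
      rw [← hequiv hxa]
      congr 1
      calc x * (nb * nb) * x⁻¹ = (x * nb * x⁻¹) * (x * nb * x⁻¹) := by group
        _ = nb * nb := by rw [hcx]
    rcases hxfix _ h with h' | h'
    · exact hfree _ (mul_mem hnb hnb) a h'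
    · exact absurd (mul_left_cancel ((hinjN (mul_mem hnb hnb) hnb (h'.trans hnb'.symm)).trans
        (mul_one nb).symm)) hnb1
  have hN2 : ∀ n ∈ N, n * n = 1 := by
    intro n hn
    by_cases h : n = 1
    · rw [h, one_mul]
    obtain ⟨g, rfl⟩ := hconj nb hnb n hn hnb1 h
    calc g * nb * g⁻¹ * (g * nb * g⁻¹) = g * (nb * nb) * g⁻¹ := by group
      _ = 1 := by rw [hnb2]; group
  have hNcard : Nat.card N = Fintype.card Ω := by
    rw [← Nat.card_eq_fintype_card (α := Ω)]
    exact Nat.card_eq_of_bijective (fun n : N => (n : G) • a)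
      ⟨fun n n' h => Subtype.ext (hinjN n.2 n'.2 h), fun c => hNt.exists_smul_eq a c⟩
  -- the stabiliser of `a` and its Frobenius kernel
  let B := stabilizer G a
  let X := {c : Ω // c ≠ a}
  letI : MulAction B X :=
    { smul := fun g c => ⟨(g : G) • c.1, fun e => c.2 (smul_left_cancel (g : G)
        (e.trans (MulAction.mem_stabilizer_iff.mp g.2).symm))⟩
      one_smul := fun c => Subtype.ext (one_smul G c.1)
      mul_smul := fun g k c => Subtype.ext (mul_smul (g : G) (k : G) c.1) }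
  have hXcard : Fintype.card X + 1 = Fintype.card Ω := by
    simp only [X, Fintype.card_subtype_compl, Fintype.card_subtype_eq]
    have : 0 < Fintype.card Ω := Fintype.card_pos_iff.2 ⟨a⟩
    omega
  obtain ⟨c₀, hc₀a, hc₀b⟩ : ∃ c : Ω, c ≠ a ∧ c ≠ b := by
    by_contra h
    push Not at h
    refine hx1 (FaithfulSMul.eq_of_smul_eq_smul fun c : Ω => ?_)
    rw [one_smul]
    by_cases hc : c = a
    · rw [hc, hxa]
    · rw [h c hc, hxb]
  have hXone : 1 < Fintype.card X := Fintype.one_lt_card_iff.2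
    ⟨⟨b, hab.symm⟩, ⟨c₀, hc₀a⟩, fun e => hc₀b (congrArg Subtype.val e).symm⟩
  have htrans : ∀ c d : X, ∃ g : B, g • c = d := fun c d => by
    obtain ⟨g, hg1, hg2⟩ := MulAction.is_two_pretransitive_iff.1 h2 (Ne.symm c.2) (Ne.symm d.2)
    exact ⟨⟨g, hg1⟩, Subtype.ext hg2⟩
  have hBfix : ∀ g : B, g ≠ 1 → ∀ c d : X, g • c = c → g • d = d → c = d := by
    intro g hg c d hc hd
    by_contra h
    exact hg (Subtype.ext (h3 g a c.1 d.1 (Ne.symm c.2) (fun e => h (Subtype.ext e)) (Ne.symm d.2)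
      (MulAction.mem_stabilizer_iff.mp g.2) (congrArg Subtype.val hc) (congrArg Subtype.val hd)))
  obtain ⟨hF, hker⟩ := Cfsg.Agent.S4252.result (G := B) (Ω := X) hXone htrans
    ⟨⟨x, hxa⟩, fun e => hx1 (congrArg Subtype.val e), ⟨b, hab.symm⟩, Subtype.ext hxb⟩ hBfix
    ⟨b, hab.symm⟩
  obtain ⟨Kf, hKf, hKn, hKc⟩ := CfsgLib.Solvable.frobenius_theorem hF
  haveI := hKn
  have hKcard : Nat.card Kf = Fintype.card X := by
    haveI : MulAction.IsPretransitive B X := ⟨htrans⟩
    have h1 := hKc.card_mul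
    have h2' := (stabilizer B (⟨b, hab.symm⟩ : X)).index_mul_card
    rw [MulAction.index_stabilizer_of_transitive, Nat.card_eq_fintype_card] at h2'
    exact Nat.eq_of_mul_eq_mul_right Finite.card_pos (h1.trans h2'.symm)
  have hKfix : ∀ k ∈ Kf, k ≠ 1 → ∀ c : Ω, c ≠ a → (k : G) • c ≠ c := by
    intro k hk hk1 c hc h
    have h' : k ∈ Cfsg.frobeniusKernel (stabilizer B (⟨b, hab.symm⟩ : X)) := hKf ▸ hk
    rw [hker] at h'
    rcases h' with h' | h'
    · exact hk1 h'
    · exact h' ⟨c, hc⟩ (Subtype.ext h)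
  have hKreg : ∀ c d : Ω, c ≠ a → d ≠ a → ∃ k ∈ Kf, (k : G) • c = d := by
    intro c d hc hd
    haveI := Fintype.ofFinite Kf
    have hb : Function.Bijective (fun k : Kf => (k : B) • (⟨c, hc⟩ : X)) := by
      refine (Fintype.bijective_iff_injective_and_card _).2 ⟨fun k l e => ?_, ?_⟩
      · by_contra hkl
        refine hKfix _ (mul_mem (inv_mem k.2) l.2)
          (fun e' => hkl (Subtype.ext (inv_mul_eq_one.1 e'))) c hc ?_
        have e' : ((k : B) : G) • c = ((l : B) : G) • c := congrArg Subtype.val e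
        show (((k : B) : G)⁻¹ * (l : B)) • c = c
        rw [mul_smul, ← e', inv_smul_smul]
      · rw [← Nat.card_eq_fintype_card, hKcard]
    obtain ⟨k, hk⟩ := hb.2 ⟨d, hd⟩
    exact ⟨k.1, k.2, congrArg Subtype.val hk⟩
  -- the kernel is cyclic
  haveI : Group.IsNilpotent Kf := CfsgLib.FGS.isNilpotent_of_fpf_element Kf hs
    (h := (⟨x, hxa⟩ : B)) (by rw [← Subgroup.orderOf_coe]; exact hxo) fun k hk e => by
      by_contra hk1
      have e' : (k : G) * x = x * k := congrArg Subtype.val e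
      have h1 : x • (k : G) • b = (k : G) • b := by rw [← mul_smul, ← e', mul_smul, hxb]
      rcases hxfix _ h1 with h | h
      · exact hab (smul_left_cancel (k : G)
          ((MulAction.mem_stabilizer_iff.1 k.2).trans h.symm))
      · exact hKfix k hk hk1 b hab.symm h
  have hNne : N ≠ ⊥ := fun e => by rw [e, Subgroup.mem_bot] at hnb; exact hnb1 hnb
  have hNeven : 2 ∣ Nat.card N := by
    have h := orderOf_dvd_natCard (⟨nb, hnb⟩ : N)
    rwa [Subgroup.orderOf_mk, orderOf_eq_prime (p := 2) (by rw [sq]; exact hnb2) hnb1] at h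
  set A := Kf.map B.subtype with hA
  have hAfpf : ∀ k ∈ A, k ≠ 1 → N ⊓ Subgroup.centralizer {k} = ⊥ := by
    rintro _ ⟨k, hk, rfl⟩ hk1
    rw [Subgroup.eq_bot_iff_forall]
    intro n hn
    obtain ⟨hn, hnk⟩ := Subgroup.mem_inf.1 hn
    by_contra hn1
    refine hKfix k hk (fun e => hk1 (by rw [e, map_one])) (n • a)
      (fun e => hn1 (hfree n hn a e)) ?_
    have h : n * (k : G) = (k : G) * n := Subgroup.mem_centralizer_singleton_iff.1 hnk
    rw [← mul_smul, ← h, mul_smul, MulAction.mem_stabilizer_iff.1 k.2]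
  haveI : Group.IsNilpotent A :=
    let e := Kf.equivMapOfInjective B.subtype B.subtype_injective
    isNilpotent_of_ker_le_center e.symm.toMonoidHom
      (by rw [(MonoidHom.ker_eq_bot_iff _).2 e.symm.injective]; exact bot_le)
  have hAodd : Odd (Nat.card A) := by
    rw [hA, Subgroup.card_map_of_injective B.subtype_injective, hKcard]
    obtain ⟨k, hk⟩ := hNeven
    rw [Nat.odd_iff]
    omega
  haveI := isCyclic_of_fpf_nilpotent hNne
    (fun k _ => by rw [Subgroup.normalizer_eq_top]; exact Subgroup.mem_top k) hAfpf hAodd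
  obtain ⟨⟨k₀, hk₀⟩, hgen⟩ := IsCyclic.exists_generator (α := A)
  have hk₀a : k₀ • a = a := by
    obtain ⟨k, -, rfl⟩ := hk₀
    exact MulAction.mem_stabilizer_iff.1 k.2
  -- the field
  letI : CommGroup N := { (inferInstance : Group N) with
    mul_comm := fun u v => Subtype.ext (hNc u u.2 v v.2) }
  let φ : MulAut N := MulAut.conjNormal k₀
  have hφpow : ∀ (i : ℕ) (v : N), ((φ ^ i) v : G) = k₀ ^ i * v * (k₀ ^ i)⁻¹ := fun i v => by
    show (((MulAut.conjNormal k₀ : MulAut N) ^ i) v : G) = _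
    rw [← map_pow, MulAut.conjNormal_apply]
  have hφtr : ∀ u v : N, u ≠ 1 → v ≠ 1 → ∃ i : ℕ, (φ ^ i) u = v := by
    intro u v hu hv
    obtain ⟨k, hk, hkuv⟩ := hKreg (u.1 • a) (v.1 • a)
      (fun e => hu (Subtype.ext (hfree _ u.2 a e))) (fun e => hv (Subtype.ext (hfree _ v.2 a e)))
    have hkA : (k : G) ∈ A := Subgroup.mem_map_of_mem _ hk
    obtain ⟨i, hi⟩ := (isOfFinOrder_of_finite (⟨k₀, hk₀⟩ : A)).mem_powers_iff_mem_zpowers.2
      (hgen ⟨k, hkA⟩)
    have hi' : k₀ ^ i = (k : G) := congrArg Subtype.val hi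
    refine ⟨i, Subtype.ext (hinjN ((φ ^ i) u).2 v.2 ?_)⟩
    rw [hφpow, hi', hequiv (MulAction.mem_stabilizer_iff.1 k.2), hkuv]
  obtain ⟨F, hFi, hFt, hFc, lam, θ, hθ, hθadd, hθlam, hθgen⟩ :=
    CyclicModule.exists_field φ hφtr (v₀ := ⟨nb, hnb⟩) (fun e => hnb1 (congrArg Subtype.val e))
      (fun v => Subtype.ext (hN2 v v.2))
  letI := hFi
  letI := hFt
  haveI := hFc
  -- `x` acts semilinearly
  have hxk : ∃ r : ℕ, x * k₀ * x⁻¹ = k₀ ^ r := by
    obtain ⟨k, hk, hk'⟩ := id hk₀
    have hmem : x * k₀ * x⁻¹ ∈ A :=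
      ⟨⟨x, hxa⟩ * k * ⟨x, hxa⟩⁻¹, hKn.conj_mem k hk _, by simp [← hk']⟩
    obtain ⟨i, hi⟩ := (isOfFinOrder_of_finite (⟨k₀, hk₀⟩ : A)).mem_powers_iff_mem_zpowers.2
      (hgen ⟨_, hmem⟩)
    exact ⟨i, (congrArg Subtype.val hi).symm⟩
  obtain ⟨r, hr⟩ := hxk
  let e := Equiv.ofBijective θ hθ
  have he : ∀ v, θ (e.symm v) = v := e.apply_symm_apply
  let ξ : F → F := fun z => e.symm ((MulAut.conjNormal x : MulAut N) (θ z))
  have hξθ : ∀ z, θ (ξ z) = (MulAut.conjNormal x : MulAut N) (θ z) := fun z => he _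
  have hξadd : ∀ u v, ξ (u + v) = ξ u + ξ v := fun u v => hθ.1 (by
    rw [hξθ, hθadd, map_mul, hθadd, hξθ, hξθ])
  have hθpow : ∀ (i : ℕ) (z : F), θ (lam ^ i * z) = (φ ^ i) (θ z) := by
    intro i
    induction i with
    | zero => intro z; rw [pow_zero, one_mul, pow_zero]; rfl
    | succ i ih =>
      intro z
      rw [pow_succ, mul_assoc, ih, hθlam, pow_succ]
      rfl
  have hξlam : ∀ (i : ℕ) (z : F), ξ (lam ^ i * z) = lam ^ (r * i) * ξ z := fun i z => hθ.1 (by
    rw [hξθ, hθpow, hθpow, hξθ]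
    refine Subtype.ext ?_
    rw [hφpow, MulAut.conjNormal_apply, hφpow, MulAut.conjNormal_apply]
    have hp : x * k₀ ^ i * x⁻¹ = k₀ ^ (r * i) := by rw [← conj_pow, hr, ← pow_mul]
    rw [← hp]; group)
  set y₀ := e.symm ⟨nb, hnb⟩ with hy₀
  have hy₀0 : y₀ ≠ 0 := fun h => by
    have h' := congrArg θ h
    rw [he] at h'
    have h0 : θ 0 = 1 := by
      have := hθadd 0 0
      rw [add_zero] at this
      exact left_eq_mul.1 this
    rw [h0] at h'
    exact hnb1 (congrArg Subtype.val h')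
  have hξy₀ : ξ y₀ = y₀ := hθ.1 (by
    rw [hξθ, he]
    exact Subtype.ext (by rw [MulAut.conjNormal_apply]; exact hcx))
  let σf : F → F := fun z => ξ (z * y₀) * y₀⁻¹
  have hσlam : ∀ i : ℕ, σf (lam ^ i) = lam ^ (r * i) := fun i => by
    show ξ (lam ^ i * y₀) * y₀⁻¹ = _
    rw [hξlam, hξy₀, mul_assoc, mul_inv_cancel₀ hy₀0, mul_one]
  have hξinj : Function.Injective ξ := fun u v h => hθ.1 (by
    have := congrArg θ h
    rw [hξθ, hξθ] at this
    exact (MulAut.conjNormal x : MulAut N).injective this)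
  let σhom : F →+* F :=
    { toFun := σf
      map_one' := by
        have h := hσlam 0
        simpa using h
      map_mul' := fun u v => by
        have h0 : σf 0 = 0 := by
          have hz : ξ 0 = 0 := by
            have := hξadd 0 0
            rw [add_zero] at this
            exact left_eq_add.1 this
          show ξ (0 * y₀) * y₀⁻¹ = 0
          rw [zero_mul, hz, zero_mul]
        by_cases hu : u = 0
        · simp [hu, h0]
        by_cases hv : v = 0
        · simp [hv, h0]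
        obtain ⟨i, rfl⟩ := hθgen u hu
        obtain ⟨j, rfl⟩ := hθgen v hv
        rw [← pow_add, hσlam, hσlam, hσlam, mul_add, pow_add]
      map_zero' := by
        have hz : ξ 0 = 0 := by
          have := hξadd 0 0
          rw [add_zero] at this
          exact left_eq_add.1 this
        show ξ (0 * y₀) * y₀⁻¹ = 0
        rw [zero_mul, hz, zero_mul]
      map_add' := fun u v => by
        show ξ ((u + v) * y₀) * y₀⁻¹ = ξ (u * y₀) * y₀⁻¹ + ξ (v * y₀) * y₀⁻¹
        rw [add_mul, hξadd, add_mul] }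
  let σ : F ≃+* F := RingEquiv.ofBijective σhom
    (Finite.injective_iff_bijective.1 σhom.injective)
  have hσapply : ∀ z, σ z = ξ (z * y₀) * y₀⁻¹ := fun _ => rfl
  have hξpow : ∀ (j : ℕ) (z : F), θ (ξ^[j] z) = (MulAut.conjNormal (x ^ j) : MulAut N) (θ z) := by
    intro j
    induction j with
    | zero => intro z; simp
    | succ j ih =>
      intro z
      rw [Function.iterate_succ_apply, ih, hξθ, pow_succ, map_mul]
      rfl
  have hσpow : ∀ (j : ℕ) (z : F), (σ ^ j) z = ξ^[j] (z * y₀) * y₀⁻¹ := by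
    intro j
    induction j with
    | zero => intro z; simp [hy₀0]
    | succ j ih =>
      intro z
      rw [pow_succ]
      show (σ ^ j) (σ z) = _
      rw [ih, hσapply, inv_mul_cancel_right₀ hy₀0, Function.iterate_succ_apply]
  have hσs : σ ^ s = 1 := by
    refine RingEquiv.ext fun z => ?_
    rw [hσpow, show ξ^[s] (z * y₀) = z * y₀ from hθ.1 (by
      rw [hξpow, ← hxo, pow_orderOf_eq_one, map_one]; rfl)]
    show z * y₀ * y₀⁻¹ = z
    rw [mul_assoc, mul_inv_cancel₀ hy₀0, mul_one]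
  have hσfix : ∀ z, σ z = z → z = 0 ∨ z = 1 := by
    intro z hz
    rw [hσapply] at hz
    have h1 : ξ (z * y₀) = z * y₀ := by
      calc ξ (z * y₀) = ξ (z * y₀) * y₀⁻¹ * y₀ := by rw [inv_mul_cancel_right₀ hy₀0]
        _ = z * y₀ := by rw [hz]
    have h2 := hξθ (z * y₀)
    rw [h1] at h2
    have h3' := congrArg (fun v : N => (v : G) • a) h2
    simp only [MulAut.conjNormal_apply] at h3'
    rw [hequiv hxa] at h3'
    rcases hxfix _ h3'.symm with h | h
    · left
      have h4 : θ (z * y₀) = 1 := Subtype.ext (hfree _ (θ (z * y₀)).2 a h)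
      have h5 : z * y₀ = 0 := hθ.1 (h4.trans (by
        have := hθadd 0 0
        rw [add_zero] at this
        exact (left_eq_mul.1 this).symm))
      exact (mul_eq_zero.1 h5).resolve_right hy₀0
    · right
      have h4 : θ (z * y₀) = ⟨nb, hnb⟩ :=
        Subtype.ext (hinjN (θ (z * y₀)).2 hnb (h.trans hnb'.symm))
      have h5 : z * y₀ = y₀ := hθ.1 (h4.trans (he _).symm)
      exact (mul_eq_right₀ hy₀0).1 h5
  have hFcard : Fintype.card F = Fintype.card Ω := by
    rw [← hNcard, ← Nat.card_eq_fintype_card, Nat.card_eq_of_bijective θ hθ]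
  have hσ1 : σ ≠ 1 := by
    intro h
    have hle : Fintype.card F ≤ 2 := by
      rw [← Finset.card_univ]
      refine (Finset.card_le_card (t := ({0, 1} : Finset F)) fun z _ => ?_).trans Finset.card_le_two
      rcases hσfix z (by rw [h]; rfl) with h | h <;> simp [h]
    omega
  haveI : Finite (F ≃+* F) :=
    Finite.of_injective (fun τ => (τ : F → F)) DFunLike.coe_injective
  have hσo : orderOf σ = s := orderOf_eq_prime hσs hσ1
  set S := Subgroup.zpowers σ with hS
  haveI := Fintype.ofFinite S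
  haveI : FaithfulSMul S F := ⟨fun {u v} h => Subtype.ext (RingEquiv.ext h)⟩
  have hfin : Module.finrank (FixedPoints.subfield S F) F = s := by
    rw [FixedPoints.finrank_eq_card, ← Nat.card_eq_fintype_card, hS, Nat.card_zpowers, hσo]
  have hsub : Nat.card (FixedPoints.subfield S F) = 2 := by
    have hset : ((FixedPoints.subfield S F) : Set F) = {0, 1} := by
      ext z
      constructor
      · intro hz
        exact hσfix z (hz ⟨σ, Subgroup.mem_zpowers σ⟩)
      · rintro (rfl | rfl)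
        · exact zero_mem (FixedPoints.subfield S F)
        · exact one_mem (FixedPoints.subfield S F)
    show Nat.card ((FixedPoints.subfield S F) : Set F) = 2
    rw [hset, Nat.card_coe_set_eq, Set.ncard_pair zero_ne_one]
  refine ⟨s, hs, ?_⟩
  rw [← hFcard, ← Nat.card_eq_fintype_card,
    Module.natCard_eq_pow_finrank (K := FixedPoints.subfield S F), hsub, hfin]

end CfsgLib.Suzuki.AffineDegree
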